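import Cfsg.Agent.H122.SNX.Supp
import Cfsg.Agent.H523.DspTab
import Cfsg.Agent.H523.DspPath
import Cfsg.Agent.H196.SN.Cop_m3
import Cfsg.Agent.H65.Disp.Chev
import Cfsg.Agent.H96.Rad2.GTwoThree
import Cfsg.Agent.H478.RadTools_m3
import Cfsg.Prelude.Def_KGroupFacts
import Cfsg.Agent.S2326
import Cfsg.Agent.Lib.PackAll
import Mathlib
import Cfsg.Agent.LieClassical.OrthFinite
import Cfsg.Agent.H216.Rad3.SpSix_m3
import Cfsg.Agent.Lib.MatDec
import Cfsg.Agent.FastGrp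
import Cfsg.Agent.Prune
set_option linter.all false

section
prune_inst 0x7ffdbcfafbb8eddfffff7e7fa6decffc39d19fffe6fffd43ffe0e1ff0b9f030469c56bad8de010fe1ff6623410b87813fb7eeeffe26fdc7ffffdfff41ffbee0fe5ffb50c5196ac340fbc6fff93f0778e7f3fffffffffffffffffffffffffffbeffbfffffffff

-- part: H122/SNX/Final_mg
section
prune_inst 0x1000400122000000180582110000000400009000000001100001040006902009012000400018000808000000040000001000800000000000000400000501200088100281080104200006801082000000000000000000000000000000041004000000000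
set_option linter.all false
open scoped Cfsg.Agent.FastGrp

/-- decoders of the packed data (elaboration time only) -/
private noncomputable def pk61d (b S i : Nat) : Nat := Nat.mod (Nat.shiftRight S (Nat.mul b i)) (Nat.shiftLeft (nat_lit 1) b)
private noncomputable def pk61f {α : Type} (t : Nat) (f : Nat → α) : α := Nat.rec (f Nat.zero) (fun k _ => f (Nat.succ k)) t
private noncomputable def pk61l {α : Type} (f : Nat → α) (s e : Nat) (tl : List α) : List α :=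
  pk61f e fun e => Nat.rec tl (fun k ih => List.cons (pk61f (Nat.sub e (Nat.succ k)) f) ih) (Nat.sub e s)
private noncomputable def lq26ec4e9428 {T : Sort _} (f :
    type_of% (@_root_.List.cons.{0}) →
    type_of% (@_root_.List.nil.{0}) →
    type_of% (@_root_.List.cons.{0} (List Int)) →
    type_of% (@_root_.List.cons.{0} (List Nat)) →
    type_of% (@_root_.List.cons.{0} (Fin 8)) → T) : T :=
  f (@_root_.List.cons.{0}) (@_root_.List.nil.{0}) (@_root_.List.cons.{0} (List Int)) (@_root_.List.cons.{0} (List Nat)) (@_root_.List.cons.{0} (Fin 8))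

-- part: H122/SNX/Move
section
/-!
# Simply laced root group data: commuting root groups, moving a simple coordinate (helper122, for S3831)

* `btwn_add` : a root between two positive roots is their sum;
* `comm_of`, `norm_of` : commuting and normalising root groups;
* `mv` : a simple coordinate `α_a` of `v` can be moved to a neighbouring node `b`.
-/

set_option autoImplicit false
set_option linter.unusedSectionVars false

namespace Cfsg.Agent.H122.SNX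

open CoxeterSystem Cfsg.Agent.ChevalleyStructure.CoxeterGeom Cfsg.Agent.Tits.Roots Cfsg.Agent.Tits.Core
  Cfsg.Agent.Tits.RootComb Cfsg.Agent.Tits.Exchange Cfsg.Agent.Nodes.Reps Cfsg.Agent.Nodes.BNOf
  Cfsg.Agent.Nodes.StabComb Cfsg.Agent.Nodes.Bruhat Cfsg.Agent.Nodes.OppDec Cfsg.Agent.Nodes.LeviDec
  Cfsg.Agent.Nodes.Unique Cfsg.Agent.Nodes.Coroot Cfsg.Agent.Nodes.SimplyLaced
open Cfsg.Agent.H880.Six (PS2)
open scoped commutatorElement

variable {I W Y : Type*} [Fintype I] [DecidableEq I] [Group W] [Group Y] {M : CoxeterMatrix I}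
  {cs : CoxeterSystem M W} {A : I → I → ℤ} {h : IsCartan M A} {p : ℕ} {T : Subgroup Y} {n : I → Y}
  {X : (I → ℤ) → Subgroup Y}

section Laced

variable [Finite W] (h4 : ∀ i j, M i j ≠ 4) (h6 : ∀ i j, M i j ≠ 6)

include h4 h6

theorem ne_neg_of_pos {x y : I → ℤ} (hx : x ∈ RGD.Pos cs h) (hy : y ∈ RGD.Pos cs h) : x ≠ -y := by
  intro he
  have h0 := hx.2
  rw [he] at h0
  exact hy.1.neg.not_pos_neg h0 (neg_nonpos.2 hy.2)

theorem abs_cpr_le {x y : I → ℤ} (hx : x ∈ RGD.Pos cs h) (hy : y ∈ RGD.Pos cs h) (hxy : x ≠ y) :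
    -1 ≤ cpr cs h x y ∧ cpr cs h x y ≤ 1 :=
  abs_le.1 (abs_cpr_le_one cs h h4 h6 hx.1 hy.1 hxy (ne_neg_of_pos h4 h6 hx hy))

theorem btwn_add {x y z : I → ℤ} (hx : x ∈ RGD.Pos cs h) (hy : y ∈ RGD.Pos cs h) (hxy : x ≠ y)
    (hz : Btwn cs h x y z) : z = x + y := by
  have hzx := btwn_ne_left hx.1 hy.1 hx.2 hy.2 hxy hz
  have hzy := btwn_ne_right hx.1 hy.1 hx.2 hy.2 hxy hz
  have hzp : z ∈ RGD.Pos cs h := closed_pos _ hx _ hy _ hz
  obtain ⟨hzr, m, a, b, hm, ha, hb, he⟩ := hz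
  have e1 : m * cpr cs h z x = a * 2 + b * cpr cs h y x := by
    rw [← cpr_smul cs h m z hx.1, he, cpr_add cs h _ _ hx.1, cpr_smul cs h _ _ hx.1, cpr_smul cs h _ _ hx.1,
      cpr_self cs h hx.1]
  have e2 : m * cpr cs h z y = a * cpr cs h x y + b * 2 := by
    rw [← cpr_smul cs h m z hy.1, he, cpr_add cs h _ _ hy.1, cpr_smul cs h _ _ hy.1, cpr_smul cs h _ _ hy.1,
      cpr_self cs h hy.1]
  have e3 : m * 2 = a * cpr cs h x z + b * cpr cs h y z := by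
    rw [← cpr_self cs h hzr, ← cpr_smul cs h m z hzr, he, cpr_add cs h _ _ hzr, cpr_smul cs h _ _ hzr,
      cpr_smul cs h _ _ hzr]
  rw [cpr_symm cs h h4 h6 hx.1 hzr, cpr_symm cs h h4 h6 hy.1 hzr] at e3
  rw [cpr_symm cs h h4 h6 hy.1 hx.1] at e1
  obtain ⟨-, h4'⟩ := abs_cpr_le h4 h6 hzp hx hzx
  obtain ⟨-, h5⟩ := abs_cpr_le h4 h6 hzp hy hzy
  obtain ⟨h61, h62⟩ := abs_cpr_le h4 h6 hx hy hxy
  generalize cpr cs h z x = s at *
  generalize cpr cs h z y = t at *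
  generalize cpr cs h x y = r at *
  have h7 : a * s ≤ a := by nlinarith only [ha, h4']
  have h8 : b * t ≤ b := by nlinarith only [hb, h5]
  have h9 : m * s ≤ m := by nlinarith only [hm, h4']
  have h10 : m * t ≤ m := by nlinarith only [hm, h5]
  have h11 : r = -1 := by
    have : r = -1 ∨ r = 0 ∨ r = 1 := by omega
    rcases this with h | h | h
    · exact h
    · rw [h] at e1 e2; omega
    · rw [h] at e1 e2; omega
  rw [h11] at e1 e2
  have h12 : a = m ∧ b = m := by constructor <;> omega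
  have h13 : m • z = m • (x + y) := by rw [he, smul_add, h12.1, h12.2]
  have h14 : m ≠ 0 := hm.ne'
  funext i
  have h15 := congrFun h13 i
  simp only [Pi.smul_apply, smul_eq_mul] at h15
  exact mul_left_cancel₀ h14 h15

/-- closed sets of positive roots -/
theorem closed_of_add {S : Set (I → ℤ)} (hS : S ⊆ RGD.Pos cs h)
    (hc : ∀ x ∈ S, ∀ y ∈ S, x ≠ y → IsRoot cs h (x + y) → x + y ∈ S) : Closed cs h S := by
  intro x hx y hy z hz
  by_cases hxy : x = y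
  · subst hxy
    rw [btwn_self (hS hx).1 hz]
    exact hx
  · have h1 := btwn_add h4 h6 (hS hx) (hS hy) hxy hz
    have h2 := hz.1
    rw [h1] at h2 ⊢
    exact hc x hx y hy hxy h2

section Grp

variable (R : RGD cs h p T n X)

include R

/-- the commutator of two root groups -/
theorem comm_mem {x y : I → ℤ} (hx : x ∈ RGD.Pos cs h) (hy : y ∈ RGD.Pos cs h) (hxy : x ≠ y) {S : Set (I → ℤ)}
    (hS : IsRoot cs h (x + y) → x + y ∈ S) {a b : Y} (ha : a ∈ X x) (hb : b ∈ X y) : ⁅a, b⁆ ∈ RGD.Sup X S := by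
  refine R.btw_le_Sup (fun z hz => ?_) (R.comm x y hx.1 hy.1 hxy (ne_neg_of_pos h4 h6 hx hy) a ha b hb)
  have h1 := btwn_add h4 h6 hx hy hxy hz
  have h2 := hz.1
  rw [h1] at h2 ⊢
  exact hS h2

/-- commuting root groups -/
theorem comm_of {x y : I → ℤ} (hx : x ∈ RGD.Pos cs h) (hy : y ∈ RGD.Pos cs h) (hxy : x ≠ y)
    (hS : ¬ IsRoot cs h (x + y)) {a b : Y} (ha : a ∈ X x) (hb : b ∈ X y) : a * b = b * a := by
  have h1 := comm_mem h4 h6 R hx hy hxy (S := ∅) (fun h1 => absurd h1 hS) ha hb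
  have h2 : RGD.Sup X (∅ : Set (I → ℤ)) ≤ ⊥ := RGD.Sup_le fun z hz => absurd hz (by simp)
  exact commutatorElement_eq_one_iff_mul_comm.1 (Subgroup.mem_bot.1 (h2 h1))

/-- normalising root groups -/
theorem norm_of {x : I → ℤ} (hx : x ∈ RGD.Pos cs h) {S : Set (I → ℤ)} (hS : S ⊆ RGD.Pos cs h)
    (hc : ∀ y ∈ S, x ≠ y → IsRoot cs h (x + y) → x + y ∈ S) :
    X x ≤ Subgroup.normalizer (RGD.Sup X S : Set Y) := by
  refine R.le_normalizer hx.1 fun y hy => ⟨(hS hy).1, ?_⟩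
  by_cases hxy : x = y
  · exact Or.inl hxy
  · refine Or.inr ⟨ne_neg_of_pos h4 h6 hx (hS hy), fun z hz => ?_⟩
    have h1 := btwn_add h4 h6 hx (hS hy) hxy hz
    have h2 := hz.1
    rw [h1] at h2 ⊢
    exact hc y hy hxy h2

omit [Finite W] h4 h6 R in
theorem conj_mem_of_norm {H : Subgroup Y} {t v : Y} (ht : t ∈ Subgroup.normalizer (H : Set Y)) (hv : v ∈ H) :
    t * v * t⁻¹ ∈ H := (Subgroup.mem_normalizer_iff.1 ht v).1 hv

omit [Finite W] h4 h6 in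
/-- `VJ` is normal in `U` -/
theorem conj_mem_VJ_iff {J : Set I} {t v : Y} (ht : t ∈ RGD.Sup X (RGD.Pos cs h)) :
    t * v * t⁻¹ ∈ VJ cs h X J ↔ v ∈ VJ cs h X J :=
  (Subgroup.mem_normalizer_iff.1 (PJ_le_normalizer_VJ R J (B_le_PJ (RGD.U_le_B ht))) v).symm

end Grp

/-! ### the roots of a subsystem of type `A₂` -/

omit [Finite W] [Fintype I] [DecidableEq I] in
theorem cart_of_three {A : I → I → ℤ} (h : IsCartan M A) {a b : I} (hab : M a b = 3) : a ≠ b ∧ A a b = -1 ∧ A b a = -1 := by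
  have hne : a ≠ b := by
    rintro rfl
    rw [M.diagonal] at hab
    omega
  rcases h.rel a b hne with ⟨h0, h1, h2⟩ | ⟨h0, h1, h2⟩ | ⟨h0, -⟩ | ⟨h0, -⟩
  · omega
  · exact ⟨hne, h1, h2⟩
  · omega
  · omega

omit [Finite W] [Fintype I] [DecidableEq I] in
theorem cart_of_two {A : I → I → ℤ} (h : IsCartan M A) {a b : I} (hab : M a b = 2) : a ≠ b ∧ A a b = 0 ∧ A b a = 0 := by
  have hne : a ≠ b := by
    rintro rfl
    rw [M.diagonal] at hab
    omega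
  rcases h.rel a b hne with ⟨h0, h1, h2⟩ | ⟨h0, h1, h2⟩ | ⟨h0, -⟩ | ⟨h0, -⟩
  · exact ⟨hne, h1, h2⟩
  · omega
  · omega
  · omega

theorem posJ_two {a b : I} (hab : M a b = 3) {x : I → ℤ} (hx : x ∈ PosJ cs h {a, b}) :
    x = sr a ∨ x = sr b ∨ x = sr a + sr b := by
  obtain ⟨hne, hA1, hA2⟩ := cart_of_three h4 h6 h hab
  obtain ⟨h1, h2, h3⟩ := hx
  by_cases e1 : x = sr a
  · exact Or.inl e1
  by_cases e2 : x = sr b
  · exact Or.inr (Or.inl e2)
  right; right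
  have hxe : x = x a • sr a + x b • sr b := by
    funext k
    rw [Pi.add_apply, Pi.smul_apply, Pi.smul_apply, smul_eq_mul, smul_eq_mul]
    by_cases hk : k = a
    · subst hk
      rw [sr_self, sr_ne hne]; ring
    by_cases hk' : k = b
    · subst hk'
      rw [sr_self, sr_ne hk]; ring
    · rw [sr_ne hk, sr_ne hk', h3 k (by rintro (e | e); exacts [hk e, hk' e])]; ring
  have p1 : pairing A a x = 2 * x a - x b := by
    rw [hxe, pairing_add, pairing_smul, pairing_smul, ← hxe]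
    unfold sr
    rw [pairing_single, pairing_single, h.diag, hA1]; ring
  have p2 : pairing A b x = 2 * x b - x a := by
    rw [hxe, pairing_add, pairing_smul, pairing_smul, ← hxe]
    unfold sr
    rw [pairing_single, pairing_single, h.diag, hA2]; ring
  have q1 := abs_cpr_le (cs := cs) (h := h) h4 h6 ⟨h1, h2⟩ ⟨isRoot_sr cs h a, sr_nonneg a⟩ e1
  have q2 := abs_cpr_le (cs := cs) (h := h) h4 h6 ⟨h1, h2⟩ ⟨isRoot_sr cs h b, sr_nonneg b⟩ e2
  rw [cpr_sr, p1] at q1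
  rw [cpr_sr, p2] at q2
  have n1 : 0 ≤ x a := h2 a
  have n2 : 0 ≤ x b := h2 b
  have hx0 : ¬ (x a = 0 ∧ x b = 0) := by
    rintro ⟨u, v⟩
    apply h1.ne_zero
    rw [hxe, u, v, zero_smul, zero_smul, add_zero]
  have : x a = 1 ∧ x b = 1 := by omega
  rw [hxe, this.1, this.2, one_smul, one_smul]

end Laced

/-! ### moving a simple coordinate -/

theorem rep_simple_of {A : I → I → ℤ} {h : IsCartan M A} {a b : I} (hA : A b a = 0) :
    rep cs h (cs.simple b) (sr a) = sr a := by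
  rw [rep_simple_eq, sr, pairing_single, hA, zero_mul, zero_smul, sub_zero]

theorem rep_simple_of' {A : I → I → ℤ} {h : IsCartan M A} {a b : I} (hA : A b a = -1) :
    rep cs h (cs.simple b) (sr a) = sr a + sr b := by
  rw [rep_simple_eq]
  unfold sr
  rw [pairing_single, hA, mul_one, neg_one_smul, sub_neg_eq_add]

section Mv

variable {R : RGD cs h 3 T n X} (Bx : BB R) [Finite W] (h4 : ∀ i j, M i j ≠ 4) (h6 : ∀ i j, M i j ≠ 6)

include Bx h4 h6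

/-- **moving a simple coordinate to a neighbouring node** -/
theorem mv {a b : I} (hab : M a b = 3) {v : Y} (hv : v ∈ RGD.Sup X (RGD.Pos cs h)) (hP : PS2 v)
    (ha : sr a ∈ Sp cs h X v) :
    ∃ g : Y, g * v * g⁻¹ ∈ RGD.Sup X (RGD.Pos cs h) ∧ sr b ∈ Sp cs h X (g * v * g⁻¹) ∧
      ∀ i, M i a = 2 → M i b = 2 → sr i ∈ Sp cs h X v → sr i ∈ Sp cs h X (g * v * g⁻¹) := by
  obtain ⟨hne, hA1, hA2⟩ := cart_of_three h4 h6 h hab
  have hvb : v ∈ VJ cs h X {b} := by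
    rcases Bx.tA2 hab hv hP with h1 | h1
    · exact absurd ha ((mem_VJ_single R hv).1 h1)
    · exact h1
  have pa : sr a ∈ RGD.Pos cs h := ⟨isRoot_sr cs h a, sr_nonneg a⟩
  have pb : sr b ∈ RGD.Pos cs h := ⟨isRoot_sr cs h b, sr_nonneg b⟩
  have pab : sr a + sr b ∈ RGD.Pos cs h := by
    refine ⟨?_, add_nonneg (sr_nonneg a) (sr_nonneg b)⟩
    rw [← rep_simple_of' (cs := cs) (h := h) hA2]
    exact (isRoot_sr cs h a).act _
  have nab : sr a ≠ sr b := fun e => by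
    have := congrFun e a
    rw [sr_self, sr_ne hne] at this
    omega
  have hcases : ∀ x ∈ RGD.Pos cs h, x ≠ sr a → x ≠ sr b → x ≠ sr a + sr b → x ∈ NotJ cs h {a, b} := by
    intro x hx e1 e2 e3
    rcases mem_PosJ_or_NotJ {a, b} hx.1 hx.2 with h1 | h1
    · rcases posJ_two h4 h6 hab h1 with h2 | h2 | h2
      · exact absurd h2 e1
      · exact absurd h2 e2
      · exact absurd h2 e3
    · exact h1
  have hnot : ∀ x : I → ℤ, (∀ k, k ∉ ({a, b} : Set I) → x k = 0) → 0 ≤ x → (2 ≤ x a ∨ 2 ≤ x b) → ¬ IsRoot cs h x := by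
    intro x hx h0 h2 hr
    rcases posJ_two h4 h6 hab ⟨hr, h0, hx⟩ with h1 | h1 | h1
    · rw [h1, sr_self, sr_ne hne.symm] at h2; omega
    · rw [h1, sr_self, sr_ne hne] at h2; omega
    · rw [h1, Pi.add_apply, Pi.add_apply, sr_self, sr_self, sr_ne hne, sr_ne hne.symm] at h2; omega
  have hz : ∀ k, k ∉ ({a, b} : Set I) → (sr a : I → ℤ) k = 0 ∧ (sr b : I → ℤ) k = 0 := by
    intro k hk
    exact ⟨sr_ne (fun e => hk (Or.inl e)), sr_ne (fun e => hk (Or.inr e))⟩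
  have r1 : ¬ IsRoot cs h (sr b + (sr a + sr b)) := by
    refine hnot _ (fun k hk => ?_) (add_nonneg pb.2 pab.2) (Or.inr ?_)
    · rw [Pi.add_apply, Pi.add_apply, (hz k hk).1, (hz k hk).2]; rfl
    · rw [Pi.add_apply, Pi.add_apply, sr_self, sr_ne hne.symm]; norm_num
  have r2 : ¬ IsRoot cs h (sr a + (sr a + sr b)) := by
    refine hnot _ (fun k hk => ?_) (add_nonneg pa.2 pab.2) (Or.inl ?_)
    · rw [Pi.add_apply, Pi.add_apply, (hz k hk).1, (hz k hk).2]; rfl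
    · rw [Pi.add_apply, Pi.add_apply, sr_self, sr_ne hne]; norm_num
  have n1 : sr b ≠ (sr a + sr b : I → ℤ) := fun e => by
    have := congrFun e a
    rw [Pi.add_apply, sr_self, sr_ne hne] at this
    omega
  have n2 : sr a ≠ (sr a + sr b : I → ℤ) := fun e => by
    have := congrFun e b
    rw [Pi.add_apply, sr_self, sr_ne hne.symm] at this
    omega
  -- peel
  have hS1 : NotJ cs h {b} ⊆ RGD.Pos cs h := fun _ hx => ⟨hx.1, hx.2.1⟩
  have hS2 : NotJ cs h {b} \ {sr a} ⊆ RGD.Pos cs h := fun _ hx => hS1 hx.1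
  have hS2e : NotJ cs h {b} \ {sr a} = NotJ cs h {b} ∩ NotJ cs h {a} := by
    ext x
    constructor
    · rintro ⟨h1, h2⟩
      exact ⟨h1, mem_notJ_single.2 ⟨hS1 h1, h2⟩⟩
    · rintro ⟨h1, h2⟩
      exact ⟨h1, (mem_notJ_single.1 h2).2⟩
  have hc2 : Closed cs h (NotJ cs h {b} \ {sr a}) := by
    rw [hS2e]
    exact (closed_notJ _).inter (closed_notJ _)
  obtain ⟨x, hx, y, hy, rfl⟩ := (mem_peel R hS1 (closed_notJ {b}) (x := sr a)
    (mem_notJ_single.2 ⟨pa, nab⟩)).1 hvb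
  obtain ⟨c, hc, z, hz', rfl⟩ := (mem_peel R hS2 hc2 (x := sr a + sr b)
    ⟨mem_notJ_single.2 ⟨pab, n1.symm⟩, n2.symm⟩).1 hy
  have hzV : z ∈ VJ cs h X {a, b} := by
    refine RGD.Sup_mono ?_ hz'
    rintro r ⟨⟨h1, h2⟩, h3⟩
    exact hcases r (hS1 h1) h2 (mem_notJ_single.1 h1).2 h3
  have hx1 : x ≠ 1 := by
    rintro rfl
    rw [one_mul] at ha
    exact (sp_subset hS2 hc2 hy ha).2 rfl
  obtain ⟨t, ht, e⟩ := Bx.surj hab 1 (x := x) (by rwa [map_one, Module.End.one_apply]) hx1 (s := c⁻¹)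
    (by rw [map_one, Module.End.one_apply]; exact inv_mem hc)
  rw [map_one, Module.End.one_apply] at ht
  have htU : t ∈ RGD.Sup X (RGD.Pos cs h) := RGD.le_Sup pb ht
  have hzt : t * z * t⁻¹ ∈ VJ cs h X {a, b} := (conj_mem_VJ_iff R htU).2 hzV
  have e1 : t * c = c * t := comm_of h4 h6 R pb pab n1 r1 ht hc
  have e2 : x * c = c * x := comm_of h4 h6 R pa pab n2 r2 hx hc
  have e3 : t * x * t⁻¹ = c⁻¹ * x := by
    rw [commutatorElement_def] at e
    rw [← e]; group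
  have e4 : t * (x * (c * z)) * t⁻¹ = x * (t * z * t⁻¹) := by
    have h1 : t * (x * (c * z)) * t⁻¹ = (t * x * t⁻¹) * (t * c) * t⁻¹ * (t * z * t⁻¹) := by group
    rw [h1, e1, e3]
    have h2 : c⁻¹ * x * (c * t) * t⁻¹ * (t * z * t⁻¹) = c⁻¹ * (x * c) * (t * z * t⁻¹) := by group
    rw [h2, e2]
    group
  set! v1 := t * (x * (c * z)) * t⁻¹ with hv1; rewrite [← hv1] at e4
  have hSv : ({sr a} ∪ NotJ cs h {a, b} : Set (I → ℤ)) ⊆ RGD.Pos cs h := by
    rintro r (h1 | h1)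
    · rw [Set.mem_singleton_iff] at h1
      rw [h1]; exact pa
    · exact ⟨h1.1, h1.2.1⟩
  have hScl : Closed cs h ({sr a} ∪ NotJ cs h {a, b} : Set (I → ℤ)) := by
    refine closed_of_add h4 h6 hSv ?_
    have key : ∀ r s : I → ℤ, 0 ≤ r → s ∈ NotJ cs h {a, b} → IsRoot cs h (r + s) → r + s ∈ NotJ cs h {a, b} := by
      intro r s h0 hs hr
      obtain ⟨g1, g2, k, hk, g3⟩ := hs
      refine ⟨hr, add_nonneg h0 g2, k, hk, ?_⟩
      rw [Pi.add_apply]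
      have : 0 ≤ r k := h0 k
      omega
    intro r hr s hs hrs hrt
    rcases hs with hs | hs
    · rcases hr with hr | hr
      · rw [Set.mem_singleton_iff] at hr hs
        exact absurd (hr.trans hs.symm) hrs
      · rw [add_comm] at hrt ⊢
        exact Or.inr (key s r (hSv (Or.inl hs)).2 hr hrt)
    · exact Or.inr (key r s (hSv hr).2 hs hrt)
  have hv1S : v1 ∈ RGD.Sup X ({sr a} ∪ NotJ cs h {a, b} : Set (I → ℤ)) := by
    rw [e4]
    exact mul_mem (RGD.le_Sup (Or.inl rfl) hx) (RGD.Sup_mono (Set.subset_union_right) hzt)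
  have hv1U : v1 ∈ RGD.Sup X (RGD.Pos cs h) := RGD.Sup_mono hSv hv1S
  have hkeep : ∀ i, sr i ∈ Sp cs h X (x * (c * z)) → sr i ∈ Sp cs h X v1 := by
    intro i hi
    by_contra hcon
    rw [← mem_VJ_single R hv1U, hv1, conj_mem_VJ_iff R htU, mem_VJ_single R hv] at hcon
    exact hcon hi
  -- the representative of `s_a s_b`
  obtain ⟨k, hk⟩ := exists_rp cs R.nsys (cs.simple a * cs.simple b)
  have hw1 : rep cs h (cs.simple a * cs.simple b) (sr a) = sr b := by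
    rw [rep_mul_apply, rep_simple_of' hA2, map_add, rep_simple_sr, rep_simple_of' hA1]
    abel
  have hwm : cs.simple a * cs.simple b ∈ WJ cs {a, b} :=
    mul_mem (simple_mem_WJ cs (Or.inl rfl)) (simple_mem_WJ cs (Or.inr rfl))
  have hw0 : ∀ r ∈ Sp cs h X v1, 0 ≤ rep cs h (cs.simple a * cs.simple b) r := by
    intro r hr
    rcases sp_subset hSv hScl hv1S hr with h1 | h1
    · rw [Set.mem_singleton_iff] at h1
      rw [h1, hw1]; exact pb.2
    · exact (NotJ.act hwm h1).2.1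
  have hS := sp_conj (R := R) Bx.tr hk hv1U hw0
  have hg : (k * t) * (x * (c * z)) * (k * t)⁻¹ = k * v1 * k⁻¹ := by rw [hv1]; group
  refine ⟨k * t, ?_, ?_, ?_⟩
  · rw [hg]; exact mem_U_of_sp R hk hv1U hw0
  · rw [hg, hS]
    exact ⟨sr a, hkeep a ha, hw1⟩
  · intro i hia hib hi
    rw [hg, hS]
    refine ⟨sr i, hkeep i hi, ?_⟩
    rw [rep_mul_apply, rep_simple_of (cart_of_two h4 h6 h hib).2.2, rep_simple_of (cart_of_two h4 h6 h hia).2.2]

end Mv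

end Cfsg.Agent.H122.SNX
end

-- part: H122/SNX/Eng
section
/-!
# The engine for `E₆(3)`, `E₇(3)`, `E₈(3)` (helper122, for S3831)

`Cmb cs h i j` : the combinatorial facts on the roots; `eng` : a nontrivial unipotent element `v` with `PS2 v` is conjugate into
`X (sr i)`.
-/

set_option autoImplicit false
set_option linter.unusedSectionVars false

namespace Cfsg.Agent.H122.SNX

open CoxeterSystem Cfsg.Agent.ChevalleyStructure.CoxeterGeom Cfsg.Agent.Tits.Roots Cfsg.Agent.Tits.Core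
  Cfsg.Agent.Tits.RootComb Cfsg.Agent.Tits.Exchange Cfsg.Agent.Nodes.Reps Cfsg.Agent.Nodes.BNOf
  Cfsg.Agent.Nodes.StabComb Cfsg.Agent.Nodes.Bruhat Cfsg.Agent.Nodes.OppDec Cfsg.Agent.Nodes.LeviDec
  Cfsg.Agent.Nodes.Unique Cfsg.Agent.Nodes.Coroot Cfsg.Agent.Nodes.SimplyLaced
open Cfsg.Agent.H880.Six (PS2)
open scoped commutatorElement

variable {I W Y : Type*} [Fintype I] [DecidableEq I] [Group W] [Group Y] {M : CoxeterMatrix I}
  {cs : CoxeterSystem M W} {A : I → I → ℤ} {h : IsCartan M A} {p : ℕ} {T : Subgroup Y} {n : I → Y}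
  {X : (I → ℤ) → Subgroup Y}

/-- the nodes other than `i`, `j` -/
def EE {I : Type*} (i j : I) : Set I := {e | e ≠ i ∧ e ≠ j}

/-- **the combinatorial facts** : `i` is the node of the highest root, `j` its neighbour -/
structure Cmb (cs : CoxeterSystem M W) (h : IsCartan M A) (i j : I) : Prop where
  h4 : ∀ a b, M a b ≠ 4
  h6 : ∀ a b, M a b ≠ 6
  hij : M i j = 3
  orth : ∀ e ∈ EE i j, M i e = 2
  con : ∀ e, Relation.ReflTransGen (fun a b => M a b = 3) e i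
  conE : ∀ e ∈ EE i j, ∃ e', M j e' = 3 ∧ M i e' = 2 ∧
    Relation.ReflTransGen (fun a b => M a b = 3 ∧ M i a = 2 ∧ M i b = 2) e e'
  g0 : ∀ x ∈ RGD.Pos cs h, x i = 0 → x j ≤ 1
  g1 : ∀ x ∈ RGD.Pos cs h, x j = 1 → x i ≤ 1
  g2 : ∀ x ∈ RGD.Pos cs h, x j = 0 → x i ≠ 0 → x = sr i
  t0 : ∀ x ∈ RGD.Pos cs h, x i = 0 → x j = 1 → ∃ w ∈ WJ cs (EE i j), rep cs h w x = sr j
  sub : ∀ x ∈ RGD.Pos cs h, x j = 1 → x i = 1 → IsRoot cs h (x - sr i)
  q4 : ∃ (γ : I → ℤ) (p f q : I) (w : W), M p f = 3 ∧ M f q = 3 ∧ M p q = 2 ∧ rep cs h w (sr i) = sr p ∧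
    rep cs h w γ = sr q ∧ (∀ x ∈ RGD.Pos cs h, 2 ≤ x j → 0 ≤ rep cs h w x ∧ rep cs h w x ≠ sr f) ∧
    ∀ x ∈ RGD.Pos cs h, x j = 2 → ∃ u ∈ WJ cs (EE i j), rep cs h u x = γ
  q5 : ∃ (d : I → ℤ) (a b : I) (w : W), M a b = 3 ∧ rep cs h w (sr i) = sr a ∧ rep cs h w d = sr b ∧
    d ∈ RGD.Pos cs h ∧ 3 ≤ d j ∧ ∀ x ∈ RGD.Pos cs h, 3 ≤ x j → x = d ∨ x = d + sr i

section

variable {i j : I} (C : Cmb cs h i j)

include C

theorem Cmb.rep_fix {w : W} (hw : w ∈ WJ cs (EE i j)) : rep cs h w (sr i) = sr i := by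
  unfold WJ at hw
  induction hw using Subgroup.closure_induction with
  | mem w hw =>
    obtain ⟨e, he, rfl⟩ := hw
    exact rep_simple_of (cart_of_two C.h4 C.h6 h (C.orth e he)).2.2
  | one => rw [map_one, Module.End.one_apply]
  | mul v w _ _ ih1 ih2 => rw [rep_mul_apply, ih2, ih1]
  | inv w _ ih => conv_lhs => rw [← ih]
                  rw [rep_inv_apply]

theorem Cmb.apply_j {w : W} (hw : w ∈ WJ cs (EE i j)) (x : I → ℤ) : rep cs h w x j = x j :=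
  Tits.RootComb.rep_apply_of_mem cs h hw x (fun h1 => h1.2 rfl)

omit C in
theorem pos_of_apply {w : W} {x : I → ℤ} (hx : x ∈ RGD.Pos cs h) {k : I} (hk : 0 < rep cs h w x k) :
    rep cs h w x ∈ RGD.Pos cs h := ⟨hx.1.act w, nonneg_of_pos_apply (hx.1.act w) hk⟩

omit C in
theorem sr_pos (cs : CoxeterSystem M W) (h : IsCartan M A) (i : I) : sr i ∈ RGD.Pos cs h :=
  ⟨isRoot_sr cs h i, sr_nonneg i⟩

theorem Cmb.ne : i ≠ j := (cart_of_three C.h4 C.h6 h C.hij).1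

variable [Finite W] {R : RGD cs h 3 T n X} (Bx : BB R)

include Bx

/-- moving along a path -/
theorem mv_path {r : I → I → Prop} (hr : ∀ a b, r a b → M a b = 3) {a b : I} (hab : Relation.ReflTransGen r a b)
    {K : Set I} (hK : ∀ c d, r c d → ∀ k ∈ K, M k c = 2 ∧ M k d = 2)
    {v : Y} (hv : v ∈ RGD.Sup X (RGD.Pos cs h)) (hP : PS2 v) (ha : sr a ∈ Sp cs h X v)
    (hk : ∀ k ∈ K, sr k ∈ Sp cs h X v) :
    ∃ g : Y, g * v * g⁻¹ ∈ RGD.Sup X (RGD.Pos cs h) ∧ sr b ∈ Sp cs h X (g * v * g⁻¹) ∧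
      ∀ k ∈ K, sr k ∈ Sp cs h X (g * v * g⁻¹) := by
  induction hab with
  | refl => exact ⟨1, by rwa [one_mul, inv_one, mul_one], by rwa [one_mul, inv_one, mul_one], fun k hk' => by
      rw [one_mul, inv_one, mul_one]; exact hk k hk'⟩
  | tail _ hbc ih =>
    obtain ⟨g, h1, h2, h3⟩ := ih
    obtain ⟨g', h4, h5, h6⟩ := mv Bx C.h4 C.h6 (hr _ _ hbc) h1 (ps2_conj hP g) h2
    have e : g' * (g * v * g⁻¹) * g'⁻¹ = (g' * g) * v * (g' * g)⁻¹ := by group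
    rw [e] at h4 h5 h6
    refine ⟨g' * g, h4, h5, fun k hk' => h6 k (hK _ _ hbc k hk').1 (hK _ _ hbc k hk').2 (h3 k hk')⟩

/-- step 0 -/
theorem step0 {v : Y} (hv : v ∈ RGD.Sup X (RGD.Pos cs h)) (hP : PS2 v) (hv1 : v ≠ 1) :
    ∃ g : Y, g * v * g⁻¹ ∈ RGD.Sup X (RGD.Pos cs h) ∧ sr i ∈ Sp cs h X (g * v * g⁻¹) := by
  have h1 : v ∉ VJ cs h X (Set.univ : Set I) := by
    intro h2
    have h3 : VJ cs h X (Set.univ : Set I) ≤ ⊥ :=
      RGD.Sup_le fun z hz => by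
        obtain ⟨-, -, k, hk, -⟩ := hz
        exact absurd (Set.mem_univ k) hk
    exact hv1 (Subgroup.mem_bot.1 (h3 h2))
  obtain ⟨w, -, k, -, h2, a, -, h3⟩ := Bx.ew hv h1
  rw [mem_VJ_single R h2, not_not] at h3
  obtain ⟨g, h4, h5, -⟩ := mv_path C Bx (r := fun a b => M a b = 3) (fun _ _ h => h) (C.con a) (K := ∅)
    (fun _ _ _ k hk => absurd hk (by simp)) h2 (ps2_conj hP k) h3 (fun k hk => absurd hk (by simp))
  have e : g * (k * v * k⁻¹) * g⁻¹ = (g * k) * v * (g * k)⁻¹ := by group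
  rw [e] at h4 h5
  exact ⟨g * k, h4, h5⟩

/-- step 1 -/
theorem step1 {v : Y} (hv : v ∈ RGD.Sup X (RGD.Pos cs h)) (hP : PS2 v) (hi : sr i ∈ Sp cs h X v) :
    Sp cs h X v ⊆ NotJ cs h (EE i j) := by
  rw [← mem_VJ_iff R hv]
  by_contra hcon
  obtain ⟨w, hw, k, hk, h2, a, ha, h3⟩ := Bx.ew hv hcon
  rw [mem_VJ_single R h2, not_not] at h3
  have h4 : sr i ∈ Sp cs h X (k * v * k⁻¹) := by
    rw [sp_conj (R := R) Bx.tr hk hv fun x hx => nonneg_of_conj (R := R) Bx.tr hk hv h2 hx]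
    exact ⟨sr i, hi, C.rep_fix hw⟩
  obtain ⟨b, hb1, hb2, hb3⟩ := C.conE a ha
  obtain ⟨g, h5, h6, h7⟩ := mv_path C Bx (r := fun a b => M a b = 3 ∧ M i a = 2 ∧ M i b = 2) (fun _ _ h => h.1) hb3
    (K := {i}) (fun c d hcd k hk => by rw [Set.mem_singleton_iff] at hk; rw [hk]; exact hcd.2) h2 (ps2_conj hP k) h3
    (fun k hk => by rw [Set.mem_singleton_iff] at hk; rw [hk]; exact h4)
  have h8 := h7 i rfl
  have hP' := ps2_conj (ps2_conj hP k) g
  have h9 : g * (k * v * k⁻¹) * g⁻¹ ∈ VJ cs h X {j} := by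
    rcases Bx.tA2 C.hij h5 hP' with h | h
    · exact absurd h8 ((mem_VJ_single R h5).1 h)
    · exact h
  rcases Bx.tA3 C.hij hb1 hb2 h9 hP' with h | h
  · exact (mem_VJ_single R h5).1 h h8
  · exact (mem_VJ_single R h5).1 h h6

/-- step 2 -/
theorem step2 {v : Y} (hv : v ∈ RGD.Sup X (RGD.Pos cs h)) (hP : PS2 v) (hi : sr i ∈ Sp cs h X v) {x : I → ℤ}
    (hx : x ∈ Sp cs h X v) : 1 ≤ x i ∧ (x ≠ sr i → 1 ≤ x j) := by
  have h1 := step1 C Bx hv hP hi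
  have hxp := sp_pos hv hx
  have n1 : 0 ≤ x i := hxp.2 i
  have n2 : 0 ≤ x j := hxp.2 j
  have h2 : 1 ≤ x i := by
    by_contra hcon
    have e1 : x i = 0 := by omega
    have e2 : x j = 1 := by
      have h3 := C.g0 x hxp e1
      obtain ⟨-, -, k, hk, hk0⟩ := h1 hx
      by_cases hki : k = i
      · rw [hki] at hk0; omega
      by_cases hkj : k = j
      · rw [hkj] at hk0; omega
      · exact absurd ⟨hki, hkj⟩ hk
    obtain ⟨w, hw, h4⟩ := C.t0 x hxp e1 e2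
    exact t2 Bx C.hij hv hP w (fun y hy => (NotJ.act hw (h1 hy)).2.1) (C.rep_fix hw) h4 hi hx
  refine ⟨h2, fun hne => ?_⟩
  by_contra hcon
  exact hne (C.g2 x hxp (by omega) (by omega))

end

/-! ### killing the coordinates of level one -/

/-- the positive roots with `α_j`-coefficient at least two -/
def SS (cs : CoxeterSystem M W) (h : IsCartan M A) (j : I) : Set (I → ℤ) := {x | x ∈ RGD.Pos cs h ∧ 2 ≤ x j}

section

variable {i j : I} (C : Cmb cs h i j) [Finite W]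

include C

theorem closed_SL {L : Set (I → ℤ)} (hL : ∀ x ∈ L, x ∈ RGD.Pos cs h ∧ x j = 1 ∧ x i = 1) :
    Closed cs h ({sr i} ∪ (L ∪ SS cs h j)) := by
  have hij := C.ne
  have hS : ({sr i} ∪ (L ∪ SS cs h j) : Set (I → ℤ)) ⊆ RGD.Pos cs h := by
    rintro x (hx | hx | hx)
    · rw [Set.mem_singleton_iff] at hx; rw [hx]; exact sr_pos cs h i
    · exact (hL x hx).1
    · exact hx.1
  have key : ∀ x ∈ ({sr i} ∪ (L ∪ SS cs h j) : Set (I → ℤ)), ∀ y ∈ (L ∪ SS cs h j : Set (I → ℤ)),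
      IsRoot cs h (x + y) → x + y ∈ ({sr i} ∪ (L ∪ SS cs h j) : Set (I → ℤ)) := by
    intro x hx y hy hr
    have hp : x + y ∈ RGD.Pos cs h :=
      ⟨hr, add_nonneg (hS hx).2 (hS (Or.inr hy)).2⟩
    have e1 : (x + y) j = x j + y j := rfl
    have e2 : (x + y) i = x i + y i := rfl
    have hyj : 1 ≤ y j := by
      rcases hy with hy | hy
      · rw [(hL y hy).2.1]
      · have := hy.2; omega
    rcases hx with hx | hx
    · rw [Set.mem_singleton_iff] at hx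
      rw [hx, sr_ne hij.symm] at e1
      rw [hx, sr_self] at e2
      rw [← hx] at e1 e2
      rcases hy with hy | hy
      · exfalso
        have h1 := C.g1 _ hp (by rw [e1, (hL y hy).2.1]; rfl)
        rw [e2, (hL y hy).2.2] at h1
        omega
      · refine Or.inr (Or.inr ⟨hp, ?_⟩)
        have := hy.2
        omega
    · refine Or.inr (Or.inr ⟨hp, ?_⟩)
      have hxj : 1 ≤ x j := by
        rcases hx with hx | hx
        · rw [(hL x hx).2.1]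
        · have := hx.2; omega
      omega
  refine closed_of_add C.h4 C.h6 hS fun x hx y hy hxy hr => ?_
  rcases hy with hy | hy
  · rcases hx with hx | hx
    · rw [Set.mem_singleton_iff] at hx hy
      exact absurd (hx.trans hy.symm) hxy
    · rw [add_comm] at hr ⊢
      exact key y (Or.inl hy) x hx hr
  · exact key x hx y hy hr

theorem closed_LS {L : Set (I → ℤ)} (hL : ∀ x ∈ L, x ∈ RGD.Pos cs h ∧ x j = 1 ∧ x i = 1) :
    Closed cs h (L ∪ SS cs h j) := by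
  have hS : (L ∪ SS cs h j : Set (I → ℤ)) ⊆ RGD.Pos cs h := by
    rintro x (hx | hx)
    · exact (hL x hx).1
    · exact hx.1
  have hj : ∀ x ∈ (L ∪ SS cs h j : Set (I → ℤ)), 1 ≤ x j := by
    rintro x (hx | hx)
    · rw [(hL x hx).2.1]
    · have := hx.2; omega
  refine closed_of_add C.h4 C.h6 hS fun x hx y hy _ hr =>
    Or.inr ⟨⟨hr, add_nonneg (hS hx).2 (hS hy).2⟩, ?_⟩
  have h1 := hj x hx
  have h2 := hj y hy
  have e1 : (x + y) j = x j + y j := rfl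
  omega

variable {R : RGD cs h 3 T n X} (Bx : BB R)

include Bx

/-- step 3 -/
theorem step3 {L : Set (I → ℤ)} (hfin : L.Finite) (hL : ∀ x ∈ L, x ∈ RGD.Pos cs h ∧ x j = 1 ∧ x i = 1) {v : Y}
    (hv : v ∈ RGD.Sup X ({sr i} ∪ (L ∪ SS cs h j))) (hi : sr i ∈ Sp cs h X v) :
    ∃ g : Y, g * v * g⁻¹ ∈ RGD.Sup X ({sr i} ∪ SS cs h j) ∧ sr i ∈ Sp cs h X (g * v * g⁻¹) := by
  induction L, hfin using Set.Finite.induction_on generalizing v with
  | empty =>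
    refine ⟨1, ?_, ?_⟩
    · rw [one_mul, inv_one, mul_one]
      rwa [Set.empty_union] at hv
    · rwa [one_mul, inv_one, mul_one]
  | @insert γ L' hγ _ ih =>
    have hij := C.ne
    have hL' : ∀ x ∈ L', x ∈ RGD.Pos cs h ∧ x j = 1 ∧ x i = 1 := fun x hx => hL x (Or.inr hx)
    obtain ⟨g1, g2, g3⟩ := hL γ (Or.inl rfl)
    have hposS : ({sr i} ∪ (insert γ L' ∪ SS cs h j) : Set (I → ℤ)) ⊆ RGD.Pos cs h := by
      rintro x (hx | hx | hx)
      · rw [Set.mem_singleton_iff] at hx; rw [hx]; exact sr_pos cs h i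
      · exact (hL x hx).1
      · exact hx.1
    have hU : v ∈ RGD.Sup X (RGD.Pos cs h) := RGD.Sup_mono hposS hv
    -- peel
    obtain ⟨a, ha, y, hy, rfl⟩ := (mem_peel R hposS (closed_SL C hL) (x := sr i) (Or.inl rfl)).1 hv
    have hy' : y ∈ RGD.Sup X (insert γ L' ∪ SS cs h j) := by
      refine RGD.Sup_mono ?_ hy
      rintro x ⟨hx | hx, hx'⟩
      · exact absurd hx hx'
      · exact hx
    have hpos2 : (insert γ L' ∪ SS cs h j : Set (I → ℤ)) ⊆ RGD.Pos cs h := fun x hx => hposS (Or.inr hx)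
    obtain ⟨c, hc, b, hb, rfl⟩ := (mem_peel R hpos2 (closed_LS C hL) (x := γ) (Or.inl (Or.inl rfl))).1 hy'
    have hb' : b ∈ RGD.Sup X (L' ∪ SS cs h j) := by
      refine RGD.Sup_mono ?_ hb
      rintro x ⟨(hx | hx) | hx, hx'⟩
      · exact absurd hx hx'
      · exact Or.inl hx
      · exact Or.inr hx
    have hpos3 : (L' ∪ SS cs h j : Set (I → ℤ)) ⊆ RGD.Pos cs h := by
      rintro x (hx | hx)
      · exact (hL' x hx).1
      · exact hx.1
    have ha1 : a ≠ 1 := by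
      rintro rfl
      rw [one_mul] at hi
      have h1 := sp_subset hpos2 (closed_LS C hL) hy' hi
      have h2 : 1 ≤ (sr i : I → ℤ) j := by
        rcases h1 with h1 | h1
        · rw [(hL _ h1).2.1]
        · have := h1.2; omega
      rw [sr_ne hij.symm] at h2
      omega
    -- the root `δ = γ - α_i`
    obtain ⟨δ, hδ⟩ : ∃ δ, δ = γ - sr i := ⟨_, rfl⟩
    have e1 : δ j = 1 := by rw [hδ, Pi.sub_apply, g2, sr_ne hij.symm]; rfl
    have e2 : δ i = 0 := by rw [hδ, Pi.sub_apply, g3, sr_self]; rfl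
    have hδr : IsRoot cs h δ := hδ ▸ C.sub γ g1 g2 g3
    have hδp : δ ∈ RGD.Pos cs h := ⟨hδr, nonneg_of_pos_apply hδr (by rw [e1]; exact one_pos)⟩
    have hδγ : δ + sr i = γ := by rw [hδ]; abel
    obtain ⟨w, hw, h3⟩ := C.t0 δ hδp e2 e1
    have hw' : w⁻¹ ∈ WJ cs (EE i j) := inv_mem hw
    have f1 : rep cs h w⁻¹ (sr i) = sr i := C.rep_fix hw'
    have f2 : rep cs h w⁻¹ (sr j) = δ := by rw [← h3, rep_inv_apply]
    obtain ⟨t, ht, ht'⟩ := Bx.surj C.hij w⁻¹ (x := a) (by rw [f1]; exact ha) ha1 (s := c⁻¹) (by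
      rw [map_add, f1, f2, add_comm, hδγ]; exact inv_mem hc)
    rw [f2] at ht
    have htU : t ∈ RGD.Sup X (RGD.Pos cs h) := RGD.le_Sup hδp ht
    -- `t b t⁻¹`
    have hj3 : ∀ x ∈ (L' ∪ SS cs h j : Set (I → ℤ)), 1 ≤ x j := by
      rintro x (hx | hx)
      · rw [(hL' x hx).2.1]
      · have := hx.2; omega
    have htb : t * b * t⁻¹ ∈ RGD.Sup X (L' ∪ SS cs h j) := by
      refine conj_mem_of_norm (norm_of C.h4 C.h6 R hδp hpos3 (fun y hy _ hr => Or.inr ⟨⟨hr, add_nonneg hδp.2 (hpos3 hy).2⟩, ?_⟩) ht) hb'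
      have h5 := hj3 y hy
      have h6 : (δ + y) j = δ j + y j := rfl
      omega
    -- `t c t⁻¹ = c e`
    have hδγ' : δ ≠ γ := fun e => by rw [e, g3] at e2; omega
    have hcomm : ⁅t, c⁆ ∈ RGD.Sup X (SS cs h j) := by
      refine comm_mem C.h4 C.h6 R hδp g1 hδγ' (S := SS cs h j) (fun hr => ⟨⟨hr, add_nonneg hδp.2 g1.2⟩, ?_⟩) ht hc
      have h6 : (δ + γ) j = δ j + γ j := rfl
      omega
    have hcn : c⁻¹ ∈ Subgroup.normalizer (RGD.Sup X (SS cs h j) : Set Y) := by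
      refine inv_mem (norm_of C.h4 C.h6 R g1 (S := SS cs h j) (fun x hx => hx.1) (fun y hy _ hr => ⟨⟨hr, add_nonneg g1.2 hy.1.2⟩, ?_⟩) hc)
      have h5 := hy.2
      have h6 : (γ + y) j = γ j + y j := rfl
      omega
    have he' := conj_mem_of_norm hcn hcomm
    -- `a c = c a`
    have hac : a * c = c * a := by
      refine comm_of C.h4 C.h6 R (sr_pos cs h i) g1 (fun e => ?_) (fun hr => ?_) ha hc
      · rw [← e, sr_ne hij.symm] at g2; omega
      · have h5 := C.g1 (sr i + γ) ⟨hr, add_nonneg (sr_nonneg i) g1.2⟩ (by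
          rw [Pi.add_apply, sr_ne hij.symm, g2]; rfl)
        rw [Pi.add_apply, sr_self, g3] at h5
        omega
    have e3 : t * a * t⁻¹ = c⁻¹ * a := by
      rw [commutatorElement_def] at ht'
      rw [← ht']; group
    have e4 : t * (a * (c * b)) * t⁻¹ = a * ((c⁻¹ * ⁅t, c⁆ * c⁻¹⁻¹) * (t * b * t⁻¹)) := by
      have h1 : t * (a * (c * b)) * t⁻¹ = (t * a * t⁻¹) * (t * c * t⁻¹) * (t * b * t⁻¹) := by group
      have h2 : t * c * t⁻¹ = ⁅t, c⁆ * c := by rw [commutatorElement_def]; group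
      have h3 : c⁻¹ * a = a * c⁻¹ := by
        have := congrArg (fun y => c⁻¹ * y * c⁻¹) hac
        have e5 : c⁻¹ * (a * c) * c⁻¹ = c⁻¹ * a := by group
        have e6 : c⁻¹ * (c * a) * c⁻¹ = a * c⁻¹ := by group
        rw [e5, e6] at this
        exact this
      rw [h1, e3, h2, h3]
      group
    have hnew : t * (a * (c * b)) * t⁻¹ ∈ RGD.Sup X ({sr i} ∪ (L' ∪ SS cs h j)) := by
      rw [e4]
      refine mul_mem (RGD.le_Sup (Or.inl rfl) ha) (mul_mem ?_ ?_)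
      · exact RGD.Sup_mono (fun x hx => Or.inr (Or.inr hx)) he'
      · exact RGD.Sup_mono (fun x hx => Or.inr hx) htb
    have hnewU : t * (a * (c * b)) * t⁻¹ ∈ RGD.Sup X (RGD.Pos cs h) := mul_mem (mul_mem htU hU) (inv_mem htU)
    have hi' : sr i ∈ Sp cs h X (t * (a * (c * b)) * t⁻¹) := by
      by_contra hcon
      rw [← mem_VJ_single R hnewU, conj_mem_VJ_iff R htU, mem_VJ_single R hU] at hcon
      exact hcon hi
    obtain ⟨g, k1, k2⟩ := ih hL' hnew hi'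
    have e : g * (t * (a * (c * b)) * t⁻¹) * g⁻¹ = (g * t) * (a * (c * b)) * (g * t)⁻¹ := by group
    rw [e] at k1 k2
    exact ⟨g * t, k1, k2⟩

/-- steps 4 and 5 -/
theorem step45 {v : Y} (hP : PS2 v)
    (hv : v ∈ RGD.Sup X ({sr i} ∪ SS cs h j)) (hi : sr i ∈ Sp cs h X v) :
    ∃ g : Y, ∃ u ∈ X (sr i), g * v * g⁻¹ = u := by
  have hij := C.ne
  have hSS : ({sr i} ∪ SS cs h j : Set (I → ℤ)) ⊆ RGD.Pos cs h := by
    rintro x (hx | hx)
    · rw [Set.mem_singleton_iff] at hx; rw [hx]; exact sr_pos cs h i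
    · exact hx.1
  have hU := RGD.Sup_mono hSS hv
  have hcl : Closed cs h ({sr i} ∪ SS cs h j) := by
    have := closed_SL C (L := ∅) (fun x hx => absurd hx (by simp))
    rwa [Set.empty_union] at this
  have hsp := sp_subset hSS hcl hv
  -- step 4
  have s4 : ∀ x ∈ Sp cs h X v, x ≠ sr i → 3 ≤ x j := by
    intro x hx hne
    have hx2 : x ∈ SS cs h j := (hsp hx).resolve_left hne
    by_contra hcon
    have e : x j = 2 := by have := hx2.2; omega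
    obtain ⟨γ, p, f, q, w, m1, m2, m3, r1, r2, r3, r4⟩ := C.q4
    obtain ⟨u, hu, r5⟩ := r4 x hx2.1 e
    have hall : ∀ y ∈ Sp cs h X v, 0 ≤ rep cs h (w * u) y ∧ rep cs h (w * u) y ≠ sr f := by
      intro y hy
      rw [rep_mul_apply]
      rcases hsp hy with hy1 | hy1
      · rw [Set.mem_singleton_iff] at hy1
        rw [hy1, C.rep_fix hu, r1]
        refine ⟨sr_nonneg p, fun e => ?_⟩
        have h1 := congrFun e p
        rw [sr_self, sr_ne (cart_of_three C.h4 C.h6 h m1).1] at h1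
        omega
      · have h1 : 2 ≤ rep cs h u y j := by rw [C.apply_j hu]; exact hy1.2
        exact r3 _ (pos_of_apply hy1.1 (k := j) (by omega)) h1
    exact t3 Bx m1 m2 m3 hU hP (w * u) (fun y hy => (hall y hy).1) (fun y hy => (hall y hy).2)
      (γ := sr i) (δ := x) (by rw [rep_mul_apply, C.rep_fix hu, r1]) (by rw [rep_mul_apply, r5, r2]) hi hx
  -- step 5
  obtain ⟨d, a, b, w, m1, r1, r2, hd, hd3, r3⟩ := C.q5
  have s5 : ∀ x ∈ Sp cs h X v, x = sr i ∨ x = d ∨ x = d + sr i := by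
    intro x hx
    by_cases hne : x = sr i
    · exact Or.inl hne
    · exact Or.inr (r3 x (sp_pos hU hx) (s4 x hx hne))
  have s6 : d ∉ Sp cs h X v := by
    intro hdS
    refine t2 Bx m1 hU hP w (fun x hx => ?_) r1 r2 hi hdS
    rcases s5 x hx with e | e | e
    · rw [e, r1]; exact sr_nonneg a
    · rw [e, r2]; exact sr_nonneg b
    · rw [e, map_add, r1, r2]; exact add_nonneg (sr_nonneg b) (sr_nonneg a)
  have s7 : Sp cs h X v ⊆ {sr i, d + sr i} := by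
    intro x hx
    rcases s5 x hx with e | e | e
    · exact Or.inl e
    · exact absurd hx (e ▸ s6)
    · exact Or.inr e
  -- the roots
  have hdi : IsRoot cs h (d + sr i) := by
    have h1 : d + sr i = rep cs h w⁻¹ (sr b + sr a) := by rw [← r1, ← r2, ← map_add, rep_inv_apply]
    rw [h1]
    have h2 : sr b + sr a = rep cs h (cs.simple a) (sr b) := (rep_simple_of' (cart_of_three C.h4 C.h6 h m1).2.1).symm
    rw [h2]
    exact ((isRoot_sr cs h b).act _).act _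
  have hdi' : d + sr i ∈ RGD.Pos cs h := ⟨hdi, add_nonneg hd.2 (sr_nonneg i)⟩
  have hne0 : ∀ k : I, (sr k : I → ℤ) ≠ 0 := fun k e => by
    have := congrFun e k
    rw [sr_self] at this
    exact absurd this one_ne_zero
  have n1 : sr i ≠ d + sr i := fun e => hd.1.ne_zero (by
    have : (0 : I → ℤ) + sr i = d + sr i := by rw [zero_add]; exact e
    exact (add_right_cancel this).symm)
  have n2 : d ≠ d + sr i := fun e => hne0 i (by
    have : d + 0 = d + sr i := by rw [add_zero]; exact e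
    exact (add_left_cancel this).symm)
  have hpp : ({sr i, d + sr i} : Set (I → ℤ)) ⊆ RGD.Pos cs h := by
    rintro x (hx | hx)
    · rw [hx]; exact sr_pos cs h i
    · rw [hx]; exact hdi'
  have nr1 : ¬ IsRoot cs h (sr i + (d + sr i)) := by
    intro hr
    have h2 : (sr i + (d + sr i)) j = (sr i : I → ℤ) j + (d j + (sr i : I → ℤ) j) := rfl
    rw [sr_ne hij.symm] at h2
    rcases r3 _ ⟨hr, add_nonneg (sr_nonneg i) hdi'.2⟩ (by rw [h2]; omega) with e | e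
    · have h1 := congrFun e i
      have h3 : (sr i + (d + sr i)) i = (sr i : I → ℤ) i + (d i + (sr i : I → ℤ) i) := rfl
      rw [h3, sr_self] at h1
      omega
    · have h1 := congrFun e i
      have h3 : (sr i + (d + sr i)) i = (sr i : I → ℤ) i + (d i + (sr i : I → ℤ) i) := rfl
      have h4 : (d + sr i) i = d i + (sr i : I → ℤ) i := rfl
      rw [h3, h4, sr_self] at h1
      omega
  have nr2 : ¬ IsRoot cs h (d + (d + sr i)) := by
    intro hr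
    have h2 : (d + (d + sr i)) j = d j + (d j + (sr i : I → ℤ) j) := rfl
    rw [sr_ne hij.symm] at h2
    have h6 : ∀ k, (d + sr i) k = d k + (sr i : I → ℤ) k := fun _ => rfl
    rcases r3 _ ⟨hr, add_nonneg hd.2 hdi'.2⟩ (by rw [h2]; omega) with e | e
    · have h1 := congrFun e j
      rw [h2] at h1
      omega
    · have h1 := congrFun e j
      rw [h2, h6, sr_ne hij.symm] at h1
      omega
  have hcl2 : Closed cs h ({sr i, d + sr i} : Set (I → ℤ)) := by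
    refine closed_of_add C.h4 C.h6 hpp fun x hx y hy hxy hr => ?_
    exfalso
    rcases hx with hx | hx <;> rcases hy with hy | hy
    · exact hxy (hx.trans hy.symm)
    · rw [hx, hy] at hr
      exact nr1 hr
    · rw [hx, hy, add_comm] at hr
      exact nr1 hr
    · exact hxy (hx.trans hy.symm)
  have hv2 : v ∈ RGD.Sup X {sr i, d + sr i} := RGD.Sup_mono s7 (mem_sp R hU)
  obtain ⟨a', ha', z, hz, rfl⟩ := (mem_peel R hpp hcl2 (x := sr i) (Or.inl rfl)).1 hv2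
  have hz' : z ∈ X (d + sr i) := by
    have h1 : RGD.Sup X ({sr i, d + sr i} \ {sr i}) ≤ X (d + sr i) := by
      refine RGD.Sup_le ?_
      rintro x ⟨hx | hx, hx'⟩
      · exact absurd hx hx'
      · rw [hx]
    exact h1 hz
  have ha1 : a' ≠ 1 := by
    rintro rfl
    rw [one_mul] at hi
    have h1 : Sp cs h X z ⊆ {d + sr i} := by
      refine sp_subset (Set.singleton_subset_iff.2 hdi') ?_ (RGD.le_Sup (S := {d + sr i}) rfl hz')
      intro x hx y hy u hu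
      rw [Set.mem_singleton_iff] at hx hy ⊢
      rw [hx, hy] at hu
      exact btwn_self hdi hu
    exact n1 (h1 hi)
  have f1 : rep cs h w⁻¹ (sr a) = sr i := by rw [← r1, rep_inv_apply]
  have f2 : rep cs h w⁻¹ (sr b) = d := by rw [← r2, rep_inv_apply]
  obtain ⟨t, ht, ht'⟩ := Bx.surj m1 w⁻¹ (x := a') (by rw [f1]; exact ha') ha1 (s := z⁻¹) (by
    rw [map_add, f1, f2, add_comm]; exact inv_mem hz')
  rw [f2] at ht
  have c1 : a' * z = z * a' := comm_of C.h4 C.h6 R (sr_pos cs h i) hdi' n1 nr1 ha' hz'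
  have c2 : t * z = z * t := comm_of C.h4 C.h6 R hd hdi' n2 nr2 ht hz'
  refine ⟨t, a', ha', ?_⟩
  have e3 : t * a' * t⁻¹ = z⁻¹ * a' := by
    rw [commutatorElement_def] at ht'
    rw [← ht']; group
  have h1 : t * (a' * z) * t⁻¹ = (t * a' * t⁻¹) * (t * z) * t⁻¹ := by group
  rw [h1, c2, e3]
  have h2 : z⁻¹ * a' * (z * t) * t⁻¹ = z⁻¹ * (a' * z) := by group
  rw [h2, c1]
  group

/-- **the engine** -/
theorem eng {v : Y} (hv : v ∈ RGD.Sup X (RGD.Pos cs h)) (hP : PS2 v) (hv1 : v ≠ 1) :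
    ∃ g : Y, ∃ u ∈ X (sr i), v = g * u * g⁻¹ := by
  obtain ⟨g, h1, h2⟩ := step0 C Bx hv hP hv1
  have hP1 := ps2_conj hP g
  obtain ⟨L, hLdef⟩ : ∃ L : Set (I → ℤ), L = {x | x ∈ RGD.Pos cs h ∧ x j = 1 ∧ x i = 1} := ⟨_, rfl⟩
  have hL : ∀ x ∈ L, x ∈ RGD.Pos cs h ∧ x j = 1 ∧ x i = 1 := by rw [hLdef]; exact fun x hx => hx
  have h3 : g * v * g⁻¹ ∈ RGD.Sup X ({sr i} ∪ (L ∪ SS cs h j)) := by
    refine RGD.Sup_mono (fun x hx => ?_) (mem_sp R h1)
    have hxp := sp_pos h1 hx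
    obtain ⟨k1, k2⟩ := step2 C Bx h1 hP1 h2 hx
    by_cases hne : x = sr i
    · exact Or.inl hne
    · right
      have k3 := k2 hne
      by_cases k4 : x j = 1
      · left
        rw [hLdef]
        have := C.g1 x hxp k4
        exact ⟨hxp, k4, by omega⟩
      · right
        exact ⟨hxp, by omega⟩
  obtain ⟨g', h4, h5⟩ := step3 C Bx ((finite_pos (cs := cs) (h := h)).subset fun x hx => (hL x hx).1) hL h3 h2
  obtain ⟨g'', u, hu, h6⟩ := step45 C Bx (ps2_conj hP1 g') h4 h5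
  refine ⟨(g'' * g' * g)⁻¹, u, hu, ?_⟩
  rw [← h6]
  group

end

end Cfsg.Agent.H122.SNX
end

-- part: H122/SNX/Tab
section
/-!
# The combinatorial facts from checked tables of roots (helper122, for S3831)
-/

set_option autoImplicit false
set_option linter.unusedSectionVars false

namespace Cfsg.Agent.H122.SNX

open CoxeterSystem Cfsg.Agent.ChevalleyStructure.CoxeterGeom Cfsg.Agent.Tits.Roots Cfsg.Agent.Tits.Core
  Cfsg.Agent.Tits.RootComb Cfsg.Agent.Tits.Exchange Cfsg.Agent.Nodes.Reps Cfsg.Agent.Nodes.BNOf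
  Cfsg.Agent.Nodes.StabComb Cfsg.Agent.H81.PJTab Cfsg.Agent.H523.DspPath Cfsg.Agent.H523.DspTab

/-- the entries of the Coxeter matrix -/
def ent {l : ℕ} (M : CoxeterMatrix (Fin l)) (a b : Fin l) : ℕ := M a b

/-- the action of a word -/
def wact {l : ℕ} (Al : List (List ℤ)) : List (Fin l) → List ℤ → List ℤ
  | [], v => v
  | k :: w, v => rfL Al (wact Al w v) k

/-- the checked facts on the diagram -/
structure DTab {l : ℕ} (M : CoxeterMatrix (Fin l)) (i j : Fin l) (nx : Fin l → Fin l) (rk : Fin l → ℕ) : Prop where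
  h4 : ∀ a b, ent M a b ≠ 4
  h6 : ∀ a b, ent M a b ≠ 6
  hij : ent M i j = 3
  orth : ∀ e, e ≠ i → e ≠ j → ent M i e = 2
  con : ∀ e, e = i ∨ (ent M e (nx e) = 3 ∧ rk (nx e) < rk e)
  conE : ∀ e, e ≠ i → e ≠ j → ent M j e = 3 ∨ (nx e ≠ i ∧ nx e ≠ j)

/-- the checked facts on the roots -/
structure Tab {l : ℕ} (M : CoxeterMatrix (Fin l)) (Al : List (List ℤ)) (L : List (List ℤ)) (i j : Fin l)
    (γ d : List ℤ) (p f q a b : Fin l) (w4 w5 : List (Fin l)) : Prop where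
  g0 : ∀ v ∈ L, v.getD i 0 = 0 → v.getD j 0 ≤ 1
  g1 : ∀ v ∈ L, v.getD j 0 = 1 → v.getD i 0 ≤ 1
  g2 : ∀ v ∈ L, v.getD j 0 = 0 → v.getD i 0 ≠ 0 → v = ei l i
  t0 : ∀ v ∈ L, (v.getD i 0 = 0 ∧ v.getD j 0 = 1) → v = ei l j ∨ ∃ e : Fin l, (e ≠ i ∧ e ≠ j) ∧
    rfL Al v e ∈ L ∧ ((rfL Al v e).getD i 0 = 0 ∧ (rfL Al v e).getD j 0 = 1) ∧ (rfL Al v e).sum < v.sum
  sub : ∀ v ∈ L, v.getD j 0 = 1 → v.getD i 0 = 1 → prL Al v i = 1
  pf : ent M p f = 3
  fq : ent M f q = 3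
  pq : ent M p q = 2
  wi : wact Al w4 (ei l i) = ei l p
  wg : wact Al w4 γ = ei l q
  gl : γ ∈ L
  wS : ∀ v ∈ L, 2 ≤ v.getD j 0 → (∀ x ∈ wact Al w4 v, 0 ≤ x) ∧ wact Al w4 v ≠ ei l f
  t4 : ∀ v ∈ L, v.getD j 0 = 2 → v = γ ∨ ∃ e : Fin l, (e ≠ i ∧ e ≠ j) ∧
    rfL Al v e ∈ L ∧ (rfL Al v e).getD j 0 = 2 ∧ (rfL Al v e).sum < v.sum
  ab : ent M a b = 3
  wi5 : wact Al w5 (ei l i) = ei l a
  wd : wact Al w5 d = ei l b
  dl : d ∈ L
  dj : 3 ≤ d.getD j 0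
  top : ∀ v ∈ L, 3 ≤ v.getD j 0 → v = d ∨ v = List.zipWith (· + ·) d (ei l i)

section

variable {l : ℕ} {Al : List (List ℤ)} {A : Fin l → Fin l → ℤ} {L : List (List ℤ)}
  {W : Type*} [Group W] {M : CoxeterMatrix (Fin l)} (cs : CoxeterSystem M W) (h : IsCartan M A)
  (hS : Sh l Al) (hA : ∀ i j : Fin l, (Al.getD i []).getD j 0 = A i j)
  (hT : RT l Al L (fun _ => 1) (fun _ => 1))

include hS hA

theorem wact_len (w : List (Fin l)) {v : List ℤ} (hv : v.length = l) : (wact Al w v).length = l := by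
  induction w with
  | nil => exact hv
  | cons k w ih => exact (len_rfL _).trans ih

theorem rep_wact (w : List (Fin l)) {v : List ℤ} (hv : v.length = l) :
    rep cs h (cs.wordProd w) (toF l v) = toF l (wact Al w v) := by
  induction w with
  | nil => rw [wordProd_nil, map_one, Module.End.one_apply]; rfl
  | cons k w ih =>
    rw [wordProd_cons, rep_mul_apply, ih, rep_toF cs h hS hA (wact_len hS hA w hv)]
    rfl

include hT

theorem exists_of_pos {x : Fin l → ℤ} (hx : x ∈ RGD.Pos cs h) : ∃ v ∈ L, x = toF l v := by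
  obtain ⟨v, hv, h1 | h1⟩ := spec cs h hS hA hT hx.1
  · exact ⟨v, hv, h1⟩
  · exfalso
    have h2 := toF_nonneg hS hA hT hv
    have h3 := hx.2
    rw [h1] at h3
    exact (isRoot_toF cs h hS hA hT v hv).neg.not_pos_neg h3 (neg_nonpos.2 h2)

/-- orbits -/
theorem orb {K : Set (Fin l)} {P : List ℤ → Prop} {v₀ : List ℤ} (hP : ∀ v ∈ L, P v → v = v₀ ∨ ∃ e : Fin l, e ∈ K ∧
      rfL Al v e ∈ L ∧ P (rfL Al v e) ∧ (rfL Al v e).sum < v.sum) :
    ∀ v ∈ L, P v → ∃ w ∈ WJ cs K, rep cs h w (toF l v) = toF l v₀ := by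
  have key : ∀ (n : ℕ) (v : List ℤ), v ∈ L → P v → v.sum.toNat ≤ n →
      ∃ w ∈ WJ cs K, rep cs h w (toF l v) = toF l v₀ := by
    intro n
    induction n with
    | zero =>
      intro v hv hPv h0
      rcases hP v hv hPv with rfl | ⟨j, -, h1, -, h2⟩
      · exact ⟨1, one_mem _, by rw [map_one, Module.End.one_apply]⟩
      · exfalso
        have h3 : 0 ≤ (rfL Al v j).sum := List.sum_nonneg (hT.nn _ h1)
        omega
    | succ n ih =>
      intro v hv hPv h0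
      rcases hP v hv hPv with rfl | ⟨j, hj, h1, hPj, h2⟩
      · exact ⟨1, one_mem _, by rw [map_one, Module.End.one_apply]⟩
      · have h3 : 0 ≤ (rfL Al v j).sum := List.sum_nonneg (hT.nn _ h1)
        obtain ⟨u, hu, h4⟩ := ih _ h1 hPj (by omega)
        refine ⟨u * cs.simple j, mul_mem hu (simple_mem_WJ cs hj), ?_⟩
        rw [rep_mul_apply, rep_toF cs h hS hA (hT.len v hv), h4]
  intro v hv hPv
  exact key _ v hv hPv le_rfl

omit hS hA hT in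
theorem reach {r : Fin l → Fin l → Prop} {Q : Fin l → Prop} {nx : Fin l → Fin l} {rk : Fin l → ℕ} {K : Fin l → Prop}
    (hc : ∀ e, K e → Q e ∨ (K (nx e) ∧ r e (nx e) ∧ rk (nx e) < rk e)) :
    ∀ (n : ℕ) (e : Fin l), K e → rk e ≤ n → ∃ e', Q e' ∧ Relation.ReflTransGen r e e' := by
  intro n
  induction n with
  | zero =>
    intro e he hn
    rcases hc e he with h1 | ⟨-, -, h2⟩
    · exact ⟨e, h1, Relation.ReflTransGen.refl⟩
    · omega
  | succ n ih =>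
    intro e he hn
    rcases hc e he with h1 | ⟨h0, h1, h2⟩
    · exact ⟨e, h1, Relation.ReflTransGen.refl⟩
    · obtain ⟨e', h3, h4⟩ := ih (nx e) h0 (by omega)
      exact ⟨e', h3, Relation.ReflTransGen.head h1 h4⟩

/-- **the combinatorial facts from the tables** -/
theorem cmb_of [Finite W] {i j : Fin l} {nx : Fin l → Fin l} {rk : Fin l → ℕ} (hD : DTab M i j nx rk) {γ d : List ℤ}
    {p f q a b : Fin l} {w4 w5 : List (Fin l)} (H : Tab M Al L i j γ d p f q a b w4 w5) : Cmb cs h i j where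
  h4 := hD.h4
  h6 := hD.h6
  hij := hD.hij
  orth e he := hD.orth e he.1 he.2
  con e := by
    obtain ⟨e', h1, h2⟩ := reach (r := fun a b => M a b = 3) (Q := fun e => e = i) (K := fun _ => True) (nx := nx)
      (rk := rk) (fun e _ => (hD.con e).imp id fun h => ⟨trivial, h.1, h.2⟩) (rk e) e trivial le_rfl
    rwa [h1] at h2
  conE e he := by
    obtain ⟨e', h1, h2⟩ := reach (r := fun a b => M a b = 3 ∧ M i a = 2 ∧ M i b = 2)
      (Q := fun e => ent M j e = 3 ∧ e ∈ EE i j) (K := fun e => e ∈ EE i j) (nx := nx) (rk := rk) (fun e he => by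
        rcases hD.conE e he.1 he.2 with h1 | h1
        · exact Or.inl ⟨h1, he⟩
        · right
          rcases hD.con e with h2 | h2
          · exact absurd h2 he.1
          · exact ⟨h1, ⟨h2.1, hD.orth e he.1 he.2, hD.orth _ h1.1 h1.2⟩, h2.2⟩) (rk e) e he le_rfl
    exact ⟨e', h1.1, hD.orth e' h1.2.1 h1.2.2, h2⟩
  g0 x hx h0 := by
    obtain ⟨v, hv, rfl⟩ := exists_of_pos cs h hS hA hT hx
    exact H.g0 v hv h0
  g1 x hx h0 := by
    obtain ⟨v, hv, rfl⟩ := exists_of_pos cs h hS hA hT hx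
    exact H.g1 v hv h0
  g2 x hx h0 h1 := by
    obtain ⟨v, hv, rfl⟩ := exists_of_pos cs h hS hA hT hx
    rw [H.g2 v hv h0 h1, toF_ei_sr]
  t0 x hx h0 h1 := by
    obtain ⟨v, hv, rfl⟩ := exists_of_pos cs h hS hA hT hx
    obtain ⟨w, hw, e⟩ := orb cs h hS hA hT (K := EE i j) (P := fun v => v.getD i 0 = 0 ∧ v.getD j 0 = 1)
      (v₀ := ei l j) H.t0 v hv ⟨h0, h1⟩
    exact ⟨w, hw, e.trans (toF_ei_sr j)⟩
  sub x hx h0 h1 := by
    obtain ⟨v, hv, rfl⟩ := exists_of_pos cs h hS hA hT hx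
    have h2 : toF l v - sr i = rep cs h (cs.simple i) (toF l v) := by
      rw [rep_simple_eq, pairing_toF hS hA (hT.len v hv), H.sub v hv h0 h1, one_smul]
    rw [h2]
    exact hx.1.act _
  q4 := by
    have hlen : ∀ k : Fin l, (ei l k).length = l := fun k => hT.len _ (hT.base k).1
    refine ⟨toF l γ, p, f, q, cs.wordProd w4, H.pf, H.fq, H.pq, ?_, ?_, ?_, ?_⟩
    · rw [← toF_ei_sr, rep_wact cs h hS hA w4 (hlen i), H.wi, toF_ei_sr]
    · rw [rep_wact cs h hS hA w4 (hT.len γ H.gl), H.wg, toF_ei_sr]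
    · intro x hx h2
      obtain ⟨v, hv, rfl⟩ := exists_of_pos cs h hS hA hT hx
      obtain ⟨h3, h4⟩ := H.wS v hv h2
      rw [rep_wact cs h hS hA w4 (hT.len v hv)]
      have h5 := wact_len hS hA w4 (hT.len v hv)
      refine ⟨fun k => ?_, fun e => h4 ?_⟩
      · rw [toF_apply h5]
        exact h3 _ (List.getElem_mem _)
      · rw [← toF_ei_sr] at e
        exact toF_inj h5 (hlen f) e
    · intro x hx h2
      obtain ⟨v, hv, rfl⟩ := exists_of_pos cs h hS hA hT hx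
      exact orb cs h hS hA hT (K := EE i j) (P := fun v => v.getD j 0 = 2) (v₀ := γ) H.t4 v hv h2
  q5 := by
    have hlen : ∀ k : Fin l, (ei l k).length = l := fun k => hT.len _ (hT.base k).1
    refine ⟨toF l d, a, b, cs.wordProd w5, H.ab, ?_, ?_, ⟨isRoot_toF cs h hS hA hT d H.dl, toF_nonneg hS hA hT H.dl⟩,
      H.dj, ?_⟩
    · rw [← toF_ei_sr, rep_wact cs h hS hA w5 (hlen i), H.wi5, toF_ei_sr]
    · rw [rep_wact cs h hS hA w5 (hT.len d H.dl), H.wd, toF_ei_sr]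
    · intro x hx h3
      obtain ⟨v, hv, rfl⟩ := exists_of_pos cs h hS hA hT hx
      rcases H.top v hv h3 with h4 | h4
      · exact Or.inl (by rw [h4])
      · right
        have h5 : v.length = l := hT.len v hv
        rw [← toF_ei_sr]
        funext k
        rw [Pi.add_apply, toF_apply h5, toF_apply (hT.len d H.dl), toF_apply (hlen i)]
        have h6 : ∀ (u : List ℤ) (hu : u = List.zipWith (· + ·) d (ei l i)) (hk : (k : ℕ) < u.length),
            u[(k : ℕ)]'hk = d[(k : ℕ)]'(by rw [hT.len d H.dl]; exact k.2) +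
              (ei l i)[(k : ℕ)]'(by rw [hlen i]; exact k.2) := by
          rintro u rfl hk
          rw [List.getElem_zipWith]
        exact h6 v h4 _

end

end Cfsg.Agent.H122.SNX
end

-- part: H122/SNX/Roots
section
/-!
# The combinatorial facts for `E₆`, `E₇`, `E₈` (helper122, for S3831)
-/

set_option autoImplicit false
set_option linter.unusedSectionVars false

namespace Cfsg.Agent.H122.SNX

open CoxeterSystem Cfsg.Agent.ChevalleyStructure.CoxeterGeom Cfsg.Agent.Tits.Roots Cfsg.Agent.Tits.Core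
  Cfsg.Agent.Tits.RootComb Cfsg.Agent.Tits.Exchange Cfsg.Agent.Nodes.Reps Cfsg.Agent.Nodes.BNOf
  Cfsg.Agent.Nodes.StabComb Cfsg.Agent.H81.PJTab Cfsg.Agent.H523.DspPath Cfsg.Agent.H523.DspTab
  Cfsg.Agent.H81.PJExc
open Cfsg.Lie Cfsg.Agent.ChevalleyStructure.CoxeterGeomTypes

/-- a number for a root -/
private noncomputable def key (v : List ℤ) : ℕ := List.rec 0 (fun x _ a => Nat.add (Nat.mul a 8) x.toNat) v

/-- membership -/
private noncomputable def memB (L : List (List ℤ)) (v : List ℤ) : Bool :=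
  Lib.PackMat.force (key v) fun k => List.rec false (fun u _ ih => bif Nat.beq (key u) k then decide (v = u) else ih) L

private theorem memB_spec {v : List ℤ} : ∀ {L : List (List ℤ)}, memB L v = true → v ∈ L
  | [], h => absurd h Bool.false_ne_true
  | u :: L, h => by
    have h1 : (bif Nat.beq (key u) (key v) then decide (v = u) else memB L v) = true := h
    cases hb : Nat.beq (key u) (key v) with
    | false => rw [hb] at h1; exact List.mem_cons_of_mem _ (memB_spec h1)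
    | true => rw [hb] at h1; exact of_decide_eq_true h1 ▸ List.mem_cons_self

private theorem rt_of {l : ℕ} {Al L : List (List ℤ)} (h1 : (L.map key).Nodup) (h2 : ∀ v ∈ L, v.length = l)
    (h3 : ∀ v ∈ L, ∀ x ∈ v, 0 ≤ x) (h4 : ∀ i : Fin l, memB L (ei l i) = true)
    (h5 : ∀ v ∈ L, ∀ j : Fin l, memB L (rfL Al v j) = true ∨ v = ei l j)
    (h6 : ∀ v ∈ L, ∃ j : Fin l, 0 < prL Al v j ∧ (rfL Al v j).sum < v.sum) : RT l Al L (fun _ => 1) (fun _ => 1) where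
  nodup := h1.of_map key
  len := h2
  nn := h3
  base := fun i => ⟨memB_spec (h4 i), rfl⟩
  step := fun v hv j => (h5 v hv j).symm.imp_right fun h => ⟨memB_spec h, rfl⟩
  desc := fun v hv => by
    obtain ⟨j, -, hj⟩ := h6 v hv
    exact (h5 v hv j).symm.imp (fun h => ⟨j, h⟩) fun h => ⟨j, memB_spec h, hj⟩

/-- the positive roots of `E₆` -/
noncomputable def L6 : List (List ℤ) := (beta% delta% lq26ec4e9428 fun a b c _ _ =>
 (let d:=(let d:=(let d:=(c (a 1<|a 1<|a 1<|a 2<|a 2<|a 1<|b)<|c (a 1<|a 1<|a 2<|a 2<|a 1<|a 1<|b)<|c (a 1<|a 1<|a 2<|a 2<|a 2<|a 1<|b)<|c (a 1<|a 1<|a 2<|a 3<|a 2<|a 1<|b)<|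
 c (a 1<|a 2<|a 2<|a 3<|a 2<|a 1<|b)<|b);
 (c (a 1<|a 1<|a 1<|a 2<|a 1<|a 0<|b)<|c (a 0<|a 1<|a 1<|a 2<|a 2<|a 1<|b)<|c (a 1<|a 1<|a 1<|a 2<|a 1<|a 1<|b)<|
 c (a 1<|a 1<|a 2<|a 2<|a 1<|a 0<|b)<|d));
 (let d:=(c (a 0<|a 1<|a 1<|a 2<|a 1<|a 0<|b)<|c (a 1<|a 0<|a 1<|a 1<|a 1<|a 1<|b)<|c (a 1<|a 1<|a 1<|a 1<|a 1<|a 0<|b)<|
 c (a 0<|a 1<|a 1<|a 2<|a 1<|a 1<|b)<|c (a 1<|a 1<|a 1<|a 1<|a 1<|a 1<|b)<|d);
 (c (a 0<|a 1<|a 1<|a 1<|a 1<|a 0<|b)<|c (a 1<|a 0<|a 1<|a 1<|a 1<|a 0<|b)<|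
 c (a 1<|a 1<|a 1<|a 1<|a 0<|a 0<|b)<|c (a 0<|a 1<|a 1<|a 1<|a 1<|a 1<|b)<|d)));
 (let d:=(let d:=(c (a 0<|a 1<|a 0<|a 1<|a 1<|a 0<|b)<|c (a 0<|a 1<|a 1<|a 1<|a 0<|a 0<|b)<|
 c (a 1<|a 0<|a 1<|a 1<|a 0<|a 0<|b)<|c (a 0<|a 0<|a 1<|a 1<|a 1<|a 1<|b)<|c (a 0<|a 1<|a 0<|a 1<|a 1<|a 1<|b)<|d);
 (c (a 0<|a 1<|a 0<|a 1<|a 0<|a 0<|b)<|
 c (a 1<|a 0<|a 1<|a 0<|a 0<|a 0<|b)<|c (a 0<|a 0<|a 0<|a 1<|a 1<|a 1<|b)<|c (a 0<|a 0<|a 1<|a 1<|a 1<|a 0<|b)<|d));
 (let d:=(c (a 0<|a 1<|a 0<|a 0<|a 0<|a 0<|b)<|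
 c (a 1<|a 0<|a 0<|a 0<|a 0<|a 0<|b)<|c (a 0<|a 0<|a 0<|a 0<|a 1<|a 1<|b)<|c (a 0<|a 0<|a 0<|a 1<|a 1<|a 0<|b)<|c (a 0<|a 0<|a 1<|a 1<|a 0<|a 0<|b)<|d);
 (a (a 0<|a 0<|a 0<|a 0<|a 0<|a 1<|b)<|a (a 0<|a 0<|a 0<|a 0<|a 1<|a 0<|b)<|a (a 0<|a 0<|a 0<|a 1<|a 0<|a 0<|b)<|a (a 0<|a 0<|a 1<|a 0<|a 0<|a 0<|b)<|d)))))

private theorem _root_.Cfsg.Agent.KO2ce50ec.e0.{ku, kv} {α : Type kv} {M : List α → Sort ku} (φ : ∀ l, M l) {z : M List.nil} {s : ∀ a l, M l → M (List.cons a l)} (h0 : φ List.nil = z) (hs : ∀ a l, φ (List.cons a l) = s a l (φ l)) (l : List α) : φ l = @List.rec α M z s l := List.rec h0 (fun a l ih => (hs a l).trans (congrArg (s a l) ih)) l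
private noncomputable def _root_.Cfsg.Agent.KO2ce50ec.k1.{ku0} : type_of% @List.decidableBAll.{ku0} := @(fun x0 x1 x2 x3 => @List.rec.{1, ku0} @x0 @(fun x4 => @Decidable ((x5 : @x0) → (@Membership.mem.{ku0, ku0} _ _ _ @x4 @x5) → @x1 @x5)) (@Decidable.isTrue _ (@List.decidableBAll._proof_1.{ku0} _ @x1)) @(fun x4 x5 x6 => @Decidable.rec.{1} _ @(fun x7 => @Decidable ((x8 : @x0) → (@Membership.mem.{ku0, ku0} _ _ _ (@x4 :: @x5) @x8) → @x1 @x8)) @(fun x7 => @Decidable.isFalse _ (@List.decidableBAll._proof_4.{ku0} _ @x1 @x4 @x5 @x7)) @(fun x7 => @Decidable.rec.{1} _ @(fun x8 => @Decidable ((x9 : @x0) → (@Membership.mem.{ku0, ku0} _ _ _ (@x4 :: @x5) @x9) → @x1 @x9)) @(fun x8 => @Decidable.isFalse _ (@List.decidableBAll._proof_3.{ku0} _ @x1 @x4 @x5 @x8)) @(fun x8 => @Decidable.isTrue _ (@List.decidableBAll._proof_2.{ku0} _ @x1 @x4 @x5 @x7 @x8)) @x6) (@x2 @x4)) @x3)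
private theorem _root_.Cfsg.Agent.KO2ce50ec.e1.{ku0} : @List.decidableBAll.{ku0} = @_root_.Cfsg.Agent.KO2ce50ec.k1.{ku0} := by delta _root_.Cfsg.Agent.KO2ce50ec.k1; exact Subsingleton.elim _ _
private noncomputable def _root_.Cfsg.Agent.KO2ce50ec.k2 : type_of% @Nat.decEq := @(letI c0 := @Nat.beq; @(fun x0 x1 => @Bool.rec.{1} @(fun x2 => (@Eq.{1} _ (@c0 @x0 @x1) @x2) → @Decidable (@Eq.{1} _ @x0 @x1)) @(fun x2 => @Decidable.isFalse _ (@Nat.ne_of_beq_eq_false _ _ @x2)) @(fun x2 => @Decidable.isTrue _ (@Nat.eq_of_beq_eq_true _ _ @x2)) (@c0 @x0 @x1) (@Eq.refl.{1} _ (@c0 @x0 @x1))))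
private noncomputable def _root_.Cfsg.Agent.KO2ce50ec.k3s : (by first | exact Subtype (fun g => @List.instDecidablePairwise.{0} (ℕ) (@(fun (x0 : ℕ) (x1 : ℕ) => @Ne.{1} _ @x0 @x1)) _ = @g) | exact Unit : Sort _) := by first | (refine @Subtype.mk _ _ (@(letI c0 := @Decidable.isTrue; letI c1 := @Decidable.rec.{1}; letI c2 := @Decidable.isFalse; @(fun x0 => @List.rec.{1, 0} ℕ @(fun x1 => @Decidable (@List.Pairwise.{0} _ @(fun x2 x3 => @Ne.{1} _ @x2 @x3) @x1)) (@c0 _ (@List.Pairwise.nil.{0} _ @(fun x1 x2 => @Ne.{1} _ @x1 @x2))) @(fun x1 x2 x3 => @c1 _ @(fun x4 => @Decidable (@List.Pairwise.{0} _ @(fun x5 x6 => @Ne.{1} _ @x5 @x6) (@x1 :: @x2))) @(fun x4 => @c2 _ (@List.instDecidablePairwise._proof_3.{0} _ @(fun x5 x6 => @Ne.{1} _ @x5 @x6) @x1 @x2 @x4)) @(fun x4 => @c1 _ @(fun x5 => @Decidable (@List.Pairwise.{0} _ @(fun x6 x7 => @Ne.{1} _ @x6 @x7) (@x1 :: @x2))) @(fun x5 => @c2 _ (@List.instDecidablePairwise._proof_1.{0}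 _ @(fun x6 x7 => @Ne.{1} _ @x6 @x7) @x1 @x2 @x5)) @(fun x5 => @c0 _ (@List.instDecidablePairwise._proof_2.{0} _ @(fun x6 x7 => @Ne.{1} _ @x6 @x7) @x1 @x2 @x4 @x5)) (@Cfsg.Agent.KO2ce50ec.k1.{0} _ @(fun x5 => @Ne.{1} _ @x1 @x5) @(fun x5 => @c1 _ @(fun x6 => @Decidable (¬ (@Eq.{1} _ @x1 @x5))) @(fun x6 => @c0 _ @x6) @(fun x6 => @c2 _ (@absurd.{0} _ _ @x6)) (@Cfsg.Agent.KO2ce50ec.k2 @x1 @x5)) @x2)) @x3) @x0))) ?_; exact Subsingleton.elim _ _) | exact ⟨_, rfl⟩ | exact ()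
private noncomputable def _root_.Cfsg.Agent.KO2ce50ec.k3 : (by first | exact type_of% (@Subtype.val _ _ _root_.Cfsg.Agent.KO2ce50ec.k3s) | exact Unit : Sort _) := by first | exact @Subtype.val _ _ _root_.Cfsg.Agent.KO2ce50ec.k3s | exact ()
private noncomputable def _root_.Cfsg.Agent.KO2ce50ec.k4s : (by first | exact Subtype (fun g => @List.nodupDecidable.{0} (ℕ) _ = @g) | exact Unit : Sort _) := by first | (refine @Subtype.mk _ _ (@Cfsg.Agent.KO2ce50ec.k3) ?_; exact Subsingleton.elim _ _) | exact ⟨_, rfl⟩ | exact ()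
private noncomputable def _root_.Cfsg.Agent.KO2ce50ec.k4 : (by first | exact type_of% (@Subtype.val _ _ _root_.Cfsg.Agent.KO2ce50ec.k4s) | exact Unit : Sort _) := by first | exact @Subtype.val _ _ _root_.Cfsg.Agent.KO2ce50ec.k4s | exact ()
private theorem _root_.Cfsg.Agent.KO2ce50ec.e4 : (by first | exact type_of% (show _ = @_root_.Cfsg.Agent.KO2ce50ec.k4 from @Subtype.property _ _ _root_.Cfsg.Agent.KO2ce50ec.k4s) | exact True : Prop) := by first | exact @Subtype.property _ _ _root_.Cfsg.Agent.KO2ce50ec.k4s | trivial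
private noncomputable def _root_.Cfsg.Agent.KO2ce50ec.k5 : type_of% @Decidable.decide := @(fun x0 x1 => @Decidable.rec.{1} _ @(fun x2 => @Bool) @(fun x2 => @Bool.false) @(fun x2 => @Bool.true) @x1)
private theorem _root_.Cfsg.Agent.KO2ce50ec.e5 : @Decidable.decide = @_root_.Cfsg.Agent.KO2ce50ec.k5 := by delta _root_.Cfsg.Agent.KO2ce50ec.k5; rfl'
private noncomputable def _root_.Cfsg.Agent.KO2ce50ec.k6.{ku0, ku1} : type_of% @List.map.{ku0, ku1} := @(fun x0 x1 x2 x3 => @List.rec.{(ku1+1), ku0} @x0 @(fun x4 => @List.{ku1} @x1) [] @(fun x4 x5 x6 => (@x2 @x4) :: @x6) @x3)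
private theorem _root_.Cfsg.Agent.KO2ce50ec.e6.{ku0, ku1} : @List.map.{ku0, ku1} = @_root_.Cfsg.Agent.KO2ce50ec.k6.{ku0, ku1} := by delta _root_.Cfsg.Agent.KO2ce50ec.k6; funext a0 a1 a2 a3; refine (_root_.Cfsg.Agent.KO2ce50ec.e0 (fun a3 => @List.map.{ku0, ku1} a0 a1 a2 a3) ?_ (fun c0 c1 => ?_) a3 :) <;> (rfl')
private noncomputable def _root_.Cfsg.Agent.KO2ce50ec.k7 : (by first | exact type_of% @Cfsg.Agent.H122.SNX.key | exact Unit : Sort _) := by first | (refine @Subtype.val _ (fun g => @Cfsg.Agent.H122.SNX.key = @g) (@Subtype.mk _ _ (@(fun x0 => @List.rec.{1, 0} ℤ @(fun x1 => ℕ) (nat_lit 0) @(fun x1 x2 x3 => @Nat.add (@Nat.mul @x3 (nat_lit 8)) (@Int.rec.{1} @(fun x4 => ℕ) @(fun x4 => @x4) @(fun x4 => nat_lit 0) @x1)) @x0)) ?_); rfl') | exact @Cfsg.Agent.H122.SNX.key | exact ()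
private theorem _root_.Cfsg.Agent.KO2ce50ec.e7 : (by first | exact @Cfsg.Agent.H122.SNX.key = @_root_.Cfsg.Agent.KO2ce50ec.k7 | exact True : Prop) := by first | (delta _root_.Cfsg.Agent.KO2ce50ec.k7; exact @Subtype.property _ (fun g => @Cfsg.Agent.H122.SNX.key = @g) _) | rfl | trivial
private noncomputable def _root_.Cfsg.Agent.KO2ce50ec.k8 : type_of% @Int.decEq := @(letI c0 := @Int.rec.{1}; letI c1 := @Int.ofNat; letI c2 := @Decidable.rec.{1}; letI c3 := @Decidable.isFalse; letI c4 := @Decidable.isTrue; letI c5 := @Int.negSucc; @(fun x0 x1 => @c0 @(fun x2 => @Decidable (@Eq.{1} _ @x2 @x1)) @(fun x2 => @c0 @(fun x3 => @Decidable (@Eq.{1} _ (@c1 @x2) @x3)) @(fun x3 => @c2 _ @(fun x4 => @Decidable (@Eq.{1} _ (@c1 @x2) (@c1 @x3))) @(fun x4 => @c3 _ (@Int.decEq._proof_2 @x2 @x3 @x4)) @(fun x4 => @c4 _ (@Int.decEq._proof_1 @x2 @x3 @x4)) (@Cfsg.Agent.KO2ce50ec.k2 @x2 @x3)) @(fun x3 => @c3 _ (@Int.decEq._proof_3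 @x2 @x3)) @x1) @(fun x2 => @c0 @(fun x3 => @Decidable (@Eq.{1} _ (@c5 @x2) @x3)) @(fun x3 => @c3 _ (@Int.decEq._proof_4 @x2 @x3)) @(fun x3 => @c2 _ @(fun x4 => @Decidable (@Eq.{1} _ (@c5 @x2) (@c5 @x3))) @(fun x4 => @c3 _ (@Int.decEq._proof_6 @x2 @x3 @x4)) @(fun x4 => @c4 _ (@Int.decEq._proof_5 @x2 @x3 @x4)) (@Cfsg.Agent.KO2ce50ec.k2 @x2 @x3)) @x1) @x0))
private noncomputable def _root_.Cfsg.Agent.KO2ce50ec.k9s : (by first | exact Subtype (fun g => @List.hasDecEq.{0} (ℤ) _ = @g) | exact Unit : Sort _) := by first | (refine @Subtype.mk _ _ (@(letI c0 := @List.rec.{1, 0}; letI c1 := @Decidable.isTrue; letI c2 := @Decidable.isFalse; letI c3 := @Decidable.rec.{1}; @(fun x0 x1 => @c0 ℤ @(fun x2 => (x3 : @List.{0} ℤ) → @Decidable (@Eq.{1} _ @x2 @x3)) @(fun x2 => @c0 ℤ @(fun x3 => @Decidable (@Eq.{1} _ [] @x3)) (@c1 _ (@List.hasDecEq._proof_1.{0} _)) @(fun x3 x4 x5 => @c2 _ (@List.hasDecEq._proof_3.{0}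 _ @x3 @x4)) @x2) @(fun x2 x3 x4 x5 => @c0 ℤ @(fun x6 => @Decidable (@Eq.{1} _ (@x2 :: @x3) @x6)) (@c2 _ (@List.hasDecEq._proof_2.{0} _ @x2 @x3)) @(fun x6 x7 x8 => @c3 _ @(fun x9 => @Decidable (@Eq.{1} _ (@x2 :: @x3) (@x6 :: @x7))) @(fun x9 => @c2 _ (@List.hasDecEq._proof_6.{0} _ @x2 @x3 @x6 @x7 @x9)) @(fun x9 => @c3 _ @(fun x10 => @Decidable (@Eq.{1} _ (@x2 :: @x3) (@x6 :: @x7))) @(fun x10 => @c2 _ (@List.hasDecEq._proof_5.{0} _ @x2 @x3 @x6 @x7 @x10)) @(fun x10 => @c1 _ (@List.hasDecEq._proof_4.{0} _ @x2 @x3 @x6 @x7 @x9 @x10)) (@x4 @x7)) (@Cfsg.Agent.KO2ce50ec.k8 @x2 @x6)) @x5) @x0 @x1))) ?_; exact Subsingleton.elim _ _) | exact ⟨_, rfl⟩ | exact ()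
private noncomputable def _root_.Cfsg.Agent.KO2ce50ec.k9 : (by first | exact type_of% (@Subtype.val _ _ _root_.Cfsg.Agent.KO2ce50ec.k9s) | exact Unit : Sort _) := by first | exact @Subtype.val _ _ _root_.Cfsg.Agent.KO2ce50ec.k9s | exact ()
private noncomputable def _root_.Cfsg.Agent.KO2ce50ec.k10s : (by first | exact Subtype (fun g => @instDecidableEqList.{0} (ℤ) _ = @g) | exact Unit : Sort _) := by first | (refine @Subtype.mk _ _ (@(letI c0 := @List.rec.{1, 0}; letI c1 := @Decidable.isTrue; letI c2 := @Decidable.isFalse; letI c3 := @Decidable.rec.{1}; @(fun x0 x1 => @c0 ℤ @(fun x2 => @Decidable (@Eq.{1} _ @x2 @x1)) (@c0 ℤ @(fun x2 => @Decidable (@Eq.{1} _ [] @x2)) (@c1 _ (@List.hasDecEq._proof_1.{0} _)) @(fun x2 x3 x4 => @c2 _ (@List.hasDecEq._proof_3.{0} _ @x2 @x3)) @x1) @(fun x2 x3 x4 => @c0 ℤ @(fun x5 => @Decidable (@Eq.{1} _ (@x2 :: @x3) @x5)) (@c2 _ (@List.hasDecEq._proof_2.{0} _ @x2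 @x3)) @(fun x5 x6 x7 => @c3 _ @(fun x8 => @Decidable (@Eq.{1} _ (@x2 :: @x3) (@x5 :: @x6))) @(fun x8 => @c2 _ (@List.hasDecEq._proof_6.{0} _ @x2 @x3 @x5 @x6 @x8)) @(fun x8 => @c3 _ @(fun x9 => @Decidable (@Eq.{1} _ (@x2 :: @x3) (@x5 :: @x6))) @(fun x9 => @c2 _ (@List.hasDecEq._proof_5.{0} _ @x2 @x3 @x5 @x6 @x9)) @(fun x9 => @c1 _ (@List.hasDecEq._proof_4.{0} _ @x2 @x3 @x5 @x6 @x8 @x9)) (@Cfsg.Agent.KO2ce50ec.k9 @x3 @x6)) (@Cfsg.Agent.KO2ce50ec.k8 @x2 @x5)) @x1) @x0))) ?_; exact Subsingleton.elim _ _) | exact ⟨_, rfl⟩ | exact ()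
private noncomputable def _root_.Cfsg.Agent.KO2ce50ec.k10 : (by first | exact type_of% (@Subtype.val _ _ _root_.Cfsg.Agent.KO2ce50ec.k10s) | exact Unit : Sort _) := by first | exact @Subtype.val _ _ _root_.Cfsg.Agent.KO2ce50ec.k10s | exact ()
private theorem _root_.Cfsg.Agent.KO2ce50ec.e10 : (by first | exact type_of% (show _ = @_root_.Cfsg.Agent.KO2ce50ec.k10 from @Subtype.property _ _ _root_.Cfsg.Agent.KO2ce50ec.k10s) | exact True : Prop) := by first | exact @Subtype.property _ _ _root_.Cfsg.Agent.KO2ce50ec.k10s | trivial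
private noncomputable def _root_.Cfsg.Agent.KO2ce50ec.k11l (n : Nat) (P : ∀ k, k < n → Prop) (H : ∀ k h, Decidable (P k h)) (m : Nat) : m ≤ n → Bool := @Nat.rec (fun m => m ≤ n → Bool) (fun _ => true) (fun k ih h => @Decidable.rec (P k h) (fun _ => Bool) (fun _ => false) (fun _ => ih (Nat.le_of_succ_le h)) (H k h)) m
private theorem _root_.Cfsg.Agent.KO2ce50ec.k11ls (n : Nat) (P : ∀ k, k < n → Prop) (H : ∀ k h, Decidable (P k h)) (m : Nat) : ∀ h : m ≤ n, _root_.Cfsg.Agent.KO2ce50ec.k11l n P H m h = true ↔ ∀ k (g : k < m), P k (Nat.lt_of_lt_of_le g h) := by induction m with | zero => exact fun _ => ⟨fun _ _ g => absurd g (Nat.not_lt_zero _), fun _ => rfl⟩ | succ m ih => intro h; show @Decidable.rec (P m h) (fun _ => Bool) (fun _ => false) (fun _ => _root_.Cfsg.Agent.KO2ce50ec.k11l n P H m (Nat.le_of_succ_le h)) (H m h) = true ↔ _; cases H m h with | isFalse q => exact ⟨fun g => absurd g Bool.false_ne_true,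 fun g => absurd (g m (Nat.lt_succ_self m)) q⟩ | isTrue q => exact ⟨fun g k hk => (Nat.lt_succ_iff_lt_or_eq.1 hk).elim ((ih _).1 g k) fun e => by subst e; exact q, fun g => (ih _).2 fun k hk => g k (Nat.lt_succ_of_lt hk)⟩
private noncomputable def _root_.Cfsg.Agent.KO2ce50ec.k11 (n : Nat) (P : ∀ k, k < n → Prop) (H : ∀ k h, Decidable (P k h)) : Decidable (∀ k h, P k h) := @Bool.rec (fun b => _root_.Cfsg.Agent.KO2ce50ec.k11l n P H n (Nat.le_refl n) = b → Decidable (∀ k h, P k h)) (fun g => isFalse fun q => Bool.false_ne_true (g.symm.trans ((_root_.Cfsg.Agent.KO2ce50ec.k11ls n P H n _).2 fun k h => q k h))) (fun g => isTrue fun k h => (_root_.Cfsg.Agent.KO2ce50ec.k11ls n P H n _).1 g k h) (_root_.Cfsg.Agent.KO2ce50ec.k11l n P H n (Nat.le_refl n)) rfl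
private theorem _root_.Cfsg.Agent.KO2ce50ec.e11 : @Nat.decidableBallLT = @_root_.Cfsg.Agent.KO2ce50ec.k11 := funext fun _ => funext fun _ => funext fun _ => Subsingleton.elim _ _
private noncomputable def _root_.Cfsg.Agent.KO2ce50ec.k12 : type_of% @Nat.decidableForallFin := @(fun x0 x1 x2 => @Decidable.rec.{1} _ @(fun x3 => @Decidable ((x4 : @Fin @x0) → @x1 @x4)) @(fun x3 => @Decidable.isFalse _ (@decidable_of_decidable_of_iff._proof_1 _ _ (@Nat.decidableForallFin._proof_1 _ @x1) @x3)) @(fun x3 => @Decidable.isTrue _ (@Iff.mp _ _ (@Nat.decidableForallFin._proof_1 _ @x1) @x3)) (@Cfsg.Agent.KO2ce50ec.k11 @x0 @(fun x3 x4 => @x1 (@Fin.mk _ @x3 @x4)) @(fun x3 x4 => @x2 (@Fin.mk _ @x3 @x4))))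
private theorem _root_.Cfsg.Agent.KO2ce50ec.e12 : @Nat.decidableForallFin = @_root_.Cfsg.Agent.KO2ce50ec.k12 := by delta _root_.Cfsg.Agent.KO2ce50ec.k12; exact Subsingleton.elim _ _
private noncomputable def _root_.Cfsg.Agent.KO2ce50ec.k13 : type_of% @instDecidableOr := @(fun x0 x1 x2 x3 => @Decidable.rec.{1} _ @(fun x4 => @Decidable (@Or @x0 @x1)) @(fun x4 => @Decidable.rec.{1} _ @(fun x5 => @Decidable (@Or @x0 @x1)) @(fun x5 => @Decidable.isFalse _ (@instDecidableOr._proof_1 _ _ @x4 @x5)) @(fun x5 => @Decidable.isTrue _ (@Or.inr _ _ @x5)) @x3) @(fun x4 => @Decidable.isTrue _ (@Or.inl _ _ @x4)) @x2)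
private theorem _root_.Cfsg.Agent.KO2ce50ec.e13 : @instDecidableOr = @_root_.Cfsg.Agent.KO2ce50ec.k13 := by delta _root_.Cfsg.Agent.KO2ce50ec.k13; exact Subsingleton.elim _ _
private noncomputable def _root_.Cfsg.Agent.KO2ce50ec.k14 : type_of% @Bool.decEq := @(letI c0 := @Bool.rec.{1}; letI c1 := @Decidable.isTrue; letI c2 := @rfl.{1}; letI c3 := @Decidable.isFalse; letI c4 := @Bool.noConfusion.{0}; @(fun x0 x1 => @c0 @(fun x2 => @Decidable (@Eq.{1} _ @x2 @x1)) (@c0 @(fun x2 => @Decidable (@Eq.{1} _ @Bool.false @x2)) (@c1 _ (@c2 _ _)) (@c3 _ @(fun x2 => @c4 _ _ _ @x2)) @x1) (@c0 @(fun x2 => @Decidable (@Eq.{1} _ @Bool.true @x2)) (@c3 _ @(fun x2 => @c4 _ _ _ @x2)) (@c1 _ (@c2 _ _)) @x1) @x0))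
private noncomputable def _root_.Cfsg.Agent.KO2ce50ec.k15 : type_of% @instDecidableEqBool := @Cfsg.Agent.KO2ce50ec.k14
private theorem _root_.Cfsg.Agent.KO2ce50ec.e15 : @instDecidableEqBool = @_root_.Cfsg.Agent.KO2ce50ec.k15 := by delta _root_.Cfsg.Agent.KO2ce50ec.k15; exact Subsingleton.elim _ _
private noncomputable def _root_.Cfsg.Agent.KO2ce50ec.k16 : (by first | exact type_of% @Cfsg.Agent.Lib.PackMat.force | exact Unit : Sort _) := by first | (refine @Subtype.val _ (fun g => @Cfsg.Agent.Lib.PackMat.force = @g) (@Subtype.mk _ _ (@(fun x0 x1 x2 => @Nat.rec.{1} @(fun x3 => @x0) (@x2 (nat_lit 0)) @(fun x3 x4 => @x2 @x3) (@Nat.add @x1 (nat_lit 1)))) ?_); rfl') | exact @Cfsg.Agent.Lib.PackMat.force | exact ()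
private theorem _root_.Cfsg.Agent.KO2ce50ec.e16 : (by first | exact @Cfsg.Agent.Lib.PackMat.force = @_root_.Cfsg.Agent.KO2ce50ec.k16 | exact True : Prop) := by first | (delta _root_.Cfsg.Agent.KO2ce50ec.k16; exact @Subtype.property _ (fun g => @Cfsg.Agent.Lib.PackMat.force = @g) _) | rfl | trivial
private noncomputable def _root_.Cfsg.Agent.KO2ce50ec.k17 : (by first | exact type_of% @Cfsg.Agent.H122.SNX.memB | exact Unit : Sort _) := by first | (refine @Subtype.val _ (fun g => @Cfsg.Agent.H122.SNX.memB = @g) (@Subtype.mk _ _ (@(letI c0 := @Bool.false; @(fun x0 x1 => @Cfsg.Agent.KO2ce50ec.k16 _ (@Cfsg.Agent.KO2ce50ec.k7 @x1) @(fun x2 => @List.rec.{1, 0} (@List.{0} ℤ) @(fun x3 => @Bool) @c0 @(fun x3 x4 x5 => @Bool.rec.{1} @(fun x6 => @Bool) @x5 (@Decidable.rec.{1} _ @(fun x6 => @Bool) @(fun x6 => @c0) @(fun x6 => @Bool.true) (@Cfsg.Agent.KO2ce50ec.k10 @x1 @x3)) (@Nat.beq (@Cfsg.Agent.KO2ce50ec.k7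 @x3) @x2)) @x0)))) ?_); rewrite [← Cfsg.Agent.KO2ce50ec.e7, ← Cfsg.Agent.KO2ce50ec.e16, ← Cfsg.Agent.KO2ce50ec.e10]; (try delta Cfsg.Agent.H122.SNX.memB); (try generalize @Cfsg.Agent.Lib.PackMat.force = g0); (try generalize @Cfsg.Agent.H122.SNX.key = g1); rfl') | exact @Cfsg.Agent.H122.SNX.memB | exact ()
private theorem _root_.Cfsg.Agent.KO2ce50ec.e17 : (by first | exact @Cfsg.Agent.H122.SNX.memB = @_root_.Cfsg.Agent.KO2ce50ec.k17 | exact True : Prop) := by first | (delta _root_.Cfsg.Agent.KO2ce50ec.k17; exact @Subtype.property _ (fun g => @Cfsg.Agent.H122.SNX.memB = @g) _) | rfl | trivial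
private noncomputable def _root_.Cfsg.Agent.KO2ce50ec.k19.{ku0} : type_of% @List.set.{ku0} := @(fun x0 x1 x2 x3 => @List.rec.{(ku0+1), ku0} @x0 @(fun x4 => ℕ → @x0 → @List.{ku0} @x0) @(fun x4 x5 => []) @(fun x4 x5 x6 x7 x8 => @Nat.rec.{(ku0+1)} @(fun x9 => @List.{ku0} @x0) (@x8 :: @x5) @(fun x9 x10 => @x4 :: (@x6 @x9 @x8)) @x7) @x1 @x2 @x3)
private theorem _root_.Cfsg.Agent.KO2ce50ec.e19.{ku0} : @List.set.{ku0} = @_root_.Cfsg.Agent.KO2ce50ec.k19.{ku0} := by delta _root_.Cfsg.Agent.KO2ce50ec.k19; funext a0 a1 a2 a3; refine (congrFun (congrFun (_root_.Cfsg.Agent.KO2ce50ec.e0 (fun a1 a2 a3 => @List.set.{ku0} a0 a1 a2 a3) ?_ (fun c0 c1 => ?_) a1) a2) a3 :) <;> [(funext b0 b1; (rfl')); (funext b0 b1; (cases b0 with | @zero  => (rfl') | @succ b0_0 => (rfl')))]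
private noncomputable def _root_.Cfsg.Agent.KO2ce50ec.k20 : type_of% @Int.add := @(letI c0 := @Int.rec.{1}; letI c1 := @Int.ofNat; letI c2 := @Nat.add; letI c3 := @Nat.rec.{1}; letI c4 := @Nat.sub; letI c5 := @Nat.succ; letI c6 := @Int.negSucc; @(fun x0 x1 => @c0 @(fun x2 => ℤ) @(fun x2 => @c0 @(fun x3 => ℤ) @(fun x3 => @c1 (@c2 @x2 @x3)) @(fun x3 => @c3 @(fun x4 => ℤ) (@c1 (@c4 @x2 (@c5 @x3))) @(fun x4 x5 => @c6 @x4) (@c4 (@c5 @x3) @x2)) @x1) @(fun x2 => @c0 @(fun x3 => ℤ) @(fun x3 => @c3 @(fun x4 => ℤ) (@c1 (@c4 @x3 (@c5 @x2))) @(fun x4 x5 => @c6 @x4) (@c4 (@c5 @x2) @x3)) @(fun x3 => @c6 (@c5 (@c2 @x2 @x3))) @x1) @x0))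
private theorem _root_.Cfsg.Agent.KO2ce50ec.e20 : @Int.add = @_root_.Cfsg.Agent.KO2ce50ec.k20 := by delta _root_.Cfsg.Agent.KO2ce50ec.k20; rfl'
private noncomputable def _root_.Cfsg.Agent.KO2ce50ec.k22.{ku0} : type_of% @List.get?Internal.{ku0} := @(fun x0 x1 x2 => @List.rec.{(ku0+1), ku0} @x0 @(fun x3 => ℕ → @Option.{ku0} @x0) @(fun x3 => @Option.none.{ku0} _) @(fun x3 x4 x5 x6 => @Nat.rec.{(ku0+1)} @(fun x7 => @Option.{ku0} @x0) (@Option.some.{ku0} _ @x3) @(fun x7 x8 => @x5 @x7) @x6) @x1 @x2)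
private theorem _root_.Cfsg.Agent.KO2ce50ec.e22.{ku0} : @List.get?Internal.{ku0} = @_root_.Cfsg.Agent.KO2ce50ec.k22.{ku0} := by delta _root_.Cfsg.Agent.KO2ce50ec.k22; funext a0 a1 a2; refine (congrFun (_root_.Cfsg.Agent.KO2ce50ec.e0 (fun a1 a2 => @List.get?Internal.{ku0} a0 a1 a2) ?_ (fun c0 c1 => ?_) a1) a2 :) <;> [(funext b0; (rfl')); (funext b0; (cases b0 with | @zero  => (rfl') | @succ b0_0 => (rfl')))]
private noncomputable def _root_.Cfsg.Agent.KO2ce50ec.k23.{ku0, ku1} : type_of% @List.foldr.{ku0, ku1} := @(fun x0 x1 x2 x3 x4 => @List.rec.{(ku1+1), ku0} @x0 @(fun x5 => @x1) @x3 @(fun x5 x6 x7 => @x2 @x5 @x7) @x4)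
private theorem _root_.Cfsg.Agent.KO2ce50ec.e23.{ku0, ku1} : @List.foldr.{ku0, ku1} = @_root_.Cfsg.Agent.KO2ce50ec.k23.{ku0, ku1} := by delta _root_.Cfsg.Agent.KO2ce50ec.k23; funext a0 a1 a2 a3 a4; refine (_root_.Cfsg.Agent.KO2ce50ec.e0 (fun a4 => @List.foldr.{ku0, ku1} a0 a1 a2 a3 a4) ?_ (fun c0 c1 => ?_) a4 :) <;> (rfl')
private noncomputable def _root_.Cfsg.Agent.KO2ce50ec.k25.{ku0, ku1, ku2} : type_of% @List.zipWith.{ku0, ku1, ku2} := @(fun x0 x1 x2 x3 x4 x5 => @List.rec.{(max (ku1+1) (ku2+1)), ku0} @x0 @(fun x6 => (@List.{ku1} @x1) → @List.{ku2} @x2) @(fun x6 => []) @(fun x6 x7 x8 x9 => @List.rec.{(ku2+1), ku1} @x1 @(fun x10 => @List.{ku2} @x2) [] @(fun x10 x11 x12 => (@x3 @x6 @x10) :: (@x8 @x11)) @x9) @x4 @x5)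
private theorem _root_.Cfsg.Agent.KO2ce50ec.e25.{ku0, ku1, ku2} : @List.zipWith.{ku0, ku1, ku2} = @_root_.Cfsg.Agent.KO2ce50ec.k25.{ku0, ku1, ku2} := by delta _root_.Cfsg.Agent.KO2ce50ec.k25; funext a0 a1 a2 a3 a4 a5; refine (congrFun (_root_.Cfsg.Agent.KO2ce50ec.e0 (fun a4 a5 => @List.zipWith.{ku0, ku1, ku2} a0 a1 a2 a3 a4 a5) ?_ (fun c0 c1 => ?_) a4) a5 :) <;> [(funext b0; (rfl')); (funext b0; (cases b0 with | @nil  => (rfl') | @cons b0_0 b0_1 => (rfl')))]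
private noncomputable def _root_.Cfsg.Agent.KO2ce50ec.k26 : type_of% @Int.mul := @(letI c0 := @Int.rec.{1}; letI c1 := @Int.ofNat; letI c2 := @Nat.mul; letI c3 := @Nat.rec.{1}; letI c4 := @Int.negSucc; letI c5 := @Nat.succ; @(fun x0 x1 => @c0 @(fun x2 => ℤ) @(fun x2 => @c0 @(fun x3 => ℤ) @(fun x3 => @c1 (@c2 @x2 @x3)) @(fun x3 => @c3 @(fun x4 => ℤ) (@c1 (nat_lit 0)) @(fun x4 x5 => @c4 @x4) (@c2 @x2 (@c5 @x3))) @x1) @(fun x2 => @c0 @(fun x3 => ℤ) @(fun x3 => @c3 @(fun x4 => ℤ) (@c1 (nat_lit 0)) @(fun x4 x5 => @c4 @x4) (@c2 (@c5 @x2) @x3)) @(fun x3 => @c1 (@c2 (@c5 @x2) (@c5 @x3))) @x1) @x0))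
private theorem _root_.Cfsg.Agent.KO2ce50ec.e26 : @Int.mul = @_root_.Cfsg.Agent.KO2ce50ec.k26 := by delta _root_.Cfsg.Agent.KO2ce50ec.k26; rfl'
private noncomputable def _root_.Cfsg.Agent.KO2ce50ec.k27 : (by first | exact type_of% @Cfsg.Agent.H523.DspTab.prL | exact Unit : Sort _) := by first | (refine @Subtype.val _ (fun g => @Cfsg.Agent.H523.DspTab.prL = @g) (@Subtype.mk _ _ (@(fun x0 x1 x2 => @Cfsg.Agent.KO2ce50ec.k23.{0, 0} _ _ @(fun x3 x4 => @Cfsg.Agent.KO2ce50ec.k20 @x3 @x4) (@Int.ofNat (nat_lit 0)) (@Cfsg.Agent.KO2ce50ec.k25.{0, 0, 0} _ _ _ @(fun x3 x4 => @Cfsg.Agent.KO2ce50ec.k26 @x3 @x4) (@Option.rec.{1, 0} (@List.{0} ℤ) @(fun x3 => @List.{0} ℤ) [] @(fun x3 => @x3) (@Cfsg.Agent.KO2ce50ec.k22.{0} _ @x0 @x2)) @x1))) ?_); rewrite [← Cfsg.Agent.KO2ce50ec.e22.{0}, ← Cfsg.Agent.KO2ce50ec.e26, ← Cfsg.Agent.KO2ce50ec.e25.{0, 0, 0}, ← Cfsg.Agent.KO2ce50ec.e20, ← Cfsg.Agent.KO2ce50ec.e23.{0,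 0}]; rfl') | exact @Cfsg.Agent.H523.DspTab.prL | exact ()
private theorem _root_.Cfsg.Agent.KO2ce50ec.e27 : (by first | exact @Cfsg.Agent.H523.DspTab.prL = @_root_.Cfsg.Agent.KO2ce50ec.k27 | exact True : Prop) := by first | (delta _root_.Cfsg.Agent.KO2ce50ec.k27; exact @Subtype.property _ (fun g => @Cfsg.Agent.H523.DspTab.prL = @g) _) | rfl | trivial
private noncomputable def _root_.Cfsg.Agent.KO2ce50ec.k28 : (by first | exact type_of% @Cfsg.Agent.H523.DspTab.rfL | exact Unit : Sort _) := by first | (refine @Subtype.val _ (fun g => @Cfsg.Agent.H523.DspTab.rfL = @g) (@Subtype.mk _ _ (@(letI c0 := @Int.ofNat; @(fun x0 x1 x2 => @Cfsg.Agent.KO2ce50ec.k19.{0} _ @x1 @x2 (@Cfsg.Agent.KO2ce50ec.k20 (@Option.rec.{1, 0} ℤ @(fun x3 => ℤ) (@c0 (nat_lit 0)) @(fun x3 => @x3) (@Cfsg.Agent.KO2ce50ec.k22.{0} _ @x1 @x2)) (@Int.rec.{1} @(fun x3 => ℤ) @(fun x3 => @Nat.rec.{1} @(fun x4 => ℤ) (@c0 (nat_lit 0))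 @(fun x4 x5 => @Int.negSucc @x4) @x3) @(fun x3 => @c0 (@Nat.succ @x3)) (@Cfsg.Agent.KO2ce50ec.k27 @x0 @x1 @x2)))))) ?_); rewrite [← Cfsg.Agent.KO2ce50ec.e27, ← Cfsg.Agent.KO2ce50ec.e22.{0}, ← Cfsg.Agent.KO2ce50ec.e20, ← Cfsg.Agent.KO2ce50ec.e19.{0}]; (try delta Cfsg.Agent.H523.DspTab.rfL); (try generalize @Cfsg.Agent.H523.DspTab.prL = g0); rfl') | exact @Cfsg.Agent.H523.DspTab.rfL | exact ()
private theorem _root_.Cfsg.Agent.KO2ce50ec.e28 : (by first | exact @Cfsg.Agent.H523.DspTab.rfL = @_root_.Cfsg.Agent.KO2ce50ec.k28 | exact True : Prop) := by first | (delta _root_.Cfsg.Agent.KO2ce50ec.k28; exact @Subtype.property _ (fun g => @Cfsg.Agent.H523.DspTab.rfL = @g) _) | rfl | trivial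
private noncomputable def _root_.Cfsg.Agent.KO2ce50ec.k29 : type_of% @instDecidableEqFin := @(letI c0 := @Fin.val; @(fun x0 x1 x2 => @Decidable.rec.{1} _ @(fun x3 => @Decidable (@Eq.{1} _ @x1 @x2)) @(fun x3 => @Decidable.isFalse _ (@instDecidableEqFin._proof_1 @x0 @x1 @x2 @x3)) @(fun x3 => @Decidable.isTrue _ (@Fin.eq_of_val_eq _ _ _ @x3)) (@Cfsg.Agent.KO2ce50ec.k2 (@c0 _ @x1) (@c0 _ @x2))))
private theorem _root_.Cfsg.Agent.KO2ce50ec.e29 : @instDecidableEqFin = @_root_.Cfsg.Agent.KO2ce50ec.k29 := by delta _root_.Cfsg.Agent.KO2ce50ec.k29; exact Subsingleton.elim _ _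
private theorem _root_.Cfsg.Agent.KO2ce50ec.e30.{ku} {M : Nat → Sort ku} (φ : ∀ n, M n) {z : M Nat.zero} {s : ∀ n, M n → M (Nat.succ n)} (h0 : φ Nat.zero = z) (hs : ∀ n, φ (Nat.succ n) = s n (φ n)) (n : Nat) : φ n = @Nat.rec M z s n := Nat.rec h0 (fun n ih => (hs n).trans (congrArg (s n) ih)) n
private noncomputable def _root_.Cfsg.Agent.KO2ce50ec.k31.{ku0} : type_of% @Fin.foldr.loop.{ku0} := @(fun x0 x1 x2 x3 x4 x5 => @Nat.rec.{ku0} @(fun x6 => (@LE.le.{0} _ _ @x6 @x1) → @x0 → @x0) @(fun x6 x7 => @x7) @(fun x6 x7 x8 x9 => @x7 (@Nat.le_of_lt _ _ @x8) (@x2 (@Fin.mk _ @x6 @x8) @x9)) @x3 @x4 @x5)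
private theorem _root_.Cfsg.Agent.KO2ce50ec.e31.{ku0} : @Fin.foldr.loop.{ku0} = @_root_.Cfsg.Agent.KO2ce50ec.k31.{ku0} := by delta _root_.Cfsg.Agent.KO2ce50ec.k31; funext a0 a1 a2 a3 a4 a5; refine (congrFun (congrFun (_root_.Cfsg.Agent.KO2ce50ec.e30 (fun a3 a4 a5 => @Fin.foldr.loop.{ku0} a0 a1 a2 a3 a4 a5) ?_ (fun c0 => ?_) a3) a4) a5 :) <;> (rfl')
private noncomputable def _root_.Cfsg.Agent.KO2ce50ec.k32 : (by first | exact type_of% @Cfsg.Agent.H523.DspPath.ei | exact Unit : Sort _) := by first | (refine @Subtype.val _ (fun g => @Cfsg.Agent.H523.DspPath.ei = @g) (@Subtype.mk _ _ (@(letI c0 := @Int.ofNat; @(fun x0 x1 => @Cfsg.Agent.KO2ce50ec.k6.{0, 0} _ _ @(fun x2 => @Decidable.rec.{1} _ @(fun x3 => ℤ) @(fun x3 => @c0 (nat_lit 0)) @(fun x3 => @c0 (nat_lit 1)) (@Cfsg.Agent.KO2ce50ec.k29 @x0 @x2 @x1)) (@Cfsg.Agent.KO2ce50ec.k31.{1} _ @x0 @(fun x2 x3 => @x2 :: @x3) @x0 (@Nat.le_refl @x0) []))))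 ?_); rewrite [← Cfsg.Agent.KO2ce50ec.e31.{1}, ← Cfsg.Agent.KO2ce50ec.e29, ← Cfsg.Agent.KO2ce50ec.e6.{0, 0}]; rfl') | exact @Cfsg.Agent.H523.DspPath.ei | exact ()
private theorem _root_.Cfsg.Agent.KO2ce50ec.e32 : (by first | exact @Cfsg.Agent.H523.DspPath.ei = @_root_.Cfsg.Agent.KO2ce50ec.k32 | exact True : Prop) := by first | (delta _root_.Cfsg.Agent.KO2ce50ec.k32; exact @Subtype.property _ (fun g => @Cfsg.Agent.H523.DspPath.ei = @g) _) | rfl | trivial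
private noncomputable def _root_.Cfsg.Agent.KO2ce50ec.k33s : (by first | exact Subtype (fun g => @List.sum.{0} (ℤ) _ _ = @g) | exact Unit : Sort _) := by first | (refine @Subtype.mk _ _ (@Cfsg.Agent.KO2ce50ec.k23.{0, 0} _ _ @(fun x0 x1 => @Cfsg.Agent.KO2ce50ec.k20 @x0 @x1) (@Int.ofNat (nat_lit 0))) ?_; rewrite [← Cfsg.Agent.KO2ce50ec.e20, ← Cfsg.Agent.KO2ce50ec.e23.{0, 0}]; (try delta List.sum); with_reducible_and_instances rfl) | exact ⟨_, rfl⟩ | exact ()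
private noncomputable def _root_.Cfsg.Agent.KO2ce50ec.k33 : (by first | exact type_of% (@Subtype.val _ _ _root_.Cfsg.Agent.KO2ce50ec.k33s) | exact Unit : Sort _) := by first | exact @Subtype.val _ _ _root_.Cfsg.Agent.KO2ce50ec.k33s | exact ()
private theorem _root_.Cfsg.Agent.KO2ce50ec.e33 : (by first | exact type_of% (show _ = @_root_.Cfsg.Agent.KO2ce50ec.k33 from @Subtype.property _ _ _root_.Cfsg.Agent.KO2ce50ec.k33s) | exact True : Prop) := by first | exact @Subtype.property _ _ _root_.Cfsg.Agent.KO2ce50ec.k33s | trivial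
private noncomputable def _root_.Cfsg.Agent.KO2ce50ec.k34 : type_of% @Nat.decidableExistsLT := @(fun x0 x1 x2 => @Nat.rec.{1} @(fun x3 => @Decidable (@Exists.{1} _ @(fun x4 => @And (@LT.lt.{0} _ _ @x4 @x3) (@x0 @x4)))) (@Decidable.isFalse _ (@Nat.decidableExistsLT._proof_5 _)) @(fun x3 x4 => @Decidable.rec.{1} _ @(fun x5 => @Decidable (@Exists.{1} _ @(fun x6 => @And (@LT.lt.{0} _ _ @x6 (@HAdd.hAdd.{0, 0, 0} _ _ _ _ @x3 ((1 : ℕ)))) (@x0 @x6)))) @(fun x5 => @Decidable.isFalse _ (@decidable_of_decidable_of_iff._proof_1 _ _ (@Nat.decidableExistsLT._proof_10 _ @x3) @x5)) @(fun x5 => @Decidable.isTrue _ (@Iff.mp _ _ (@Nat.decidableExistsLT._proof_10 _ @x3) @x5)) (@Cfsg.Agent.KO2ce50ec.k13 _ _ @x4 (@x1 @x3))) @x2)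
private noncomputable def _root_.Cfsg.Agent.KO2ce50ec.k35 : type_of% @Nat.decLe := @(fun x0 x1 => @Decidable.rec.{1} _ @(fun x2 => @Decidable (@LE.le.{0} _ _ @x0 @x1)) @(fun x2 => @Decidable.isFalse _ (@Nat.not_le_of_not_ble_eq_true _ _ @x2)) @(fun x2 => @Decidable.isTrue _ (@Nat.le_of_ble_eq_true _ _ @x2)) (@Cfsg.Agent.KO2ce50ec.k14 (@Nat.ble @x0 @x1) @Bool.true))
private noncomputable def _root_.Cfsg.Agent.KO2ce50ec.k36 : type_of% @Nat.decidableExistsFin := @(fun x0 x1 x2 => @Decidable.rec.{1} _ @(fun x3 => @Decidable (@Exists.{1} _ @(fun x4 => @x1 @x4))) @(fun x3 => @Decidable.isFalse _ (@decidable_of_decidable_of_iff._proof_1 _ _ (@Nat.decidableExistsFin._proof_1 _ @x1) @x3)) @(fun x3 => @Decidable.isTrue _ (@Iff.mp _ _ (@Nat.decidableExistsFin._proof_1 _ @x1) @x3)) (@Cfsg.Agent.KO2ce50ec.k34 @(fun x3 => (x4 : @LT.lt.{0} _ _ @x3 @x0) → @x1 (@Fin.mk _ @x3 @x4)) @(fun x3 => @Decidable.rec.{1}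 _ @(fun x4 => @Decidable ((x5 : @LT.lt.{0} _ _ @x3 @x0) → @x1 (@Fin.mk _ @x3 @x5))) @(fun x4 => @Decidable.isTrue _ (@forall_prop_decidable._proof_2 _ @(fun x5 => @x1 (@Fin.mk _ @x3 @x5)) @x4)) @(fun x4 => @Decidable.rec.{1} _ @(fun x5 => @Decidable ((x6 : @LT.lt.{0} _ _ @x3 @x0) → @x1 (@Fin.mk _ @x3 @x6))) @(fun x5 => @Decidable.isFalse _ (@decidable_of_decidable_of_iff._proof_1 _ _ (@forall_prop_decidable._proof_1 _ @(fun x6 => @x1 (@Fin.mk _ @x3 @x6)) @x4) @x5)) @(fun x5 => @Decidable.isTrue _ (@Iff.mp _ _ (@forall_prop_decidable._proof_1 _ @(fun x6 => @x1 (@Fin.mk _ @x3 @x6)) @x4) @x5)) (@x2 (@Fin.mk _ @x3 @x4))) (@Cfsg.Agent.KO2ce50ec.k35 (@Nat.succ @x3) @x0)) @x0))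
private theorem _root_.Cfsg.Agent.KO2ce50ec.e36 : @Nat.decidableExistsFin = @_root_.Cfsg.Agent.KO2ce50ec.k36 := by delta _root_.Cfsg.Agent.KO2ce50ec.k36; exact Subsingleton.elim _ _
private noncomputable def _root_.Cfsg.Agent.KO2ce50ec.k37 : type_of% @instDecidableAnd := @(fun x0 x1 x2 x3 => @Decidable.rec.{1} _ @(fun x4 => @Decidable (@And @x0 @x1)) @(fun x4 => @Decidable.isFalse _ (@instDecidableAnd._proof_2 _ _ @x4)) @(fun x4 => @Decidable.rec.{1} _ @(fun x5 => @Decidable (@And @x0 @x1)) @(fun x5 => @Decidable.isFalse _ (@instDecidableAnd._proof_1 _ _ @x5)) @(fun x5 => @Decidable.isTrue _ (@And.intro _ _ @x4 @x5)) @x3) @x2)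
private theorem _root_.Cfsg.Agent.KO2ce50ec.e37 : @instDecidableAnd = @_root_.Cfsg.Agent.KO2ce50ec.k37 := by delta _root_.Cfsg.Agent.KO2ce50ec.k37; exact Subsingleton.elim _ _
private noncomputable def _root_.Cfsg.Agent.KO2ce50ec.k38 : type_of% @Int.decLt := @(letI c0 := @Int.rec.{1}; letI c1 := @Int.ofNat; @(fun x0 x1 => @decidable_of_iff' _ _ (by rewrite [← Cfsg.Agent.KO2ce50ec.e20]; rfl') (@c0 @(fun x2 => @Decidable (@Int.NonNeg @x2)) @(fun x2 => @Decidable.isTrue _ (@Int.NonNeg.mk @x2)) @(fun x2 => @Decidable.isFalse _ (@Int.decNonneg._proof_1 @x2)) (@Cfsg.Agent.KO2ce50ec.k20 @x1 (@c0 @(fun x2 => ℤ) @(fun x2 => @Nat.rec.{1} @(fun x3 => ℤ) (@c1 (nat_lit 0)) @(fun x3 x4 => @Int.negSucc @x3) @x2) @(fun x2 => @c1 (@Nat.succ @x2)) (@Cfsg.Agent.KO2ce50ec.k20 @x0 (@c1 (nat_lit 1))))))))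
private theorem _root_.Cfsg.Agent.KO2ce50ec.e38 : @Int.decLt = @_root_.Cfsg.Agent.KO2ce50ec.k38 := by delta _root_.Cfsg.Agent.KO2ce50ec.k38; exact Subsingleton.elim _ _

theorem rt6 : RT 6 aE6 L6 (fun _ => 1) (fun _ => 1) :=
  rt_of (by (first | (refine of_decide_eq_true ?_; rewrite [Cfsg.Agent.KO2ce50ec.e4, Cfsg.Agent.KO2ce50ec.e5, Cfsg.Agent.KO2ce50ec.e6.{0, 0}, Cfsg.Agent.KO2ce50ec.e7]; decide +kernel) | decide +kernel)) (by decide +kernel) (by decide +kernel) (by decide +kernel) (by (first | (refine of_decide_eq_true ?_; rewrite [Cfsg.Agent.KO2ce50ec.e10, Cfsg.Agent.KO2ce50ec.e5, Cfsg.Agent.KO2ce50ec.e1.{0}, Cfsg.Agent.KO2ce50ec.e12, Cfsg.Agent.KO2ce50ec.e13, Cfsg.Agent.KO2ce50ec.e15, Cfsg.Agent.KO2ce50ec.e17, Cfsg.Agent.KO2ce50ec.e28, Cfsg.Agent.KO2ce50ec.e32]; decide +kernel) | decide +kernel)) (by (first | (refine of_decide_eq_true ?_; rewrite [Cfsg.Agent.KO2ce50ec.e33, Cfsg.Agent.KO2ce50ec.e5,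 Cfsg.Agent.KO2ce50ec.e1.{0}, Cfsg.Agent.KO2ce50ec.e36, Cfsg.Agent.KO2ce50ec.e37, Cfsg.Agent.KO2ce50ec.e38, Cfsg.Agent.KO2ce50ec.e27, Cfsg.Agent.KO2ce50ec.e28]; decide +kernel) | decide +kernel))

theorem sh6 : Sh 6 aE6 := by unfold Sh; decide +kernel

theorem dtab6 : DTab CoxeterMatrix.E₆ 1 3 ![2, 3, 3, 1, 3, 4] ![3, 0, 2, 1, 2, 3] where
  h4 := by decide +kernel
  h6 := by decide +kernel
  hij := by decide +kernel
  orth := by decide +kernel
  con := by decide +kernel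
  conE := by decide +kernel

private noncomputable def _root_.Cfsg.Agent.KO2ce50ec.k43s : (by first | exact Subtype (fun g => @List.instDecidableMemOfLawfulBEq.{0} (@List.{0} ℤ) _ = @g) | exact Unit : Sort _) := by first | (refine @Subtype.mk _ _ (@(letI c0 := @List.instDecidableMemOfLawfulBEq._proof_1.{0}; @(fun x0 x1 x2 => @Decidable.rec.{1} _ @(fun x3 => @Decidable (@Membership.mem.{0, 0} _ _ _ @x2 @x1)) @(fun x3 => @Decidable.isFalse _ (@decidable_of_decidable_of_iff._proof_1 _ _ (@c0 _ _ _ @x1 @x2) @x3)) @(fun x3 => @Decidable.isTrue _ (@Iff.mp _ _ (@c0 _ _ _ @x1 @x2) @x3)) (@Cfsg.Agent.KO2ce50ec.k14 (@List.elem.{0} _ (@List.instBEq.{0} _ (@instBEqOfDecidableEq.{0} _ @Int.instDecidableEq)) @x1 @x2) @Bool.true)))) ?_; exact Subsingleton.elim _ _) | exact ⟨_, rfl⟩ | exact ()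
private noncomputable def _root_.Cfsg.Agent.KO2ce50ec.k43 : (by first | exact type_of% (@Subtype.val _ _ _root_.Cfsg.Agent.KO2ce50ec.k43s) | exact Unit : Sort _) := by first | exact @Subtype.val _ _ _root_.Cfsg.Agent.KO2ce50ec.k43s | exact ()
private theorem _root_.Cfsg.Agent.KO2ce50ec.e43 : (by first | exact type_of% (show _ = @_root_.Cfsg.Agent.KO2ce50ec.k43 from @Subtype.property _ _ _root_.Cfsg.Agent.KO2ce50ec.k43s) | exact True : Prop) := by first | exact @Subtype.property _ _ _root_.Cfsg.Agent.KO2ce50ec.k43s | trivial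
private noncomputable def _root_.Cfsg.Agent.KO2ce50ec.k44 : type_of% @forall_prop_decidable := @(fun x0 x1 x2 x3 => @Decidable.rec.{1} _ @(fun x4 => @Decidable ((x5 : @x0) → @x1 @x5)) @(fun x4 => @Decidable.isTrue _ (@forall_prop_decidable._proof_2 _ @x1 @x4)) @(fun x4 => @Decidable.rec.{1} _ @(fun x5 => @Decidable ((x6 : @x0) → @x1 @x6)) @(fun x5 => @Decidable.isFalse _ (@decidable_of_decidable_of_iff._proof_1 _ _ (@forall_prop_decidable._proof_1 _ @x1 @x4) @x5)) @(fun x5 => @Decidable.isTrue _ (@Iff.mp _ _ (@forall_prop_decidable._proof_1 _ @x1 @x4) @x5)) (@x3 @x4)) @x2)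
private theorem _root_.Cfsg.Agent.KO2ce50ec.e44 : @forall_prop_decidable = @_root_.Cfsg.Agent.KO2ce50ec.k44 := by delta _root_.Cfsg.Agent.KO2ce50ec.k44; exact Subsingleton.elim _ _
private noncomputable def _root_.Cfsg.Agent.KO2ce50ec.k46.{ku0} : type_of% @List.getD.{ku0} := @(fun x0 x1 x2 x3 => @Option.rec.{(ku0+1), ku0} @x0 @(fun x4 => @x0) @x3 @(fun x4 => @x4) (@Cfsg.Agent.KO2ce50ec.k22.{ku0} _ @x1 @x2))
private theorem _root_.Cfsg.Agent.KO2ce50ec.e46.{ku0} : @List.getD.{ku0} = @_root_.Cfsg.Agent.KO2ce50ec.k46.{ku0} := by delta _root_.Cfsg.Agent.KO2ce50ec.k46; rewrite [← Cfsg.Agent.KO2ce50ec.e22.{ku0}]; rfl'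
private noncomputable def _root_.Cfsg.Agent.KO2ce50ec.k47 : type_of% @instDecidableNot := @(fun x0 x1 => @Decidable.rec.{1} _ @(fun x2 => @Decidable (¬ @x0)) @(fun x2 => @Decidable.isTrue _ @x2) @(fun x2 => @Decidable.isFalse _ (@absurd.{0} _ _ @x2)) @x1)
private theorem _root_.Cfsg.Agent.KO2ce50ec.e47 : @instDecidableNot = @_root_.Cfsg.Agent.KO2ce50ec.k47 := by delta _root_.Cfsg.Agent.KO2ce50ec.k47; exact Subsingleton.elim _ _
private noncomputable def _root_.Cfsg.Agent.KO2ce50ec.k48s : (by first | exact Subtype (fun g => @List.decidableBAll.{0} (ℤ) (@LE.le.{0} _ _ (@OfNat.ofNat.{0} _ (nat_lit 0) _)) _ = @g) | exact Unit : Sort _) := by first | (refine @Subtype.mk _ _ (@(letI c0 := @OfNat.ofNat.{0}; letI c1 := @Decidable.isTrue; letI c2 := @Decidable.rec.{1}; letI c3 := @Decidable.isFalse; @(by set_option smartUnfolding false in with_unfolding_all exact @(fun x0 => @List.rec.{1, 0} ℤ @(fun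 x1 => @Decidable ((x2 : ℤ) → (@Membership.mem.{0, 0} _ _ _ @x1 @x2) → @LE.le.{0} _ _ (@c0 _ (nat_lit 0) _) @x2)) (@c1 _ (@List.decidableBAll._proof_1.{0} _ (@LE.le.{0} _ _ (@c0 _ (nat_lit 0) _)))) @(fun x1 x2 x3 => @c2 _ @(fun x4 => @Decidable ((x5 : ℤ) → (@Membership.mem.{0, 0} _ _ _ (@x1 :: @x2) @x5) → @LE.le.{0} _ _ (@c0 _ (nat_lit 0) _) @x5)) @(fun x4 => @c3 _ (@List.decidableBAll._proof_4.{0} _ (@LE.le.{0} _ _ (@c0 _ (nat_lit 0) _)) @x1 @x2 @x4)) @(fun x4 => @c2 _ @(fun x5 => @Decidable ((x6 : ℤ) → (@Membership.mem.{0, 0} _ _ _ (@x1 :: @x2) @x6) → @LE.le.{0} _ _ (@c0 _ (nat_lit 0) _) @x6)) @(fun x5 => @c3 _ (@List.decidableBAll._proof_3.{0} _ (@LE.le.{0} _ _ (@c0 _ (nat_lit 0) _)) @x1 @x2 @x5)) @(fun x5 => @c1 _ (@List.decidableBAll._proof_2.{0} _ (@LE.le.{0} _ _ (@c0 _ (nat_lit 0) _)) @x1 @x2 @x4 @x5)) @x3) (@Int.rec.{1} @(fun x4 => @Decidable (@Int.NonNeg @x4)) @(fun x4 => @c1 _ (@Int.NonNeg.mk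 @x4)) @(fun x4 => @c3 _ (@Int.decNonneg._proof_1 @x4)) (@Int.add @x1 (@Int.ofNat (nat_lit 0))))) @x0)))) ?_; exact Subsingleton.elim _ _) | exact ⟨_, rfl⟩ | exact ()
private noncomputable def _root_.Cfsg.Agent.KO2ce50ec.k48 : (by first | exact type_of% (@Subtype.val _ _ _root_.Cfsg.Agent.KO2ce50ec.k48s) | exact Unit : Sort _) := by first | exact @Subtype.val _ _ _root_.Cfsg.Agent.KO2ce50ec.k48s | exact ()
private theorem _root_.Cfsg.Agent.KO2ce50ec.e48 : (by first | exact type_of% (show _ = @_root_.Cfsg.Agent.KO2ce50ec.k48 from @Subtype.property _ _ _root_.Cfsg.Agent.KO2ce50ec.k48s) | exact True : Prop) := by first | exact @Subtype.property _ _ _root_.Cfsg.Agent.KO2ce50ec.k48s | trivial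
private noncomputable def _root_.Cfsg.Agent.KO2ce50ec.k49 : type_of% @Int.decLe := @(letI c0 := @Int.rec.{1}; letI c1 := @Int.ofNat; @(fun x0 x1 => @decidable_of_iff' _ _ (by rewrite [← Cfsg.Agent.KO2ce50ec.e20]; rfl') (@c0 @(fun x2 => @Decidable (@Int.NonNeg @x2)) @(fun x2 => @Decidable.isTrue _ (@Int.NonNeg.mk @x2)) @(fun x2 => @Decidable.isFalse _ (@Int.decNonneg._proof_1 @x2)) (@Cfsg.Agent.KO2ce50ec.k20 @x1 (@c0 @(fun x2 => ℤ) @(fun x2 => @Nat.rec.{1} @(fun x3 => ℤ) (@c1 (nat_lit 0)) @(fun x3 x4 => @Int.negSucc @x3) @x2) @(fun x2 => @c1 (@Nat.succ @x2)) @x0)))))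
private theorem _root_.Cfsg.Agent.KO2ce50ec.e49 : @Int.decLe = @_root_.Cfsg.Agent.KO2ce50ec.k49 := by delta _root_.Cfsg.Agent.KO2ce50ec.k49; exact Subsingleton.elim _ _
private noncomputable def _root_.Cfsg.Agent.KO2ce50ec.k50 : (by first | exact type_of% @Cfsg.Agent.H122.SNX.wact | exact Unit : Sort _) := by first | (refine @Subtype.val _ (fun g => @Cfsg.Agent.H122.SNX.wact = @g) (@Subtype.mk _ _ (@(fun x0 x1 x2 x3 => @List.rec.{1, 0} (@Fin @x0) @(fun x4 => (@List.{0} ℤ) → @List.{0} ℤ) @(fun x4 => @x4) @(fun x4 x5 x6 x7 => @Cfsg.Agent.KO2ce50ec.k28 @x1 (@x6 @x7) (@Fin.val _ @x4)) @x2 @x3)) ?_); rewrite [← Cfsg.Agent.KO2ce50ec.e28]; funext a0 a1 a2 a3; refine (congrFun (_root_.Cfsg.Agent.KO2ce50ec.e0 (fun a2 a3 => @Cfsg.Agent.H122.SNX.wact a0 a1 a2 a3) ?_ (fun c0 c1 => ?_) a2) a3 :) <;> ((try delta Cfsg.Agent.H122.SNX.wact Cfsg.Agent.H122.SNX.wact._f); (try generalize @Cfsg.Agent.H523.DspTab.rfL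 = g0); rfl')) | exact @Cfsg.Agent.H122.SNX.wact | exact ()
private theorem _root_.Cfsg.Agent.KO2ce50ec.e50 : (by first | exact @Cfsg.Agent.H122.SNX.wact = @_root_.Cfsg.Agent.KO2ce50ec.k50 | exact True : Prop) := by first | (delta _root_.Cfsg.Agent.KO2ce50ec.k50; exact @Subtype.property _ (fun g => @Cfsg.Agent.H122.SNX.wact = @g) _) | rfl | trivial

theorem tab6 : Tab CoxeterMatrix.E₆ aE6 L6 1 3 [0, 1, 1, 2, 1, 0] [1, 1, 2, 3, 2, 1] 2 3 4 0 2
    [3, 1, 2, 3]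
    [3, 4, 5, 1, 3, 4, 2, 3, 0, 2, 1, 3] where
  g0 := by decide +kernel
  g1 := by decide +kernel
  g2 := by decide +kernel
  t0 := by (first | (refine of_decide_eq_true ?_; rewrite [Cfsg.Agent.KO2ce50ec.e33, Cfsg.Agent.KO2ce50ec.e43, Cfsg.Agent.KO2ce50ec.e10, Cfsg.Agent.KO2ce50ec.e5, Cfsg.Agent.KO2ce50ec.e1.{0}, Cfsg.Agent.KO2ce50ec.e44, Cfsg.Agent.KO2ce50ec.e37, Cfsg.Agent.KO2ce50ec.e46.{0}, Cfsg.Agent.KO2ce50ec.e13, Cfsg.Agent.KO2ce50ec.e32, Cfsg.Agent.KO2ce50ec.e36, Cfsg.Agent.KO2ce50ec.e47, Cfsg.Agent.KO2ce50ec.e29, Cfsg.Agent.KO2ce50ec.e28, Cfsg.Agent.KO2ce50ec.e38]; decide +kernel) | decide +kernel)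
  sub := by decide +kernel
  pf := by decide +kernel
  fq := by decide +kernel
  pq := by decide +kernel
  wi := by decide +kernel
  wg := by decide +kernel
  gl := by decide +kernel
  wS := by (first | (refine of_decide_eq_true ?_; rewrite [Cfsg.Agent.KO2ce50ec.e48, Cfsg.Agent.KO2ce50ec.e10, Cfsg.Agent.KO2ce50ec.e5, Cfsg.Agent.KO2ce50ec.e1.{0}, Cfsg.Agent.KO2ce50ec.e44, Cfsg.Agent.KO2ce50ec.e49, Cfsg.Agent.KO2ce50ec.e46.{0}, Cfsg.Agent.KO2ce50ec.e37, Cfsg.Agent.KO2ce50ec.e50, Cfsg.Agent.KO2ce50ec.e47, Cfsg.Agent.KO2ce50ec.e32]; decide +kernel) | decide +kernel)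
  t4 := by decide +kernel
  ab := by decide +kernel
  wi5 := by decide +kernel
  wd := by decide +kernel
  dl := by decide +kernel
  dj := by decide +kernel
  top := by decide +kernel

theorem cmb6 {W : Type*} [Group W] [Finite W] (cs : CoxeterSystem CoxeterMatrix.E₆ W) (h : IsCartan CoxeterMatrix.E₆ (cartanOf chevE6 6)) :
    Cmb cs h 1 3 := cmb_of cs h sh6 aE6_ok rt6 dtab6 tab6

/-- the positive roots of `E₇` -/
noncomputable def L7 : List (List ℤ) := (beta% delta% lq26ec4e9428 fun a b c _ _ =>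
 (let d:=(let d:=(let d:=(let d:=(c (a 1<|a 2<|a 2<|a 3<|a 3<|a 2<|a 1<|b)<|
 c (a 1<|a 2<|a 2<|a 4<|a 3<|a 2<|a 1<|b)<|c (a 1<|a 2<|a 3<|a 4<|a 3<|a 2<|a 1<|b)<|c (a 2<|a 2<|a 3<|a 4<|a 3<|a 2<|a 1<|b)<|b);
 (c (a 1<|a 1<|a 2<|a 3<|a 2<|a 2<|a 1<|b)<|
 c (a 1<|a 2<|a 2<|a 3<|a 2<|a 1<|a 1<|b)<|c (a 1<|a 1<|a 2<|a 3<|a 3<|a 2<|a 1<|b)<|c (a 1<|a 2<|a 2<|a 3<|a 2<|a 2<|a 1<|b)<|d));
 (let d:=(c (a 1<|a 1<|a 2<|a 3<|a 2<|a 1<|a 0<|b)<|
 c (a 1<|a 1<|a 2<|a 2<|a 2<|a 2<|a 1<|b)<|c (a 1<|a 1<|a 2<|a 3<|a 2<|a 1<|a 1<|b)<|c (a 1<|a 2<|a 2<|a 3<|a 2<|a 1<|a 0<|b)<|d);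
 (c (a 1<|a 1<|a 2<|a 2<|a 1<|a 1<|a 1<|b)<|
 c (a 1<|a 1<|a 2<|a 2<|a 2<|a 1<|a 0<|b)<|c (a 1<|a 1<|a 1<|a 2<|a 2<|a 2<|a 1<|b)<|c (a 1<|a 1<|a 2<|a 2<|a 2<|a 1<|a 1<|b)<|d)));
 (let d:=(let d:=(c (a 1<|a 1<|a 1<|a 2<|a 2<|a 1<|a 0<|b)<|
 c (a 1<|a 1<|a 2<|a 2<|a 1<|a 1<|a 0<|b)<|c (a 0<|a 1<|a 1<|a 2<|a 2<|a 2<|a 1<|b)<|c (a 1<|a 1<|a 1<|a 2<|a 2<|a 1<|a 1<|b)<|d);
 (c (a 1<|a 1<|a 1<|a 2<|a 1<|a 1<|a 0<|b)<|
 c (a 1<|a 1<|a 2<|a 2<|a 1<|a 0<|a 0<|b)<|c (a 0<|a 1<|a 1<|a 2<|a 2<|a 1<|a 1<|b)<|c (a 1<|a 1<|a 1<|a 2<|a 1<|a 1<|a 1<|b)<|d));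
 (let d:=(c (a 1<|a 1<|a 1<|a 2<|a 1<|a 0<|a 0<|b)<|
 c (a 0<|a 1<|a 1<|a 2<|a 1<|a 1<|a 1<|b)<|c (a 0<|a 1<|a 1<|a 2<|a 2<|a 1<|a 0<|b)<|c (a 1<|a 1<|a 1<|a 1<|a 1<|a 1<|a 1<|b)<|d);
 (c (a 0<|a 1<|a 1<|a 1<|a 1<|a 1<|a 1<|b)<|
 c (a 0<|a 1<|a 1<|a 2<|a 1<|a 1<|a 0<|b)<|c (a 1<|a 0<|a 1<|a 1<|a 1<|a 1<|a 1<|b)<|c (a 1<|a 1<|a 1<|a 1<|a 1<|a 1<|a 0<|b)<|d))));
 (let d:=(let d:=(let d:=(c (a 0<|a 1<|a 1<|a 1<|a 1<|a 1<|a 0<|b)<|
 c (a 0<|a 1<|a 1<|a 2<|a 1<|a 0<|a 0<|b)<|c (a 1<|a 0<|a 1<|a 1<|a 1<|a 1<|a 0<|b)<|c (a 1<|a 1<|a 1<|a 1<|a 1<|a 0<|a 0<|b)<|d);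
 (c (a 1<|a 0<|a 1<|a 1<|a 1<|a 0<|a 0<|b)<|
 c (a 1<|a 1<|a 1<|a 1<|a 0<|a 0<|a 0<|b)<|c (a 0<|a 0<|a 1<|a 1<|a 1<|a 1<|a 1<|b)<|c (a 0<|a 1<|a 0<|a 1<|a 1<|a 1<|a 1<|b)<|d));
 (let d:=(c (a 0<|a 0<|a 0<|a 1<|a 1<|a 1<|a 1<|b)<|
 c (a 0<|a 0<|a 1<|a 1<|a 1<|a 1<|a 0<|b)<|c (a 0<|a 1<|a 0<|a 1<|a 1<|a 1<|a 0<|b)<|c (a 0<|a 1<|a 1<|a 1<|a 1<|a 0<|a 0<|b)<|d);
 (c (a 0<|a 0<|a 1<|a 1<|a 1<|a 0<|a 0<|b)<|
 c (a 0<|a 1<|a 0<|a 1<|a 1<|a 0<|a 0<|b)<|c (a 0<|a 1<|a 1<|a 1<|a 0<|a 0<|a 0<|b)<|c (a 1<|a 0<|a 1<|a 1<|a 0<|a 0<|a 0<|b)<|d)));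
 (let d:=(let d:=(c (a 0<|a 1<|a 0<|a 1<|a 0<|a 0<|a 0<|b)<|
 c (a 1<|a 0<|a 1<|a 0<|a 0<|a 0<|a 0<|b)<|c (a 0<|a 0<|a 0<|a 0<|a 1<|a 1<|a 1<|b)<|c (a 0<|a 0<|a 0<|a 1<|a 1<|a 1<|a 0<|b)<|d);
 (c (a 0<|a 0<|a 0<|a 0<|a 0<|a 1<|a 1<|b)<|
 c (a 0<|a 0<|a 0<|a 0<|a 1<|a 1<|a 0<|b)<|c (a 0<|a 0<|a 0<|a 1<|a 1<|a 0<|a 0<|b)<|c (a 0<|a 0<|a 1<|a 1<|a 0<|a 0<|a 0<|b)<|d));
 (a (a 0<|a 0<|a 0<|a 0<|a 0<|a 0<|a 1<|b)<|a (a 0<|a 0<|a 0<|a 0<|a 0<|a 1<|a 0<|b)<|a (a 0<|a 0<|a 0<|a 0<|a 1<|a 0<|a 0<|b)<|a (a 0<|a 0<|a 0<|a 1<|a 0<|a 0<|a 0<|b)<|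
 a (a 0<|a 0<|a 1<|a 0<|a 0<|a 0<|a 0<|b)<|a (a 0<|a 1<|a 0<|a 0<|a 0<|a 0<|a 0<|b)<|a (a 1<|a 0<|a 0<|a 0<|a 0<|a 0<|a 0<|b)<|d)))))

theorem rt7 : RT 7 aE7 L7 (fun _ => 1) (fun _ => 1) :=
  rt_of (by (first | (refine of_decide_eq_true ?_; rewrite [Cfsg.Agent.KO2ce50ec.e4, Cfsg.Agent.KO2ce50ec.e5, Cfsg.Agent.KO2ce50ec.e6.{0, 0}, Cfsg.Agent.KO2ce50ec.e7]; decide +kernel) | decide +kernel)) (by decide +kernel) (by decide +kernel) (by decide +kernel) (by (first | (refine of_decide_eq_true ?_; rewrite [Cfsg.Agent.KO2ce50ec.e10, Cfsg.Agent.KO2ce50ec.e5, Cfsg.Agent.KO2ce50ec.e1.{0}, Cfsg.Agent.KO2ce50ec.e12, Cfsg.Agent.KO2ce50ec.e13, Cfsg.Agent.KO2ce50ec.e15, Cfsg.Agent.KO2ce50ec.e17, Cfsg.Agent.KO2ce50ec.e28, Cfsg.Agent.KO2ce50ec.e32]; decide +kernel) | decide +kernel)) (by (first | (refine of_decide_eq_true ?_; rewrite [Cfsg.Agent.KO2ce50ec.e33, Cfsg.Agent.KO2ce50ec.e5, Cfsg.Agent.KO2ce50ec.e1.{0},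 Cfsg.Agent.KO2ce50ec.e36, Cfsg.Agent.KO2ce50ec.e37, Cfsg.Agent.KO2ce50ec.e38, Cfsg.Agent.KO2ce50ec.e27, Cfsg.Agent.KO2ce50ec.e28]; decide +kernel) | decide +kernel))

theorem sh7 : Sh 7 aE7 := by unfold Sh; decide +kernel

theorem dtab7 : DTab CoxeterMatrix.E₇ 0 2 ![0, 3, 0, 2, 3, 4, 5] ![0, 3, 1, 2, 3, 4, 5] where
  h4 := by decide +kernel
  h6 := by decide +kernel
  hij := by decide +kernel
  orth := by decide +kernel
  con := by decide +kernel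
  conE := by decide +kernel

theorem tab7 : Tab CoxeterMatrix.E₇ aE7 L7 0 2 [1, 1, 2, 2, 1, 0, 0] [1, 2, 3, 4, 3, 2, 1] 1 3 4 6 5
    [3, 2, 0, 1, 3, 2]
    (beta% delta% lq26ec4e9428 fun a b _ _ _ =>
 (a 4<|a 3<|a 2<|a 1<|a 3<|a 4<|a 5<|a 6<|a 0<|a 2<|a 3<|a 4<|a 5<|a 1<|a 3<|a 4<|a 2<|a 3<|a 0<|a 2<|b) :
 List (Fin 7)) where
  g0 := by decide +kernel
  g1 := by decide +kernel
  g2 := by decide +kernel
  t0 := by (first | (refine of_decide_eq_true ?_; rewrite [Cfsg.Agent.KO2ce50ec.e33, Cfsg.Agent.KO2ce50ec.e43, Cfsg.Agent.KO2ce50ec.e10, Cfsg.Agent.KO2ce50ec.e5, Cfsg.Agent.KO2ce50ec.e1.{0}, Cfsg.Agent.KO2ce50ec.e44, Cfsg.Agent.KO2ce50ec.e37, Cfsg.Agent.KO2ce50ec.e46.{0}, Cfsg.Agent.KO2ce50ec.e13, Cfsg.Agent.KO2ce50ec.e32, Cfsg.Agent.KO2ce50ec.e36, Cfsg.Agent.KO2ce50ec.e47, Cfsg.Agent.KO2ce50ec.e29, Cfsg.Agent.KO2ce50ec.e28, Cfsg.Agent.KO2ce50ec.e38]; decide +kernel) | decide +kernel)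
  sub := by decide +kernel
  pf := by decide +kernel
  fq := by decide +kernel
  pq := by decide +kernel
  wi := by decide +kernel
  wg := by decide +kernel
  gl := by decide +kernel
  wS := by (first | (refine of_decide_eq_true ?_; rewrite [Cfsg.Agent.KO2ce50ec.e48, Cfsg.Agent.KO2ce50ec.e10, Cfsg.Agent.KO2ce50ec.e5, Cfsg.Agent.KO2ce50ec.e1.{0}, Cfsg.Agent.KO2ce50ec.e44, Cfsg.Agent.KO2ce50ec.e49, Cfsg.Agent.KO2ce50ec.e46.{0}, Cfsg.Agent.KO2ce50ec.e37, Cfsg.Agent.KO2ce50ec.e50, Cfsg.Agent.KO2ce50ec.e47, Cfsg.Agent.KO2ce50ec.e32]; decide +kernel) | decide +kernel)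
  t4 := by (first | (refine of_decide_eq_true ?_; rewrite [Cfsg.Agent.KO2ce50ec.e33, Cfsg.Agent.KO2ce50ec.e43, Cfsg.Agent.KO2ce50ec.e10, Cfsg.Agent.KO2ce50ec.e5, Cfsg.Agent.KO2ce50ec.e1.{0}, Cfsg.Agent.KO2ce50ec.e44, Cfsg.Agent.KO2ce50ec.e46.{0}, Cfsg.Agent.KO2ce50ec.e13, Cfsg.Agent.KO2ce50ec.e36, Cfsg.Agent.KO2ce50ec.e37, Cfsg.Agent.KO2ce50ec.e47, Cfsg.Agent.KO2ce50ec.e29, Cfsg.Agent.KO2ce50ec.e28, Cfsg.Agent.KO2ce50ec.e38]; decide +kernel) | decide +kernel)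
  ab := by decide +kernel
  wi5 := by decide +kernel
  wd := by decide +kernel
  dl := by decide +kernel
  dj := by decide +kernel
  top := by decide +kernel

theorem cmb7 {W : Type*} [Group W] [Finite W] (cs : CoxeterSystem CoxeterMatrix.E₇ W) (h : IsCartan CoxeterMatrix.E₇ (cartanOf chevE7 7)) :
    Cmb cs h 0 2 := cmb_of cs h sh7 aE7_ok rt7 dtab7 tab7

/-- the positive roots of `E₈` -/
noncomputable def L8 : List (List ℤ) := (beta% delta% lq26ec4e9428 fun a b c _ _ =>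
 (let d:=(let d:=(let d:=(let d:=(let d:=(c (a 2<|a 3<|a 4<|a 6<|a 5<|a 3<|a 2<|a 1<|b)<|c (a 2<|a 3<|a 4<|a 6<|a 5<|a 4<|a 2<|a 1<|b)<|c (a 2<|a 3<|a 4<|a 6<|a 5<|a 4<|a 3<|a 1<|b)<|c (a 2<|a 3<|a 4<|a 6<|a 5<|a 4<|a 3<|a 2<|b)<|b);
 (c (a 2<|a 2<|a 4<|a 5<|a 4<|a 3<|a 2<|a 1<|b)<|c (a 2<|a 3<|a 3<|a 5<|a 4<|a 3<|a 2<|a 1<|b)<|c (a 2<|a 3<|a 4<|a 5<|a 4<|a 3<|a 2<|a 1<|b)<|c (a 2<|a 3<|a 4<|a 6<|a 4<|a 3<|a 2<|a 1<|b)<|
 d));
 (c (a 2<|a 2<|a 3<|a 4<|a 3<|a 2<|a 2<|a 1<|b)<|c (a 1<|a 2<|a 3<|a 4<|a 4<|a 3<|a 2<|a 1<|b)<|c (a 2<|a 2<|a 3<|a 4<|a 3<|a 3<|a 2<|a 1<|b)<|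
 c (a 1<|a 2<|a 3<|a 5<|a 4<|a 3<|a 2<|a 1<|b)<|c (a 2<|a 2<|a 3<|a 4<|a 4<|a 3<|a 2<|a 1<|b)<|c (a 1<|a 3<|a 3<|a 5<|a 4<|a 3<|a 2<|a 1<|b)<|c (a 2<|a 2<|a 3<|a 5<|a 4<|a 3<|a 2<|a 1<|b)<|
 d));
 (let d:=(let d:=(c (a 1<|a 2<|a 3<|a 4<|a 3<|a 2<|a 2<|a 1<|b)<|c (a 2<|a 2<|a 3<|a 4<|a 3<|a 2<|a 1<|a 1<|b)<|c (a 1<|a 2<|a 2<|a 4<|a 4<|a 3<|a 2<|a 1<|b)<|
 c (a 1<|a 2<|a 3<|a 4<|a 3<|a 3<|a 2<|a 1<|b)<|d);
 (c (a 1<|a 2<|a 2<|a 4<|a 3<|a 2<|a 2<|a 1<|b)<|c (a 1<|a 2<|a 3<|a 4<|a 3<|a 2<|a 1<|a 1<|b)<|c (a 2<|a 2<|a 3<|a 4<|a 3<|a 2<|a 1<|a 0<|b)<|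
 c (a 1<|a 2<|a 2<|a 4<|a 3<|a 3<|a 2<|a 1<|b)<|d));
 (c (a 1<|a 2<|a 2<|a 3<|a 3<|a 2<|a 1<|a 1<|b)<|c (a 1<|a 2<|a 2<|a 4<|a 3<|a 2<|a 1<|a 0<|b)<|
 c (a 1<|a 1<|a 2<|a 3<|a 3<|a 3<|a 2<|a 1<|b)<|c (a 1<|a 2<|a 2<|a 3<|a 3<|a 2<|a 2<|a 1<|b)<|c (a 1<|a 2<|a 2<|a 4<|a 3<|a 2<|a 1<|a 1<|b)<|c (a 1<|a 2<|a 3<|a 4<|a 3<|a 2<|a 1<|a 0<|b)<|
 c (a 1<|a 2<|a 2<|a 3<|a 3<|a 3<|a 2<|a 1<|b)<|d)));
 (let d:=(let d:=(let d:=(c (a 1<|a 2<|a 2<|a 3<|a 2<|a 2<|a 1<|a 1<|b)<|c (a 1<|a 2<|a 2<|a 3<|a 3<|a 2<|a 1<|a 0<|b)<|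
 c (a 1<|a 1<|a 2<|a 3<|a 3<|a 2<|a 2<|a 1<|b)<|c (a 1<|a 2<|a 2<|a 3<|a 2<|a 2<|a 2<|a 1<|b)<|d);
 (c (a 1<|a 2<|a 2<|a 3<|a 2<|a 1<|a 1<|a 1<|b)<|c (a 1<|a 2<|a 2<|a 3<|a 2<|a 2<|a 1<|a 0<|b)<|
 c (a 1<|a 1<|a 2<|a 3<|a 2<|a 2<|a 2<|a 1<|b)<|c (a 1<|a 1<|a 2<|a 3<|a 3<|a 2<|a 1<|a 1<|b)<|d));
 (c (a 1<|a 1<|a 2<|a 2<|a 2<|a 2<|a 1<|a 1<|b)<|
 c (a 1<|a 1<|a 2<|a 3<|a 2<|a 1<|a 1<|a 1<|b)<|c (a 1<|a 1<|a 2<|a 3<|a 2<|a 2<|a 1<|a 0<|b)<|c (a 1<|a 2<|a 2<|a 3<|a 2<|a 1<|a 1<|a 0<|b)<|c (a 1<|a 1<|a 2<|a 2<|a 2<|a 2<|a 2<|a 1<|b)<|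
 c (a 1<|a 1<|a 2<|a 3<|a 2<|a 2<|a 1<|a 1<|b)<|c (a 1<|a 1<|a 2<|a 3<|a 3<|a 2<|a 1<|a 0<|b)<|d));
 (let d:=(let d:=(c (a 1<|a 1<|a 2<|a 2<|a 2<|a 2<|a 1<|a 0<|b)<|
 c (a 1<|a 1<|a 2<|a 3<|a 2<|a 1<|a 1<|a 0<|b)<|c (a 1<|a 2<|a 2<|a 3<|a 2<|a 1<|a 0<|a 0<|b)<|c (a 1<|a 1<|a 1<|a 2<|a 2<|a 2<|a 2<|a 1<|b)<|d);
 (c (a 1<|a 1<|a 2<|a 3<|a 2<|a 1<|a 0<|a 0<|b)<|
 c (a 0<|a 1<|a 1<|a 2<|a 2<|a 2<|a 2<|a 1<|b)<|c (a 1<|a 1<|a 1<|a 2<|a 2<|a 2<|a 1<|a 1<|b)<|c (a 1<|a 1<|a 2<|a 2<|a 2<|a 1<|a 1<|a 1<|b)<|d));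
 (c (a 1<|a 1<|a 2<|a 2<|a 1<|a 1<|a 1<|a 0<|b)<|c (a 1<|a 1<|a 2<|a 2<|a 2<|a 1<|a 0<|a 0<|b)<|c (a 0<|a 1<|a 1<|a 2<|a 2<|a 2<|a 1<|a 1<|b)<|c (a 1<|a 1<|a 1<|a 2<|a 2<|a 1<|a 1<|a 1<|b)<|
 c (a 1<|a 1<|a 1<|a 2<|a 2<|a 2<|a 1<|a 0<|b)<|c (a 1<|a 1<|a 2<|a 2<|a 1<|a 1<|a 1<|a 1<|b)<|c (a 1<|a 1<|a 2<|a 2<|a 2<|a 1<|a 1<|a 0<|b)<|d))));
 (let d:=(let d:=(let d:=(let d:=(c (a 0<|a 1<|a 1<|a 2<|a 2<|a 1<|a 1<|a 1<|b)<|c (a 0<|a 1<|a 1<|a 2<|a 2<|a 2<|a 1<|a 0<|b)<|c (a 1<|a 1<|a 1<|a 2<|a 1<|a 1<|a 1<|a 1<|b)<|c (a 1<|a 1<|a 1<|a 2<|a 2<|a 1<|a 1<|a 0<|b)<|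
 d);
 (c (a 1<|a 1<|a 1<|a 1<|a 1<|a 1<|a 1<|a 1<|b)<|c (a 1<|a 1<|a 1<|a 2<|a 1<|a 1<|a 1<|a 0<|b)<|c (a 1<|a 1<|a 1<|a 2<|a 2<|a 1<|a 0<|a 0<|b)<|c (a 1<|a 1<|a 2<|a 2<|a 1<|a 1<|a 0<|a 0<|b)<|
 d));
 (c (a 0<|a 1<|a 1<|a 2<|a 2<|a 1<|a 0<|a 0<|b)<|c (a 1<|a 0<|a 1<|a 1<|a 1<|a 1<|a 1<|a 1<|b)<|c (a 1<|a 1<|a 1<|a 1<|a 1<|a 1<|a 1<|a 0<|b)<|
 c (a 1<|a 1<|a 1<|a 2<|a 1<|a 1<|a 0<|a 0<|b)<|c (a 1<|a 1<|a 2<|a 2<|a 1<|a 0<|a 0<|a 0<|b)<|c (a 0<|a 1<|a 1<|a 2<|a 1<|a 1<|a 1<|a 1<|b)<|c (a 0<|a 1<|a 1<|a 2<|a 2<|a 1<|a 1<|a 0<|b)<|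
 d));
 (let d:=(let d:=(c (a 1<|a 1<|a 1<|a 1<|a 1<|a 1<|a 0<|a 0<|b)<|c (a 1<|a 1<|a 1<|a 2<|a 1<|a 0<|a 0<|a 0<|b)<|c (a 0<|a 1<|a 1<|a 1<|a 1<|a 1<|a 1<|a 1<|b)<|
 c (a 0<|a 1<|a 1<|a 2<|a 1<|a 1<|a 1<|a 0<|b)<|d);
 (c (a 0<|a 1<|a 0<|a 1<|a 1<|a 1<|a 1<|a 1<|b)<|c (a 0<|a 1<|a 1<|a 1<|a 1<|a 1<|a 1<|a 0<|b)<|c (a 0<|a 1<|a 1<|a 2<|a 1<|a 1<|a 0<|a 0<|b)<|
 c (a 1<|a 0<|a 1<|a 1<|a 1<|a 1<|a 1<|a 0<|b)<|d));
 (c (a 0<|a 0<|a 1<|a 1<|a 1<|a 1<|a 1<|a 0<|b)<|c (a 0<|a 1<|a 0<|a 1<|a 1<|a 1<|a 1<|a 0<|b)<|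
 c (a 0<|a 1<|a 1<|a 1<|a 1<|a 1<|a 0<|a 0<|b)<|c (a 0<|a 1<|a 1<|a 2<|a 1<|a 0<|a 0<|a 0<|b)<|c (a 1<|a 0<|a 1<|a 1<|a 1<|a 1<|a 0<|a 0<|b)<|c (a 1<|a 1<|a 1<|a 1<|a 1<|a 0<|a 0<|a 0<|b)<|
 c (a 0<|a 0<|a 1<|a 1<|a 1<|a 1<|a 1<|a 1<|b)<|d)));
 (let d:=(let d:=(let d:=(c (a 0<|a 1<|a 1<|a 1<|a 1<|a 0<|a 0<|a 0<|b)<|c (a 1<|a 0<|a 1<|a 1<|a 1<|a 0<|a 0<|a 0<|b)<|
 c (a 1<|a 1<|a 1<|a 1<|a 0<|a 0<|a 0<|a 0<|b)<|c (a 0<|a 0<|a 0<|a 1<|a 1<|a 1<|a 1<|a 1<|b)<|d);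
 (c (a 0<|a 0<|a 0<|a 0<|a 1<|a 1<|a 1<|a 1<|b)<|c (a 0<|a 0<|a 0<|a 1<|a 1<|a 1<|a 1<|a 0<|b)<|
 c (a 0<|a 0<|a 1<|a 1<|a 1<|a 1<|a 0<|a 0<|b)<|c (a 0<|a 1<|a 0<|a 1<|a 1<|a 1<|a 0<|a 0<|b)<|d));
 (c (a 0<|a 0<|a 0<|a 0<|a 0<|a 1<|a 1<|a 1<|b)<|
 c (a 0<|a 0<|a 0<|a 0<|a 1<|a 1<|a 1<|a 0<|b)<|c (a 0<|a 0<|a 0<|a 1<|a 1<|a 1<|a 0<|a 0<|b)<|c (a 0<|a 0<|a 1<|a 1<|a 1<|a 0<|a 0<|a 0<|b)<|c (a 0<|a 1<|a 0<|a 1<|a 1<|a 0<|a 0<|a 0<|b)<|
 c (a 0<|a 1<|a 1<|a 1<|a 0<|a 0<|a 0<|a 0<|b)<|c (a 1<|a 0<|a 1<|a 1<|a 0<|a 0<|a 0<|a 0<|b)<|d));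
 (let d:=(let d:=(c (a 0<|a 0<|a 0<|a 1<|a 1<|a 0<|a 0<|a 0<|b)<|
 c (a 0<|a 0<|a 1<|a 1<|a 0<|a 0<|a 0<|a 0<|b)<|c (a 0<|a 1<|a 0<|a 1<|a 0<|a 0<|a 0<|a 0<|b)<|c (a 1<|a 0<|a 1<|a 0<|a 0<|a 0<|a 0<|a 0<|b)<|d);
 (c (a 1<|a 0<|a 0<|a 0<|a 0<|a 0<|a 0<|a 0<|b)<|
 c (a 0<|a 0<|a 0<|a 0<|a 0<|a 0<|a 1<|a 1<|b)<|c (a 0<|a 0<|a 0<|a 0<|a 0<|a 1<|a 1<|a 0<|b)<|c (a 0<|a 0<|a 0<|a 0<|a 1<|a 1<|a 0<|a 0<|b)<|d));
 (a (a 0<|a 0<|a 0<|a 0<|a 0<|a 0<|a 0<|a 1<|b)<|a (a 0<|a 0<|a 0<|a 0<|a 0<|a 0<|a 1<|a 0<|b)<|a (a 0<|a 0<|a 0<|a 0<|a 0<|a 1<|a 0<|a 0<|b)<|a (a 0<|a 0<|a 0<|a 0<|a 1<|a 0<|a 0<|a 0<|b)<|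
 a (a 0<|a 0<|a 0<|a 1<|a 0<|a 0<|a 0<|a 0<|b)<|a (a 0<|a 0<|a 1<|a 0<|a 0<|a 0<|a 0<|a 0<|b)<|a (a 0<|a 1<|a 0<|a 0<|a 0<|a 0<|a 0<|a 0<|b)<|d))))))

theorem rt8 : RT 8 aE8 L8 (fun _ => 1) (fun _ => 1) :=
  rt_of (by (first | (refine of_decide_eq_true ?_; rewrite [Cfsg.Agent.KO2ce50ec.e4, Cfsg.Agent.KO2ce50ec.e5, Cfsg.Agent.KO2ce50ec.e6.{0, 0}, Cfsg.Agent.KO2ce50ec.e7]; decide +kernel) | decide +kernel)) (by decide +kernel) (by decide +kernel) (by decide +kernel) (by (first | (refine of_decide_eq_true ?_; rewrite [Cfsg.Agent.KO2ce50ec.e10, Cfsg.Agent.KO2ce50ec.e5, Cfsg.Agent.KO2ce50ec.e1.{0}, Cfsg.Agent.KO2ce50ec.e12, Cfsg.Agent.KO2ce50ec.e13, Cfsg.Agent.KO2ce50ec.e15, Cfsg.Agent.KO2ce50ec.e17, Cfsg.Agent.KO2ce50ec.e28, Cfsg.Agent.KO2ce50ec.e32]; decide +kernel) | decide +kernel)) (by (first | (refine of_decide_eq_true ?_; rewrite [Cfsg.Agent.KO2ce50ec.e33, Cfsg.Agent.KO2ce50ec.e5, Cfsg.Agent.KO2ce50ec.e1.{0},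 Cfsg.Agent.KO2ce50ec.e36, Cfsg.Agent.KO2ce50ec.e37, Cfsg.Agent.KO2ce50ec.e38, Cfsg.Agent.KO2ce50ec.e27, Cfsg.Agent.KO2ce50ec.e28]; decide +kernel) | decide +kernel))

theorem sh8 : Sh 8 aE8 := by unfold Sh; decide +kernel

theorem dtab8 : DTab CoxeterMatrix.E₈ 7 6 ![2, 3, 3, 4, 5, 6, 7, 7] ![6, 5, 5, 4, 3, 2, 1, 0] where
  h4 := by decide +kernel
  h6 := by decide +kernel
  hij := by decide +kernel
  orth := by decide +kernel
  con := by decide +kernel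
  conE := by decide +kernel

private noncomputable def _root_.Cfsg.Agent.KO2ce50ec.k45 : type_of% @Int.instDecidableEq := @Cfsg.Agent.KO2ce50ec.k8
private theorem _root_.Cfsg.Agent.KO2ce50ec.e45 : @Int.instDecidableEq = @_root_.Cfsg.Agent.KO2ce50ec.k45 := by delta _root_.Cfsg.Agent.KO2ce50ec.k45; exact Subsingleton.elim _ _

theorem tab8 : Tab CoxeterMatrix.E₈ aE8 L8 7 6 [0, 1, 1, 2, 2, 2, 2, 1] [2, 3, 4, 6, 5, 4, 3, 1] 2 3 1 7 6
    [3, 4, 5, 6, 7, 2, 3, 4, 5, 6]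
    (beta% delta% lq26ec4e9428 fun a b _ _ f =>
 (let d:=(let d:=(let d:=(f 1<|f 3<|f 4<|f 5<|f 6<|b);
 (f 6<|f 5<|f 4<|f 3<|f 2<|d));
 (let d:=(f 3<|f 4<|f 5<|f 6<|f 7<|d);
 (f 3<|f 0<|f 2<|f 1<|d)));
 (let d:=(let d:=(f 5<|f 1<|f 3<|f 4<|f 2<|d);
 (f 0<|f 2<|f 3<|f 4<|d));
 (let d:=(f 1<|f 3<|f 4<|f 5<|f 6<|d);
 (a 5<|a 4<|a 3<|a 2<|d)))) :
 List (Fin 8)) where
  g0 := by (first | (refine of_decide_eq_true ?_; rewrite [Cfsg.Agent.KO2ce50ec.e5, Cfsg.Agent.KO2ce50ec.e1.{0}, Cfsg.Agent.KO2ce50ec.e44, Cfsg.Agent.KO2ce50ec.e45, Cfsg.Agent.KO2ce50ec.e46.{0}, Cfsg.Agent.KO2ce50ec.e49]; decide +kernel) | decide +kernel)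
  g1 := by (first | (refine of_decide_eq_true ?_; rewrite [Cfsg.Agent.KO2ce50ec.e5, Cfsg.Agent.KO2ce50ec.e1.{0}, Cfsg.Agent.KO2ce50ec.e44, Cfsg.Agent.KO2ce50ec.e45, Cfsg.Agent.KO2ce50ec.e46.{0}, Cfsg.Agent.KO2ce50ec.e49]; decide +kernel) | decide +kernel)
  g2 := by (first | (refine of_decide_eq_true ?_; rewrite [Cfsg.Agent.KO2ce50ec.e10, Cfsg.Agent.KO2ce50ec.e5, Cfsg.Agent.KO2ce50ec.e1.{0}, Cfsg.Agent.KO2ce50ec.e44, Cfsg.Agent.KO2ce50ec.e45, Cfsg.Agent.KO2ce50ec.e46.{0}, Cfsg.Agent.KO2ce50ec.e47, Cfsg.Agent.KO2ce50ec.e32]; decide +kernel) | decide +kernel)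
  t0 := by (first | (refine of_decide_eq_true ?_; rewrite [Cfsg.Agent.KO2ce50ec.e33, Cfsg.Agent.KO2ce50ec.e43, Cfsg.Agent.KO2ce50ec.e10, Cfsg.Agent.KO2ce50ec.e5, Cfsg.Agent.KO2ce50ec.e1.{0}, Cfsg.Agent.KO2ce50ec.e44, Cfsg.Agent.KO2ce50ec.e37, Cfsg.Agent.KO2ce50ec.e46.{0}, Cfsg.Agent.KO2ce50ec.e13, Cfsg.Agent.KO2ce50ec.e32, Cfsg.Agent.KO2ce50ec.e36, Cfsg.Agent.KO2ce50ec.e47, Cfsg.Agent.KO2ce50ec.e29, Cfsg.Agent.KO2ce50ec.e28, Cfsg.Agent.KO2ce50ec.e38]; decide +kernel) | decide +kernel)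
  sub := by (first | (refine of_decide_eq_true ?_; rewrite [Cfsg.Agent.KO2ce50ec.e5, Cfsg.Agent.KO2ce50ec.e1.{0}, Cfsg.Agent.KO2ce50ec.e44, Cfsg.Agent.KO2ce50ec.e45, Cfsg.Agent.KO2ce50ec.e46.{0}, Cfsg.Agent.KO2ce50ec.e27]; decide +kernel) | decide +kernel)
  pf := by decide +kernel
  fq := by decide +kernel
  pq := by decide +kernel
  wi := by decide +kernel
  wg := by decide +kernel
  gl := by decide +kernel
  wS := by (first | (refine of_decide_eq_true ?_; rewrite [Cfsg.Agent.KO2ce50ec.e48, Cfsg.Agent.KO2ce50ec.e10, Cfsg.Agent.KO2ce50ec.e5, Cfsg.Agent.KO2ce50ec.e1.{0}, Cfsg.Agent.KO2ce50ec.e44, Cfsg.Agent.KO2ce50ec.e49, Cfsg.Agent.KO2ce50ec.e46.{0}, Cfsg.Agent.KO2ce50ec.e37, Cfsg.Agent.KO2ce50ec.e50, Cfsg.Agent.KO2ce50ec.e47, Cfsg.Agent.KO2ce50ec.e32]; decide +kernel) | decide +kernel)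
  t4 := by decide +kernel
  ab := by decide +kernel
  wi5 := by (first | (refine of_decide_eq_true ?_; rewrite [Cfsg.Agent.KO2ce50ec.e10, Cfsg.Agent.KO2ce50ec.e5, Cfsg.Agent.KO2ce50ec.e50, Cfsg.Agent.KO2ce50ec.e32]; decide +kernel) | decide +kernel)
  wd := by (first | (refine of_decide_eq_true ?_; rewrite [Cfsg.Agent.KO2ce50ec.e10, Cfsg.Agent.KO2ce50ec.e5, Cfsg.Agent.KO2ce50ec.e50, Cfsg.Agent.KO2ce50ec.e32]; decide +kernel) | decide +kernel)
  dl := by decide +kernel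
  dj := by decide +kernel
  top := by decide +kernel

theorem cmb8 {W : Type*} [Group W] [Finite W] (cs : CoxeterSystem CoxeterMatrix.E₈ W) (h : IsCartan CoxeterMatrix.E₈ (cartanOf chevE8 8)) :
    Cmb cs h 7 6 := cmb_of cs h sh8 aE8_ok rt8 dtab8 tab8

end Cfsg.Agent.H122.SNX
end

-- part: H122/SNX/Final
section
/-!
# S3831, task T3: automorphisms of order three of `E₆(3)`, `E₇(3)`, `E₈(3)` (helper122)

`lr3_E6`, `lr3_E7`, `lr3_E8` : an automorphism `x` of order three with `PS 2 x` is conjugate to an element of the root group of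
the node adjacent to the highest root.
-/

set_option autoImplicit false
set_option linter.unusedSectionVars false

namespace Cfsg.Agent.H122.SNX

open CoxeterSystem Cfsg.Agent.ChevalleyStructure.CoxeterGeom Cfsg.Agent.Tits.Roots Cfsg.Agent.Tits.Core
  Cfsg.Agent.Nodes.Reps Cfsg.Agent.Nodes.BNOf Cfsg.Agent.Nodes.StabComb Cfsg.Agent.Nodes.Bruhat
  Cfsg.Agent.Nodes.LeviDec
open Cfsg.Agent.H880.Six (PS2 Lr3)
open Cfsg.Agent.H459.Rad (PS)
open Cfsg.Lie Cfsg.Agent.ChevalleyStructure.CoxeterGeomTypes Cfsg.Agent.Nodes.RGDChev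

theorem ps2_of_ps {Y : Type*} [Group Y] {v : Y} (hv : PS 2 (MulAut.conj v)) : PS2 v := by
  intro g
  have h1 := hv ![1, g]
  refine H544.SNX.solvable_of_map (MulAut.conj (G := Y)) (fun z hz => ?_) _ ?_
  · rw [MonoidHom.mem_ker] at hz
    rw [Subgroup.mem_center_iff]
    intro y
    have h2 := DFunLike.congr_fun hz y
    rw [MulAut.conj_apply, MulAut.one_apply] at h2
    exact (mul_inv_eq_iff_eq_mul.1 h2).symm
  · rw [MonoidHom.map_closure, Set.image_pair]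
    have h3 : (Set.range fun i : Fin 2 => MulAut.conj ((![1, g] : Fin 2 → Y) i) * MulAut.conj v *
        (MulAut.conj ((![1, g] : Fin 2 → Y) i))⁻¹) = {MulAut.conj v, MulAut.conj (g * v * g⁻¹)} := by
      ext y
      rw [Set.mem_range, Fin.exists_fin_two]
      simp only [Matrix.cons_val_zero, Matrix.cons_val_one, map_one, one_mul, inv_one, mul_one, map_mul, map_inv,
        Set.mem_insert_iff, Set.mem_singleton_iff]
      exact or_congr eq_comm eq_comm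
    rw [h3] at h1
    exact h1

section

variable {I W Y : Type*} [Fintype I] [DecidableEq I] [Group W] [Group Y] {M : CoxeterMatrix I}
  {cs : CoxeterSystem M W} {A : I → I → ℤ} {h : IsCartan M A} {T : Subgroup Y} {n : I → Y}
  {X : (I → ℤ) → Subgroup Y}

theorem bb (R : RGD cs h 3 T n X) [Finite W] [Finite Y] (hc : ∀ i, Nat.card (X (sr i)) = 3) : BB R where
  tA2 hab _ hv hP := H544.SNX.tA2 R hab (hc _) hv hP
  tA3 hab hbc hac _ hv hP := H544.SNX.tA3 R hab hbc hac (hc _) hv hP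
  ew hv hJ := H224.SNX.exists_w R hv hJ
  tr hk hv _ hS hcl hkv := H224.SNX.transport R hk hv hS hcl hkv
  surj hab w _ hx hx1 _ hs := H224.SNX.surj R hab w hx hx1 hs

theorem lr3 [Finite W] [Finite Y] [IsSimpleGroup Y] (R : RGD cs h 3 T n X) (hG : GG cs h T X = ⊤)
    (hc : ∀ i, Nat.card (X (sr i)) = 3)
    (hsym : ∀ σ : Equiv.Perm I, (∀ i j, M (σ i) (σ j) = M i j) → σ ^ 3 = 1 → σ = 1) {i j : I} (C : Cmb cs h i j)
    {x : MulAut Y} (hx : orderOf x = 3) (hP : PS 2 x) :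
    ∃ g : Y, ∃ u ∈ X (Pi.single i 1), x = MulAut.conj (g * u * g⁻¹) := by
  have : Nonempty I := ⟨i⟩
  have hx3 : x ^ 3 = 1 := by rw [← hx]; exact pow_orderOf_eq_one x
  obtain ⟨g, v, hv, rfl⟩ := H224.SNX.exists_U R hG hc hsym hx3
  have hPv : PS2 v := by
    have h1 := ps2_conj (ps2_of_ps hP) g⁻¹
    have h2 : g⁻¹ * (g * v * g⁻¹) * g⁻¹⁻¹ = v := by group
    rwa [h2] at h1
  have hv1 : v ≠ 1 := by
    rintro rfl
    rw [mul_one, mul_inv_cancel, map_one, orderOf_one] at hx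
    omega
  obtain ⟨g', u, hu, rfl⟩ := eng C (bb R hc) hv hPv hv1
  refine ⟨g * g', u, hu, ?_⟩
  congr 1
  group

end

section

variable {Y : Type} [Group Y] {T : Subgroup Y}

theorem lr3_E6 [Finite Y] [IsSimpleGroup Y] {h : IsCartan CoxeterMatrix.E₆ (cartanOf chevE6 6)} {n : Fin 6 → Y}
    {X : (Fin 6 → ℤ) → Subgroup Y} (R : RGD CoxeterMatrix.E₆.toCoxeterSystem h 3 T n X)
    (hG : GG CoxeterMatrix.E₆.toCoxeterSystem h T X = ⊤) (hc : ∀ i, Nat.card (X (sr i)) = 3) : Lr3 X 1 := by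
  have hp : IsType chevE6 6 CoxeterMatrix.E₆ := by simp [IsType, typeList]
  have hW := finite_W hp CoxeterMatrix.E₆.toCoxeterSystem
  exact fun x hx hP _ => lr3 R hG hc H65.Disp.Chev.ty_E6.sym (cmb6 _ h) hx hP

theorem lr3_E7 [Finite Y] [IsSimpleGroup Y] {h : IsCartan CoxeterMatrix.E₇ (cartanOf chevE7 7)} {n : Fin 7 → Y}
    {X : (Fin 7 → ℤ) → Subgroup Y} (R : RGD CoxeterMatrix.E₇.toCoxeterSystem h 3 T n X)
    (hG : GG CoxeterMatrix.E₇.toCoxeterSystem h T X = ⊤) (hc : ∀ i, Nat.card (X (sr i)) = 3) : Lr3 X 0 := by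
  have hp : IsType chevE7 7 CoxeterMatrix.E₇ := by simp [IsType, typeList]
  have hW := finite_W hp CoxeterMatrix.E₇.toCoxeterSystem
  exact fun x hx hP _ => lr3 R hG hc H65.Disp.Chev.ty_E7.sym (cmb7 _ h) hx hP

theorem lr3_E8 [Finite Y] [IsSimpleGroup Y] {h : IsCartan CoxeterMatrix.E₈ (cartanOf chevE8 8)} {n : Fin 8 → Y}
    {X : (Fin 8 → ℤ) → Subgroup Y} (R : RGD CoxeterMatrix.E₈.toCoxeterSystem h 3 T n X)
    (hG : GG CoxeterMatrix.E₈.toCoxeterSystem h T X = ⊤) (hc : ∀ i, Nat.card (X (sr i)) = 3) : Lr3 X 7 := by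
  have hp : IsType chevE8 8 CoxeterMatrix.E₈ := by simp [IsType, typeList]
  have hW := finite_W hp CoxeterMatrix.E₈.toCoxeterSystem
  exact fun x hx hP _ => lr3 R hG hc H65.Disp.Chev.ty_E8.sym (cmb8 _ h) hx hP

end

end Cfsg.Agent.H122.SNX
end

-- part: H126/SNX/G23Data
section
/-!
# Data for S3831, `G₂(3)` (helper126)

`TU` : for each element of `U` a representative and a conjugating word; `TZ` : the same for the elements of order six of
`C(z)` with cube `z`.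
-/

set_option autoImplicit false
set_option maxRecDepth 100000

namespace Cfsg.Agent.H126.SNX.Data

/-- representatives of the classes of `3`-elements -/
def rp : List (List ℕ) := (beta% delta% lq26ec4e9428 fun a b _ _ _ =>
 (a (a 22<|b)<|a (a 18<|b)<|a (a 18<|a 22<|b)<|a (a 16<|a 20<|b)<|a (a 16<|a 21<|b)<|a (a 12<|a 14<|b)<|a (a 12<|a 14<|a 20<|b)<|a (a 12<|a 14<|a 21<|b)<|b))

/-- `[i, c...]` with `c v c⁻¹ = rp i` for the elements `v` of `U` -/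
noncomputable def TU : List (List (List ℕ)) :=
  let y0 : List (List (List ℕ)) := (by
  refine (?fq9001 : (pk61l (fun i0 => (pk61l (fun i1 => ((fun g1 : Nat → Nat => pk61l (fun i2 => (pk61d (nat_lit 5) 
    (nat_lit 0x1c97392e62d8c5b1f13392e725cc5b18b63e343392e725cc5b18b63226725ce4b98b6316c644ae4b9c97316c62d8d715c97392e62d8c5b191a95c97392e62d8c5b1f13b92e725cc5b18b63227725ce4b98b6316c64687725ce4b98b6316c799c97392e62d8c5b1f43392e725cc5b18b630ce4b9c97316c62d8c2b92e725cc5b18b63285725ce4b98b6316c654ae4b9c97316c62d8f3b92e725cc5b18b630ee4b9c97316c62d8ca1dc97392e62d8c5b1f03392e725cc5b18b63e143392e725cc5b18b63206725ce4b98b6316c640ae4b9c97316c62d8c850ae4b9c97316c62d8e695c97392e62d8c5b1f03b92e725cc5b18b63207725ce4b98b6316c64287) i2)) (g1 i1) (g1 (Nat.succ i1)) List.nil) fun j => (pk61d (nat_lit 9) 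
    (nat_lit 0xcb61eef68acd2a752b8e431fcef70b4d88b553a65147b359709a3d1707c2000) j))) (nat_lit 0) (nat_lit 27) List.nil)) (nat_lit 0) (nat_lit 1) List.nil : List (List (List ℕ)))
    = ?xq9001 → (List (List (List ℕ)))) ?hq9001; (case hq9001 => (set_option maxRecDepth 1000000 in set_option simprocs false in conv => lhs; reduce; dsimp only)); intro _; exact ?xq9001 : List (List (List ℕ)))
  let y1 : List (List (List ℕ)) := (by
  refine (?fq9002 : (fun tl : List (List (List ℕ)) => pk61l (fun i0 => (pk61l (fun i1 => ((fun g1 : Nat → Nat => pk61l (fun i2 => (pk61d (nat_lit 5) (Nat.add 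
    (nat_lit 0x6316c695c97392e62d8c5b1b42b92e725cc5b18b636a5725ce4b98b6316c6d0ee4b9c97316c62d8da9dc97392e62d8c5b1a7725ce4b98b6316c6d4ce4b9c97316c62d8d3392e725cc5b18b63686725ce4b98b6316c6c0ae4b9c97316c62d8e895c97392e62d8c5b1b0a95c97392e62d8c5b1b0a1dc97392e62d8c5b1d13b92e725cc5b18b63607725ce4b98b6316c6c2a6725ce4b98b6316c6c0ce4b9c97316c62d8d850ce4b9c97316c62d8ea95c97392e62d8c5b1c5725ce4b98b6316c750ae4b9c97316c62d8ea9dc97392e62d8c5b1c7725ce4b98b6316c750ee4b9c97316c62d8ea99c97392e62d8c5b1c6725ce4b98b6316c750ce4b9c97316c62d90a1dc97392e62d8c5b2153b92e725cc5b18b640ee4b9c97316c62d90a19c97392e62d8c5b2153392e725cc5b18b640ce4b9c97316c62d90a15c97392e62d8c5b2152b92e725cc5b18b640ae4b9c97316c62d91a1dc97392e62d8c5b2353b92e725cc5b18b644ee4b9c97316c62d91a19c97392e62d8c5b2353392e725cc5b18b644ce4b9c97316c62d91a15c97392e62d8c5b2352b92e725cc5b18b644ae4b9c97316c62d943b92e725cc5b18b654ee4b9c97316c62d87725ce4b98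b6316ca19c97392e62d8c5b2a6725ce4b98b6316c3392e725cc5b18b650ae4b9c97316c62d952b92e725cc5b18b615c97392e6d4ee4b9c973687725ce4b9a7725ce4b9b42b92e725cd2b92e725cda95c97392e699c97392e6d4ce4b9c973686725ce4b9d13b92e725cd850ee4b9c973607725ce4b9d12b92e725cd815c97392e6c2a5725ce4b9b03392e725cd854ce4b9c9736143392e725ce3b92e725cea9dc97392e750ee4b9c9738ae4b9c973aa5725ce4b9d42b92e725ce3392e725cea99c97392e750ce4b9c9735c5725ce4b9912b92e725cc8d4ae4b9c973e343392e725cf899c97392e644ce4b9c973227725ce4b9f13b92e725cc8d0ee4b9c973285725ce4b985725ce4b9952b92e725cfa19c97392e799c97392e619c97392e61dc97392e79dc97392e650ee4b9c9732142b92e725cc815c97392e734ae4b9c973e143392e725cf819c97392e640ce4b9c973207725ce4b9f03b92e725cc850ee4b9c9742a6725ce4ba143392e725d03392e725d0a9dc97392e850ee4b9c9740ee4b9c9742a5725ce4ba142b92e725d02b92e725d1a99c97392e8d0ce4b9c9744ce4b9c9746a7725ce4ba343b92e725d13b92e725d1a95c97392e8d0ae4b9c9744ae4b9c9754ce4b9c9750ce4b9c9719c97392ea9dc97392ea1dc97392e3b92e725d52b92e725d42b92e725c54b089225a4431604356042c0e4bda4725ec2392f2390d1b903721834b9044b1c8225ae4112f430697a1a34bd034a8496a8496284878d0f60d0f68de86ac437a04f43162)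 (Nat.shiftLeft 
    (nat_lit 0x725ce4b98b) (nat_lit 8000))) i2)) (g1 i1) (g1 (Nat.succ i1)) List.nil) fun j => (pk61d (nat_lit 11) 
    (nat_lit 0x19231d62bc39836ff5f0bc374ee25b5b4d65ac3577ad1562a4d39a5547286cfe9e1386694c496b29a4bc898f51ae2ec4e87f0c61141380afd9f3bd9794eedd6b9f722e11bb3686b6d359fb32652c818c30f60ebf97b2ed5c8b6d68ac857ead9562a3532a3d43a7e4ea9b53225b4a692920a3845e8950da12412800fb9ed3c8770e99ca3846e8d91aa34265cc71852f65c8b49602ae534a213b2664a89091922041c7f8f61da3946e0d31963085c8b11522844d09211420c3d8730d81a4338640c01702c85409e12c238440800f01b83205a0a01202103a0640b01201c02402800) j))) (Nat.mul (nat_lit 27) i0) (Nat.mul (nat_lit 27) (Nat.succ i0)) List.nil)) (nat_lit 0) (nat_lit 6) tl)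
    = ?xq9002 → (List (List (List ℕ)))) ?hq9002; (case hq9002 => (set_option maxRecDepth 1000000 in set_option simprocs false in conv => lhs; reduce; dsimp only)); intro _; exact ?xq9002 y0 : List (List (List ℕ)))
  let y2 : List (List (List ℕ)) := (by
  refine (?fq9003 : (fun tl : List (List (List ℕ)) => pk61l (fun i0 => (pk61l (fun i1 => ((fun g1 : Nat → Nat => pk61l (fun i2 => (pk61d (nat_lit 5) 
    (nat_lit 0x95012d5012c501e97910b6ac8853144a3924ab92472489730897112e6910e1a1cc1a1cd1bd0c1bd0d1bd0343d2d1a1e91a1e960d0c5890d5890b1546e4886e48a83724495b563721c34a98a1a06860d0d1d1c9712ae4b88e4b88e42c4d721626390b131e9509af4a84f4a84f43d837a1ed1bd0f1a5ec225e44bda47a48c7a48d7a49518060a0c0c5b18b636143b16c62d8e89d8b6316c6c0ec5b18b6360562d8c5b1d12b16c62d8d854ac5b18b636153316c62d8d8198b6316c6c28662d8c5b1b43b16c62d8da9d8b6316c69d8b6316c6958b6316c6d0ac5b18b636a562d8c5b1b53316c62d8d3316c62d8da198b6316c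754ec5b18b638ec5b18b63a8762d8c5b1d52b16c62d8e2b16c62d8ea158b6316c754cc5b18b638cc5b18b63a8662d8c5b18562d8c5b1942b16c62d8ca958b6316c7998b6316c7d0cc5b18b630cc5b18b63cec5b18b630ec5b18b6328762d8c5b1912b16c62d8d7158b6316c646a562d8c5b1f13316c62d8f8d0cc5b18b6322662d8c5b1f13b16c62d8c89d8b6316c6468762d8c5b1902b16c62d8c850ac5b18b639a562d8c5b1f03316c62d8f850cc5b18b6320662d8c5b1f03b16c62d8c81d8b6316c6428762d8c5b2343316c62d91a998b6316c8998b6316c8d0ec5b18b646a762d8c5b22762d8c5b2342b16c62d91a958b6316c8958b6316c850cc5b18b642a662d8c5b20662d8c5b2143b16c62d90a9d8b6316c81d8b6316c850ac5b18b642a562d8c5b20562d8c5b28662d8c5b2a662d8c5b0cc5b18b650ec5b18b654ec5b18b61d8b6316ca158b6316ca958b6316c2be8679986650ac2b2a561de7650ef8d0cf89991335c5644ac8d4ac89df13b2343be1433e06640cc850ac815cd2b2077c0ec850ee895b02b6152ba276c2876c0ed819b0a99b0a19b42b4ada95b53b68769da66d4cda19c5754aea15c7754eea1dc6754cea1a353c68789e353468689a352c685896153c28781e153428681a152c285816a7a1cf5350c6a96852bd237a5837a5a3721ec2390f2390f6910e4b068725a3439234110d221844ac0962c096ac0f439a47a1cc23d0e23d2c589e96ac4f4ac497346970d2e60de8628427a04f43542)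 i2)) (g1 i1) (g1 (Nat.succ i1)) List.nil) fun j => (pk61d (nat_lit 11) 
    (nat_lit 0x9db3aa734e29bd3666a4d099932662cc297d2ee5bcb395f2ae544a393f26a4b49291f22a434818f91e239c718dd1ae334618bb1662a44f89511620c3c86f0ce17c2c85109610c1d8350620ac0b804fe5f83e77baf4de53c076eeb9d339e72ae31c1b7b6e4da5b0b5869ed1d9f33565ac918e313614c097caf15d2b856c2cf58caf159aa9540a5d472844f69c53425f4aa93121a3a46089d0f21641a810fe1f33d4788ec9d03906fcdb1ae34a670ca18c3085f4ba96d2cc578ab14f298528a41452865009f13c2724d49912f2584a49292223e46c8b914222434851072084047e8fa1ee3cc780ec1d2398710de1b63646b0d31a0338660c918c310608be1782e45b0b41622b8558a814c28c5009e1362604b0931202384588810c20c4007e0f81e83c8770ea1d0390700de1b0340640be16c2b051098120230430800f41c8350600ac1382203a0640a81201c02402800) j))) (Nat.mul (nat_lit 27) i0) (Nat.mul (nat_lit 27) (Nat.succ i0)) List.nil)) (nat_lit 0) (nat_lit 9) tl)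
    = ?xq9003 → (List (List (List ℕ)))) ?hq9003; (case hq9003 => (set_option maxRecDepth 1000000 in set_option simprocs false in conv => lhs; reduce; dsimp only)); intro _; exact ?xq9003 y1 : List (List (List ℕ)))
  (by
  refine (?fq9004 : (fun tl : List (List (List ℕ)) => pk61l (fun i0 => (pk61l (fun i1 => ((fun g1 : Nat → Nat => pk61l (fun i2 => (pk61d (nat_lit 5) 
    (nat_lit 0x43c887b4887b0897b46978d2f60dc960dc968dc91a1aa0218a021404a98a2390e2256d592af4128f411e823d2e1b5e970d8f4b86e4284e435427218a1392d5884e489c962c486a848628485092b1258b125ab1552e48e89724697246f4bc685314342dab1a5a348d2c1bd0f691e87b08f43c887110e6910e611ae411c8231c825040102a202d2f4918a78d6812d015356f229ab78d697a46c5244c53c8c5308c50d6f4096f4054d5914d58d8a60d8a7244c511687208c5386b7204b7202a6adc45356e1ad0e40d8a7a44c5388a7242a6914d1a88a60d4e48943735681298453d21539a4539a35388a7306a7a44a70ded5a04a7308a4854f6914f68d4f229ec1a92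253c6d5a04a7b0906a8905b54389daa1416d5120d50e2762c4d535c46a9ae1c4e18b5448adaa19daa1456d5122d50cec589aa6bc8d535e3385aa22daa1c0ed5096d511aa1c0ec589aa691aa68e070b5636ada46adc91356c229e80b56c1a9e81356d1b5646adc3521c82356f489ab7308a7202d5b98353902521c81b56e2356f1a92f491ab489ab7b08a405ab7b06a409497a46d5bc8b7b08b4856f60d6f68d6f2314812d225bc6b7b48b6116e4856c1ada3591cc5204b7244b1ada45b9845bd215b9835b9a35b88f629025bd225b86b73491531638b164819aa1458b1c54c5920662c515b1638ad8b240c18298b1c18b219aa1418b1c14c590cc58a0b62c705b1643054c58d8b244cd5098b1a98b244cc5896c58d6c592260bd4c50deb6ac687206f5b5647a98a221c82390b6ac4e409c80b94c50dcb6ac697a46e5b5647298a225e92216d589024054c50d6d58dab6ac6b6ac8a6288c531447a16d589e813d017348e611c47306e68dc37a56d589e913d217b48f611e47b06f68de34adab124490b48c2118368c6e4adab139227242c525e91292f489aa4bd226ad2f489697a44c5a5e912dab4bd224bd224bd216284a135426ac4b131625b5621058a0280d501ab02c0c5816d58000)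 i2)) (g1 i1) (g1 (Nat.succ i1)) List.nil) fun j => (pk61d (nat_lit 11) 
    (nat_lit 0x23c4758e31b634c668c517a2d4578a713e264478870fa1d4368670be154258430720bc1281d02602c017fcfedfbbf37dcfa5f2be17b8f5dea3d279ef29e2bc177cee9db3b275eeadd43a6746e79cd397728e3dc5385702df5bcb766e4db9b53666c4d75ad3556a2d35a4b4467ece99ab3165aca993b25644c798e317628c418630860ac057eafa5eabc5772ea5ccb8d6fadc5b2b5568acd590b0d5f2ba56aac155aa8548a7d4da96524a3944a845049fd3da764e49bd352664c497d2e2584a693d25a474868fd1e2384668b914a254408710ba1341e829032013fc7e4fb1f13da7a4f31e23bc76ceb9d43a2734e51c6386700df1b936a6ccd81ac350690d019d330650c898d310610bf97b2ec5c4b61672c857cad9572a6538a51452804f89d1372644bc959262444788d916222434841031fe3e47b0f31dc3a4728e01b635c690d019c328630c117a2e45a0ae1562a0528a21402744d09812423c4608910c2104087e0f81dc3a8730e21bc3706c0d41a4318600ba15c2904c08c1041d8340600b0148270480840f81c03005c0b0130220380580900c00800800)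 j))) (Nat.mul (nat_lit 27) i0) (Nat.mul (nat_lit 27) (Nat.succ i0)) List.nil)) (nat_lit 0) (nat_lit 11) tl)
    = ?xq9004 → (List (List (List ℕ)))) ?hq9004; (case hq9004 => (set_option maxRecDepth 1000000 in set_option simprocs false in conv => lhs; reduce; dsimp only)); intro _; exact ?xq9004 y2 : List (List (List ℕ)))

/-- representatives of the elements of order six -/
def rz : List (List ℕ) := (beta% delta% lq26ec4e9428 fun a b _ _ _ =>
 (a (a 13<|a 10<|a 13<|a 13<|a 10<|a 13<|a 18<|b)<|a (a 13<|a 10<|a 13<|a 13<|a 10<|a 13<|a 12<|b)<|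
 a (a 13<|a 10<|a 13<|a 13<|a 10<|a 13<|a 12<|a 18<|b)<|a (a 13<|a 10<|a 13<|a 13<|a 10<|a 13<|a 12<|a 19<|b)<|b))

/-- `[j, c...]` with `c v c⁻¹ = rz j` -/
noncomputable def TZ : List (List ℕ) :=
  (by
  refine (?fq9005 : ((pk61l (fun i1 => ((fun g1 : Nat → Nat => pk61l (fun i2 => (pk61d (nat_lit 4) 
    (nat_lit 0x4444444444e9ee9ea534a5344444444444444e9ee9ea42444a424444444444444e9ee9e42445344e9ee9e40444444444444e9ee9e53444244404444444444444a3a2a1444444444444e9ee9ea2e9ee9ea3e9ee9ea1444444444444444e9ee9e2e9ee9e3e9ee9e1321e9ee9e004444444444444444444) i2)) (g1 i1) (g1 (Nat.succ i1)) List.nil) fun j => (pk61d (nat_lit 8) 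
    (nat_lit 0xecebeae9e8e7e6e5e4e3e2d9d8d5d4d3d2d1d0cfcecdcccbcac9c8c7bebdbcbbb8b7b6b5b4b3b2b1b0afaeadacaba3a2a19f9e9d9594939291908f8e8d8c8b8a8981807f7d7c7b797877767574737271706f6e6d6c6a68666564636261605f5e5d5c5b5a524a4241403f3e3d3c3b3a393837363534332c251e1d1c1b14131211100f0e0d0c0b0a09080706050403020100) j))) (nat_lit 0) (nat_lit 144) List.nil) : List (List ℕ))
    = ?xq9005 → (List (List ℕ))) ?hq9005; (case hq9005 => (set_option maxRecDepth 1000000 in set_option simprocs false in conv => lhs; reduce; dsimp only)); intro _; exact ?xq9005 : List (List ℕ))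

end Cfsg.Agent.H126.SNX.Data
end

-- part: H126/SNX/G23Check
section
/-!
# Checks for S3831, `G₂(3)` (helper126)
-/

set_option autoImplicit false
set_option Elab.async false
set_option maxRecDepth 100000

namespace Cfsg.Agent.H126.SNX.Check

open Cfsg.Lie
open Cfsg.Agent.Lib.PackMat
open Cfsg.Agent.GTwoThree.ModelData
open Cfsg.Agent.GTwoThree.Model
open Cfsg.Agent.OddHalf.Small.G23Data Cfsg.Agent.OddHalf.Small.G23Check
open Cfsg.Agent.H126.SNX.Data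

private theorem gA : checkEq C3 = Lib.PackAll.aEq C3 := Lib.PackAll.checkEq_fun (by decide +kernel)

/-! ### `U` -/

/-- the entry of `TU` -/
noncomputable def te (a b c d e f : ℕ) : List ℕ := (TU.getD (9 * a + 3 * b + c) []).getD (9 * d + 3 * e + f) []

/-- the check for one element of `U` -/
noncomputable def tc (a b c d e f : ℕ) : Bool :=
  Nat.beq (a + b + c + d + e + f) 0 || (Nat.blt ((te a b c d e f).headD 0) 8 &&
    eqc ((te a b c d e f).tail ++ uw a b c d e f) (rp.getD ((te a b c d e f).headD 0) [] ++ (te a b c d e f).tail))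

/-- the check for the last three coordinates -/
def TC (a b c : ℕ) : Prop := ∀ d < 3, ∀ e < 3, ∀ f < 3, tc a b c d e f = true

noncomputable instance (a b c : ℕ) : Decidable (TC a b c) := by unfold TC; infer_instance

private noncomputable def _root_.Cfsg.Agent.KO2ce50ec.k52s : (by first | exact Subtype (fun g => @HAdd.hAdd.{0, 0, 0} (ℕ) (ℕ) (ℕ) _ = @g) | exact Unit : Sort _) := by first | (refine @Subtype.mk _ _ (@(fun x0 x1 => @Nat.add @x0 @x1)) ?_; rfl') | exact ⟨_, rfl⟩ | exact ()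
private noncomputable def _root_.Cfsg.Agent.KO2ce50ec.k52 : (by first | exact type_of% (@Subtype.val _ _ _root_.Cfsg.Agent.KO2ce50ec.k52s) | exact Unit : Sort _) := by first | exact @Subtype.val _ _ _root_.Cfsg.Agent.KO2ce50ec.k52s | exact ()
private theorem _root_.Cfsg.Agent.KO2ce50ec.e52 : (by first | exact type_of% (show _ = @_root_.Cfsg.Agent.KO2ce50ec.k52 from @Subtype.property _ _ _root_.Cfsg.Agent.KO2ce50ec.k52s) | exact True : Prop) := by first | exact @Subtype.property _ _ _root_.Cfsg.Agent.KO2ce50ec.k52s | trivial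
private noncomputable def _root_.Cfsg.Agent.KO2ce50ec.k53.{ku0} : type_of% @List.append.{ku0} := @(fun x0 x1 x2 => @List.rec.{(ku0+1), ku0} @x0 @(fun x3 => (@List.{ku0} @x0) → @List.{ku0} @x0) @(fun x3 => @x3) @(fun x3 x4 x5 x6 => @x3 :: (@x5 @x6)) @x1 @x2)
private theorem _root_.Cfsg.Agent.KO2ce50ec.e53.{ku0} : @List.append.{ku0} = @_root_.Cfsg.Agent.KO2ce50ec.k53.{ku0} := by delta _root_.Cfsg.Agent.KO2ce50ec.k53; funext a0 a1 a2; refine (congrFun (_root_.Cfsg.Agent.KO2ce50ec.e0 (fun a1 a2 => @List.append.{ku0} a0 a1 a2) ?_ (fun c0 c1 => ?_) a1) a2 :) <;> (rfl')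
private noncomputable def _root_.Cfsg.Agent.KO2ce50ec.k54s : (by first | exact Subtype (fun g => @HAppend.hAppend.{0, 0, 0} (@List.{0} ℕ) (@List.{0} ℕ) (@List.{0} ℕ) _ = @g) | exact Unit : Sort _) := by first | (refine @Subtype.mk _ _ (@(fun x0 x1 => @Cfsg.Agent.KO2ce50ec.k53.{0} _ @x0 @x1)) ?_; rewrite [← Cfsg.Agent.KO2ce50ec.e53.{0}]; rfl') | exact ⟨_, rfl⟩ | exact ()
private noncomputable def _root_.Cfsg.Agent.KO2ce50ec.k54 : (by first | exact type_of% (@Subtype.val _ _ _root_.Cfsg.Agent.KO2ce50ec.k54s) | exact Unit : Sort _) := by first | exact @Subtype.val _ _ _root_.Cfsg.Agent.KO2ce50ec.k54s | exact ()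
private theorem _root_.Cfsg.Agent.KO2ce50ec.e54 : (by first | exact type_of% (show _ = @_root_.Cfsg.Agent.KO2ce50ec.k54 from @Subtype.property _ _ _root_.Cfsg.Agent.KO2ce50ec.k54s) | exact True : Prop) := by first | exact @Subtype.property _ _ _root_.Cfsg.Agent.KO2ce50ec.k54s | trivial
private noncomputable def _root_.Cfsg.Agent.KO2ce50ec.k55 : type_of% @Bool.or := @(fun x0 x1 => @Bool.rec.{1} @(fun x2 => @Bool) @x1 @Bool.true @x0)
private theorem _root_.Cfsg.Agent.KO2ce50ec.e55 : @Bool.or = @_root_.Cfsg.Agent.KO2ce50ec.k55 := by delta _root_.Cfsg.Agent.KO2ce50ec.k55; rfl'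
private noncomputable def _root_.Cfsg.Agent.KO2ce50ec.k56 : type_of% @Bool.and := @(fun x0 x1 => @Bool.rec.{1} @(fun x2 => @Bool) @Bool.false @x1 @x0)
private theorem _root_.Cfsg.Agent.KO2ce50ec.e56 : @Bool.and = @_root_.Cfsg.Agent.KO2ce50ec.k56 := by delta _root_.Cfsg.Agent.KO2ce50ec.k56; rfl'
private noncomputable def _root_.Cfsg.Agent.KO2ce50ec.k57.{ku0} : type_of% @List.headD.{ku0} := @(fun x0 x1 x2 => @List.rec.{(ku0+1), ku0} @x0 @(fun x3 => @x0) @x2 @(fun x3 x4 x5 => @x3) @x1)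
private theorem _root_.Cfsg.Agent.KO2ce50ec.e57.{ku0} : @List.headD.{ku0} = @_root_.Cfsg.Agent.KO2ce50ec.k57.{ku0} := by delta _root_.Cfsg.Agent.KO2ce50ec.k57; rfl'
private noncomputable def _root_.Cfsg.Agent.KO2ce50ec.k58 : (by first | exact type_of% @Cfsg.Agent.H126.SNX.Check.te | exact Unit : Sort _) := by first | (refine @Subtype.val _ (fun g => @Cfsg.Agent.H126.SNX.Check.te = @g) (@Subtype.mk _ _ (@(letI c0 := @Option.rec.{1, 0}; letI c1 := @Nat.add; letI c2 := @Nat.mul; @(fun x0 x1 x2 x3 x4 x5 => @c0 (@List.{0} ℕ) @(fun x6 => @List.{0} ℕ) [] @(fun x6 => @x6) (@Cfsg.Agent.KO2ce50ec.k22.{0} _ (@c0 (@List.{0} (@List.{0} ℕ)) @(fun x6 => @List.{0} (@List.{0} ℕ)) [] @(fun x6 => @x6) (@Cfsg.Agent.KO2ce50ec.k22.{0} _ @Cfsg.Agent.H126.SNX.Data.TU (@c1 (@c1 (@c2 (nat_lit 9) @x0) (@c2 (nat_lit 3) @x1)) @x2))) (@c1 (@c1 (@c2 (nat_lit 9) @x3) (@c2 (nat_lit 3) @x4)) @x5))))) ?_); rewrite [← Cfsg.Agent.KO2ce50ec.e22.{0}];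 (try delta Cfsg.Agent.H126.SNX.Check.te); (try generalize @Cfsg.Agent.H126.SNX.Data.TU = g0); rfl') | exact @Cfsg.Agent.H126.SNX.Check.te | exact ()
private theorem _root_.Cfsg.Agent.KO2ce50ec.e58 : (by first | exact @Cfsg.Agent.H126.SNX.Check.te = @_root_.Cfsg.Agent.KO2ce50ec.k58 | exact True : Prop) := by first | (delta _root_.Cfsg.Agent.KO2ce50ec.k58; exact @Subtype.property _ (fun g => @Cfsg.Agent.H126.SNX.Check.te = @g) _) | rfl | trivial
private noncomputable def _root_.Cfsg.Agent.KO2ce50ec.k59 : (by first | exact type_of% @Cfsg.Agent.Lib.PackMat.rep | exact Unit : Sort _) := by first | (refine @Subtype.val _ (fun g => @Cfsg.Agent.Lib.PackMat.rep = @g) (@Subtype.mk _ _ (@(letI c0 := @Nat.sub; letI c1 := @Nat.pow; @(fun x0 x1 => @Nat.div (@c0 (@c1 (nat_lit 2) (@Nat.mul @x0 @x1)) (nat_lit 1)) (@c0 (@c1 (nat_lit 2) @x0) (nat_lit 1))))) ?_); rfl') | exact @Cfsg.Agent.Lib.PackMat.rep |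 exact ()
private theorem _root_.Cfsg.Agent.KO2ce50ec.e59 : (by first | exact @Cfsg.Agent.Lib.PackMat.rep = @_root_.Cfsg.Agent.KO2ce50ec.k59 | exact True : Prop) := by first | (delta _root_.Cfsg.Agent.KO2ce50ec.k59; exact @Subtype.property _ (fun g => @Cfsg.Agent.Lib.PackMat.rep = @g) _) | rfl | trivial
private noncomputable def _root_.Cfsg.Agent.KO2ce50ec.k60 : (by first | exact type_of% @Cfsg.Agent.Lib.PackAll.Mc | exact Unit : Sort _) := by first | (refine @Subtype.val _ (fun g => @Cfsg.Agent.Lib.PackAll.Mc = @g) (@Subtype.mk _ _ (@(letI c0 := @Nat.mul; letI c1 := @Cfsg.Agent.Lib.PackMat.Cfg.n; @(fun x0 => @c0 (@Nat.sub (@Nat.pow (nat_lit 2) (@Cfsg.Agent.Lib.PackMat.Cfg.w @x0)) (nat_lit 1)) (@Cfsg.Agent.KO2ce50ec.k59 (@Cfsg.Agent.Lib.PackMat.Cfg.s @x0) (@c0 (@c1 @x0) (@c1 @x0)))))) ?_); rewrite [← Cfsg.Agent.KO2ce50ec.e59]; (try delta Cfsg.Agent.Lib.PackAll.Mc); (try generalize @Cfsg.Agent.Lib.PackMat.rep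 = g0); rfl') | exact @Cfsg.Agent.Lib.PackAll.Mc | exact ()
private theorem _root_.Cfsg.Agent.KO2ce50ec.e60 : (by first | exact @Cfsg.Agent.Lib.PackAll.Mc = @_root_.Cfsg.Agent.KO2ce50ec.k60 | exact True : Prop) := by first | (delta _root_.Cfsg.Agent.KO2ce50ec.k60; exact @Subtype.property _ (fun g => @Cfsg.Agent.Lib.PackAll.Mc = @g) _) | rfl | trivial
private noncomputable def _root_.Cfsg.Agent.KO2ce50ec.k61 : (by first | exact type_of% @Cfsg.Agent.Lib.PackMat.unitRow | exact Unit : Sort _) := by first | (refine @Subtype.val _ (fun g => @Cfsg.Agent.Lib.PackMat.unitRow = @g) (@Subtype.mk _ _ (@(letI c0 := @Nat.mul; letI c1 := @Nat.sub; @(fun x0 x1 x2 => @c0 @x1 (@Nat.pow (nat_lit 2) (@c0 (@Cfsg.Agent.Lib.PackMat.Cfg.s @x0) (@c1 (@c1 (@Cfsg.Agent.Lib.PackMat.Cfg.n @x0) (nat_lit 1)) @x2)))))) ?_); rfl') | exact @Cfsg.Agent.Lib.PackMat.unitRow | exact ()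
private theorem _root_.Cfsg.Agent.KO2ce50ec.e61 : (by first | exact @Cfsg.Agent.Lib.PackMat.unitRow = @_root_.Cfsg.Agent.KO2ce50ec.k61 | exact True : Prop) := by first | (delta _root_.Cfsg.Agent.KO2ce50ec.k61; exact @Subtype.property _ (fun g => @Cfsg.Agent.Lib.PackMat.unitRow = @g) _) | rfl | trivial
private noncomputable def _root_.Cfsg.Agent.KO2ce50ec.k62 : (by first | exact type_of% @Cfsg.Agent.Lib.PackAll.Bc | exact Unit : Sort _) := by first | (refine @Subtype.val _ (fun g => @Cfsg.Agent.Lib.PackAll.Bc = @g) (@Subtype.mk _ _ (@(letI c0 := @Nat.mul; letI c1 := @Cfsg.Agent.Lib.PackMat.Cfg.n; @(fun x0 => @c0 (@c0 (@Cfsg.Agent.Lib.PackMat.Cfg.s @x0) (@Nat.add (@c1 @x0) (nat_lit 1))) (@c1 @x0)))) ?_); rfl') | exact @Cfsg.Agent.Lib.PackAll.Bc | exact ()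
private theorem _root_.Cfsg.Agent.KO2ce50ec.e62 : (by first | exact @Cfsg.Agent.Lib.PackAll.Bc = @_root_.Cfsg.Agent.KO2ce50ec.k62 | exact True : Prop) := by first | (delta _root_.Cfsg.Agent.KO2ce50ec.k62; exact @Subtype.property _ (fun g => @Cfsg.Agent.Lib.PackAll.Bc = @g) _) | rfl | trivial
private noncomputable def _root_.Cfsg.Agent.KO2ce50ec.k63 : (by first | exact type_of% @Cfsg.Agent.Lib.PackAll.aIni | exact Unit : Sort _) := by first | (refine @Subtype.val _ (fun g => @Cfsg.Agent.Lib.PackAll.aIni = @g) (@Subtype.mk _ _ (@(letI c0 := @Nat.add; letI c1 := @Nat.mul; @(fun x0 x1 x2 => @Nat.rec.{1} @(fun x3 => ℕ) (nat_lit 0) @(fun x3 x4 => @c0 @x4 (@c1 (@Cfsg.Agent.KO2ce50ec.k61 @x0 (nat_lit 1) (@c0 @x1 @x3)) (@Nat.pow (nat_lit 2) (@c1 (@Cfsg.Agent.KO2ce50ec.k62 @x0) @x3)))) @x2))) ?_); rewrite [← Cfsg.Agent.KO2ce50ec.e62, ← Cfsg.Agent.KO2ce50ec.e61]; (try delta Cfsg.Agent.Lib.PackAll.aIni);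 (try generalize @Cfsg.Agent.Lib.PackMat.unitRow = g0); (try generalize @Cfsg.Agent.Lib.PackAll.Bc = g1); rfl') | exact @Cfsg.Agent.Lib.PackAll.aIni | exact ()
private theorem _root_.Cfsg.Agent.KO2ce50ec.e63 : (by first | exact @Cfsg.Agent.Lib.PackAll.aIni = @_root_.Cfsg.Agent.KO2ce50ec.k63 | exact True : Prop) := by first | (delta _root_.Cfsg.Agent.KO2ce50ec.k63; exact @Subtype.property _ (fun g => @Cfsg.Agent.Lib.PackAll.aIni = @g) _) | rfl | trivial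
private noncomputable def _root_.Cfsg.Agent.KO2ce50ec.k64 : (by first | exact type_of% @Cfsg.Agent.Lib.PackAll.aP | exact Unit : Sort _) := by first | (refine @Subtype.val _ (fun g => @Cfsg.Agent.Lib.PackAll.aP = @g) (@Subtype.mk _ _ (@(fun x0 x1 x2 => @Nat.add (@Nat.shiftLeft (@Cfsg.Agent.KO2ce50ec.k63 @x0 @x1 @x2) (nat_lit 64)) (nat_lit 7))) ?_); rewrite [← Cfsg.Agent.KO2ce50ec.e63]; (try delta Cfsg.Agent.Lib.PackAll.aP); (try generalize @Cfsg.Agent.Lib.PackAll.aIni = g0); rfl') | exact @Cfsg.Agent.Lib.PackAll.aP | exact ()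
private theorem _root_.Cfsg.Agent.KO2ce50ec.e64 : (by first | exact @Cfsg.Agent.Lib.PackAll.aP = @_root_.Cfsg.Agent.KO2ce50ec.k64 | exact True : Prop) := by first | (delta _root_.Cfsg.Agent.KO2ce50ec.k64; exact @Subtype.property _ (fun g => @Cfsg.Agent.Lib.PackAll.aP = @g) _) | rfl | trivial
private noncomputable def _root_.Cfsg.Agent.KO2ce50ec.k65 : (by first | exact type_of% @Cfsg.Agent.Lib.PackMat.gmask | exact Unit : Sort _) := by first | (refine @Subtype.val _ (fun g => @Cfsg.Agent.Lib.PackMat.gmask = @g) (@Subtype.mk _ _ (@(letI c0 := @Nat.mul; letI c1 := @Nat.sub; letI c2 := @Nat.pow; @(fun x0 x1 => @c0 (@c0 (@c1 (@c2 (nat_lit 2) @x0) (nat_lit 1)) (@c2 (nat_lit 2) (@c0 @x0 (@c1 @x1 (nat_lit 1))))) (@Cfsg.Agent.KO2ce50ec.k59 (@c0 @x0 @x1) @x1)))) ?_); rewrite [← Cfsg.Agent.KO2ce50ec.e59]; (try delta Cfsg.Agent.Lib.PackMat.gmask); (try generalize @Cfsg.Agent.Lib.PackMat.rep = g0); rfl')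 | exact @Cfsg.Agent.Lib.PackMat.gmask | exact ()
private theorem _root_.Cfsg.Agent.KO2ce50ec.e65 : (by first | exact @Cfsg.Agent.Lib.PackMat.gmask = @_root_.Cfsg.Agent.KO2ce50ec.k65 | exact True : Prop) := by first | (delta _root_.Cfsg.Agent.KO2ce50ec.k65; exact @Subtype.property _ (fun g => @Cfsg.Agent.Lib.PackMat.gmask = @g) _) | rfl | trivial
private noncomputable def _root_.Cfsg.Agent.KO2ce50ec.k66 : (by first | exact type_of% @Cfsg.Agent.Lib.PackMat.GMc | exact Unit : Sort _) := by first | (refine @Subtype.val _ (fun g => @Cfsg.Agent.Lib.PackMat.GMc = @g) (@Subtype.mk _ _ (@(fun x0 => @Cfsg.Agent.KO2ce50ec.k65 (@Cfsg.Agent.Lib.PackMat.Cfg.s @x0) (@Cfsg.Agent.Lib.PackMat.Cfg.n @x0))) ?_); rewrite [← Cfsg.Agent.KO2ce50ec.e65]; (try delta Cfsg.Agent.Lib.PackMat.GMc); (try generalize @Cfsg.Agent.Lib.PackMat.gmask = g0); rfl') | exact @Cfsg.Agent.Lib.PackMat.GMc | exact ()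
private theorem _root_.Cfsg.Agent.KO2ce50ec.e66 : (by first | exact @Cfsg.Agent.Lib.PackMat.GMc = @_root_.Cfsg.Agent.KO2ce50ec.k66 | exact True : Prop) := by first | (delta _root_.Cfsg.Agent.KO2ce50ec.k66; exact @Subtype.property _ (fun g => @Cfsg.Agent.Lib.PackMat.GMc = @g) _) | rfl | trivial
private noncomputable def _root_.Cfsg.Agent.KO2ce50ec.k67 : (by first | exact type_of% @Cfsg.Agent.Lib.PackMat.FMc | exact Unit : Sort _) := by first | (refine @Subtype.val _ (fun g => @Cfsg.Agent.Lib.PackMat.FMc = @g) (@Subtype.mk _ _ (@(fun x0 => @Nat.sub (@Nat.pow (nat_lit 2) (@Nat.mul (@Cfsg.Agent.Lib.PackMat.Cfg.s @x0) (@Nat.add (@Cfsg.Agent.Lib.PackMat.Cfg.n @x0) (nat_lit 1)))) (nat_lit 1))) ?_); rfl') | exact @Cfsg.Agent.Lib.PackMat.FMc | exact ()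
private theorem _root_.Cfsg.Agent.KO2ce50ec.e67 : (by first | exact @Cfsg.Agent.Lib.PackMat.FMc = @_root_.Cfsg.Agent.KO2ce50ec.k67 | exact True : Prop) := by first | (delta _root_.Cfsg.Agent.KO2ce50ec.k67; exact @Subtype.property _ (fun g => @Cfsg.Agent.Lib.PackMat.FMc = @g) _) | rfl | trivial
private noncomputable def _root_.Cfsg.Agent.KO2ce50ec.k68 : (by first | exact type_of% @Cfsg.Agent.Lib.PackMat.LOc | exact Unit : Sort _) := by first | (refine @Subtype.val _ (fun g => @Cfsg.Agent.Lib.PackMat.LOc = @g) (@Subtype.mk _ _ (@(fun x0 => @Nat.mul (@Nat.sub (@Nat.pow (nat_lit 2) (@Cfsg.Agent.Lib.PackMat.Cfg.r @x0)) (nat_lit 1)) (@Cfsg.Agent.KO2ce50ec.k59 (@Cfsg.Agent.Lib.PackMat.Cfg.s @x0) (@Cfsg.Agent.Lib.PackMat.Cfg.n @x0)))) ?_); rewrite [← Cfsg.Agent.KO2ce50ec.e59]; (try delta Cfsg.Agent.Lib.PackMat.LOc); (try generalize @Cfsg.Agent.Lib.PackMat.rep = g0); rfl') | exact @Cfsg.Agent.Lib.PackMat.LOc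 | exact ()
private theorem _root_.Cfsg.Agent.KO2ce50ec.e68 : (by first | exact @Cfsg.Agent.Lib.PackMat.LOc = @_root_.Cfsg.Agent.KO2ce50ec.k68 | exact True : Prop) := by first | (delta _root_.Cfsg.Agent.KO2ce50ec.k68; exact @Subtype.property _ (fun g => @Cfsg.Agent.Lib.PackMat.LOc = @g) _) | rfl | trivial
private noncomputable def _root_.Cfsg.Agent.KO2ce50ec.k69 : (by first | exact type_of% @Cfsg.Agent.Lib.PackMat.HIc | exact Unit : Sort _) := by first | (refine @Subtype.val _ (fun g => @Cfsg.Agent.Lib.PackMat.HIc = @g) (@Subtype.mk _ _ (@(letI c0 := @Nat.sub; letI c1 := @Cfsg.Agent.Lib.PackMat.Cfg.s; @(fun x0 => @Nat.mul (@c0 (@Nat.pow (nat_lit 2) (@c0 (@c1 @x0) (@Cfsg.Agent.Lib.PackMat.Cfg.r @x0))) (nat_lit 1)) (@Cfsg.Agent.KO2ce50ec.k59 (@c1 @x0) (@Cfsg.Agent.Lib.PackMat.Cfg.n @x0))))) ?_); rewrite [← Cfsg.Agent.KO2ce50ec.e59]; (try delta Cfsg.Agent.Lib.PackMat.HIc); (try generalize @Cfsg.Agent.Lib.PackMat.rep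 = g0); rfl') | exact @Cfsg.Agent.Lib.PackMat.HIc | exact ()
private theorem _root_.Cfsg.Agent.KO2ce50ec.e69 : (by first | exact @Cfsg.Agent.Lib.PackMat.HIc = @_root_.Cfsg.Agent.KO2ce50ec.k69 | exact True : Prop) := by first | (delta _root_.Cfsg.Agent.KO2ce50ec.k69; exact @Subtype.property _ (fun g => @Cfsg.Agent.Lib.PackMat.HIc = @g) _) | rfl | trivial
private noncomputable def _root_.Cfsg.Agent.KO2ce50ec.k70 : (by first | exact type_of% @Cfsg.Agent.Lib.PackMat.HTc | exact Unit : Sort _) := by first | (refine @Subtype.val _ (fun g => @Cfsg.Agent.Lib.PackMat.HTc = @g) (@Subtype.mk _ _ (@(letI c0 := @Nat.sub; letI c1 := @Cfsg.Agent.Lib.PackMat.Cfg.s; @(fun x0 => @Nat.mul (@c0 (@Nat.pow (nat_lit 2) (@c0 (@c1 @x0) (@Cfsg.Agent.Lib.PackMat.Cfg.t @x0))) (nat_lit 1)) (@Cfsg.Agent.KO2ce50ec.k59 (@c1 @x0) (@Cfsg.Agent.Lib.PackMat.Cfg.n @x0))))) ?_); rewrite [← Cfsg.Agent.KO2ce50ec.e59]; (try delta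 Cfsg.Agent.Lib.PackMat.HTc); (try generalize @Cfsg.Agent.Lib.PackMat.rep = g0); rfl') | exact @Cfsg.Agent.Lib.PackMat.HTc | exact ()
private theorem _root_.Cfsg.Agent.KO2ce50ec.e70 : (by first | exact @Cfsg.Agent.Lib.PackMat.HTc = @_root_.Cfsg.Agent.KO2ce50ec.k70 | exact True : Prop) := by first | (delta _root_.Cfsg.Agent.KO2ce50ec.k70; exact @Subtype.property _ (fun g => @Cfsg.Agent.Lib.PackMat.HTc = @g) _) | rfl | trivial
private noncomputable def _root_.Cfsg.Agent.KO2ce50ec.k71 : (by first | exact type_of% @Cfsg.Agent.Lib.PackAll.withA | exact Unit : Sort _) := by first | (refine @Subtype.val _ (fun g => @Cfsg.Agent.Lib.PackAll.withA = @g) (@Subtype.mk _ _ (@(fun x0 x1 x2 x3 => @Cfsg.Agent.KO2ce50ec.k16 _ (@Cfsg.Agent.Lib.PackMat.Cfg.p @x1) @(fun x4 => @Cfsg.Agent.KO2ce50ec.k16 _ (@Cfsg.Agent.Lib.PackMat.Cfg.r @x1) @(fun x5 => @Cfsg.Agent.KO2ce50ec.k16 _ (@Cfsg.Agent.Lib.PackMat.Cfg.m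 @x1) @(fun x6 => @Cfsg.Agent.KO2ce50ec.k16 _ (@Cfsg.Agent.Lib.PackMat.Cfg.t @x1) @(fun x7 => @Cfsg.Agent.KO2ce50ec.k16 _ (@Cfsg.Agent.Lib.PackMat.Cfg.nf @x1) @(fun x8 => @Cfsg.Agent.KO2ce50ec.k16 _ (@Cfsg.Agent.KO2ce50ec.k59 (@Nat.mul (@Cfsg.Agent.Lib.PackMat.Cfg.s @x1) (@Nat.add (@Cfsg.Agent.Lib.PackMat.Cfg.n @x1) (nat_lit 1))) (@Cfsg.Agent.Lib.PackMat.Cfg.n @x1)) @(fun x9 => @Cfsg.Agent.KO2ce50ec.k16 _ (@Nat.mul (@Nat.mul (@Cfsg.Agent.Lib.PackMat.Cfg.s @x1) (@Nat.add (@Cfsg.Agent.Lib.PackMat.Cfg.n @x1) (nat_lit 1))) (@Nat.sub (@Cfsg.Agent.Lib.PackMat.Cfg.n @x1) (nat_lit 1))) @(fun x10 => @Cfsg.Agent.KO2ce50ec.k16 _ (@Nat.mul (@Cfsg.Agent.KO2ce50ec.k66 @x1) (@Cfsg.Agent.KO2ce50ec.k59 (@Cfsg.Agent.KO2ce50ec.k62 @x1) @x2)) @(fun x11 => @Cfsg.Agent.KO2ce50ec.k16 _ (@Nat.mul (@Cfsg.Agent.KO2ce50ec.k67 @x1) (@Cfsg.Agent.KO2ce50ec.k59 (@Cfsg.Agent.KO2ce50ec.k62 @x1) @x2)) @(fun x12 => @Cfsg.Agent.KO2ce50ec.k16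 _ (@Nat.mul (@Cfsg.Agent.KO2ce50ec.k68 @x1) (@Cfsg.Agent.KO2ce50ec.k59 (@Cfsg.Agent.KO2ce50ec.k62 @x1) @x2)) @(fun x13 => @Cfsg.Agent.KO2ce50ec.k16 _ (@Nat.mul (@Cfsg.Agent.KO2ce50ec.k69 @x1) (@Cfsg.Agent.KO2ce50ec.k59 (@Cfsg.Agent.KO2ce50ec.k62 @x1) @x2)) @(fun x14 => @Cfsg.Agent.KO2ce50ec.k16 _ (@Nat.mul (@Cfsg.Agent.KO2ce50ec.k70 @x1) (@Cfsg.Agent.KO2ce50ec.k59 (@Cfsg.Agent.KO2ce50ec.k62 @x1) @x2)) @(fun x15 => @x3 @x4 @x5 @x6 @x7 @x8 @x9 @x10 @x11 @x12 @x13 @x14 @x15)))))))))))))) ?_); rewrite [← Cfsg.Agent.KO2ce50ec.e70, ← Cfsg.Agent.KO2ce50ec.e69, ← Cfsg.Agent.KO2ce50ec.e68, ← Cfsg.Agent.KO2ce50ec.e67, ← Cfsg.Agent.KO2ce50ec.e62, ← Cfsg.Agent.KO2ce50ec.e66, ← Cfsg.Agent.KO2ce50ec.e59, ← Cfsg.Agent.KO2ce50ec.e16]; (try delta Cfsg.Agent.Lib.PackAll.withA); (try generalize @Cfsg.Agent.Lib.PackMat.force = g0); (try generalize @Cfsg.Agent.Lib.PackMat.rep = g1); (try generalize @Cfsg.Agent.Lib.PackMat.GMc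 = g2); (try generalize @Cfsg.Agent.Lib.PackAll.Bc = g3); (try generalize @Cfsg.Agent.Lib.PackMat.FMc = g4); (try generalize @Cfsg.Agent.Lib.PackMat.LOc = g5); (try generalize @Cfsg.Agent.Lib.PackMat.HIc = g6); (try generalize @Cfsg.Agent.Lib.PackMat.HTc = g7); rfl') | exact @Cfsg.Agent.Lib.PackAll.withA | exact ()
private theorem _root_.Cfsg.Agent.KO2ce50ec.e71 : (by first | exact @Cfsg.Agent.Lib.PackAll.withA = @_root_.Cfsg.Agent.KO2ce50ec.k71 | exact True : Prop) := by first | (delta _root_.Cfsg.Agent.KO2ce50ec.k71; exact @Subtype.property _ (fun g => @Cfsg.Agent.Lib.PackAll.withA = @g) _) | rfl | trivial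
private noncomputable def _root_.Cfsg.Agent.KO2ce50ec.k72 : (by first | exact type_of% @Cfsg.Agent.Lib.PackAll.aStep | exact Unit : Sort _) := by first | (refine @Subtype.val _ (fun g => @Cfsg.Agent.Lib.PackAll.aStep = @g) (@Subtype.mk _ _ (@(letI c0 := @Nat.add; letI c1 := @Nat.rec.{1}; letI c2 := @Nat.land; letI c3 := @Nat.shiftRight; letI c4 := @Nat.mul; @(fun x0 x1 x2 x3 x4 x5 x6 x7 x8 x9 x10 x11 x12 x13 => @c0 (@Nat.shiftLeft (@Nat.sub (@c1 @(fun x14 => ℕ) (@c2 (@c3 (@c4 @x5 (@c2 (@c4 (@c3 @x12 (nat_lit 64)) @x13) @x7)) @x6) @x8) @(fun x14 x15 => @c0 (@c2 @x15 @x9) (@c2 (@c3 @x15 @x1) @x10)) @x4) (@c4 (@c2 (@c3 (@c4 (@c1 @(fun x14 => ℕ) (@c2 (@c3 (@c4 @x5 (@c2 (@c4 (@c3 @x12 (nat_lit 64)) @x13) @x7)) @x6) @x8) @(fun x14 x15 => @c0 (@c2 @x15 @x9) (@c2 (@c3 @x15 @x1) @x10)) @x4) @x2) @x3) @x11) @x0)) (nat_lit 64)) (@Nat.mod @x12 (nat_lit 18446744073709551557))))) ?_); rfl') | exact @Cfsg.Agent.Lib.PackAll.aStep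 | exact ()
private theorem _root_.Cfsg.Agent.KO2ce50ec.e72 : (by first | exact @Cfsg.Agent.Lib.PackAll.aStep = @_root_.Cfsg.Agent.KO2ce50ec.k72 | exact True : Prop) := by first | (delta _root_.Cfsg.Agent.KO2ce50ec.k72; exact @Subtype.property _ (fun g => @Cfsg.Agent.Lib.PackAll.aStep = @g) _) | rfl | trivial
private noncomputable def _root_.Cfsg.Agent.KO2ce50ec.k73 : (by first | exact type_of% @Cfsg.Agent.Lib.PackAll.aRun | exact Unit : Sort _) := by first | (refine @Subtype.val _ (fun g => @Cfsg.Agent.Lib.PackAll.aRun = @g) (@Subtype.mk _ _ (@(fun x0 x1 x2 x3 x4 x5 x6 x7 x8 x9 x10 x11 x12 x13 x14 x15 => @List.rec.{1, 0} ℕ @(fun x16 => ℕ → @Bool) @(fun x16 => @x14 (@Nat.shiftRight @x16 (nat_lit 64))) @(fun x16 x17 x18 x19 => @Bool.rec.{1} @(fun x20 => @Bool) @x13 (@Cfsg.Agent.KO2ce50ec.k16 _ (@Cfsg.Agent.KO2ce50ec.k72 @x0 @x1 @x2 @x3 @x4 @x5 @x6 @x7 @x8 @x9 @x10 @x11 @x19 @x16) @x18) (@Nat.beq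 (@Nat.land @x16 @x12) @x16)) @x15)) ?_); rewrite [← Cfsg.Agent.KO2ce50ec.e72, ← Cfsg.Agent.KO2ce50ec.e16]; (try delta Cfsg.Agent.Lib.PackAll.aRun); (try generalize @Cfsg.Agent.Lib.PackMat.force = g0); (try generalize @Cfsg.Agent.Lib.PackAll.aStep = g1); rfl') | exact @Cfsg.Agent.Lib.PackAll.aRun | exact ()
private theorem _root_.Cfsg.Agent.KO2ce50ec.e73 : (by first | exact @Cfsg.Agent.Lib.PackAll.aRun = @_root_.Cfsg.Agent.KO2ce50ec.k73 | exact True : Prop) := by first | (delta _root_.Cfsg.Agent.KO2ce50ec.k73; exact @Subtype.property _ (fun g => @Cfsg.Agent.Lib.PackAll.aRun = @g) _) | rfl | trivial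
private noncomputable def _root_.Cfsg.Agent.KO2ce50ec.k74 : (by first | exact type_of% @Cfsg.Agent.Lib.PackMat.withC | exact Unit : Sort _) := by first | (refine @Subtype.val _ (fun g => @Cfsg.Agent.Lib.PackMat.withC = @g) (@Subtype.mk _ _ (@(letI c0 := @Cfsg.Agent.KO2ce50ec.k16; @(fun x0 x1 x2 => @c0 _ (@Cfsg.Agent.Lib.PackMat.Cfg.s @x1) @(fun x3 => @c0 _ (@Cfsg.Agent.Lib.PackMat.Cfg.p @x1) @(fun x4 => @c0 _ (@Cfsg.Agent.Lib.PackMat.Cfg.r @x1) @(fun x5 => @c0 _ (@Cfsg.Agent.Lib.PackMat.Cfg.m @x1) @(fun x6 => @c0 _ (@Cfsg.Agent.Lib.PackMat.Cfg.t @x1) @(fun x7 => @c0 _ (@Cfsg.Agent.Lib.PackMat.Cfg.nf @x1) @(fun x8 => @c0 _ (@Cfsg.Agent.KO2ce50ec.k66 @x1) @(fun x9 => @c0 _ (@Cfsg.Agent.KO2ce50ec.k67 @x1) @(fun x10 => @c0 _ (@Cfsg.Agent.KO2ce50ec.k68 @x1) @(fun x11 => @c0 _ (@Cfsg.Agent.KO2ce50ec.k69 @x1) @(fun x12 => @c0 _ (@Cfsg.Agent.KO2ce50ec.k70 @x1) @(fun x13 => @x2 @x3 @x4 @x5 @x6 @x7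 @x8 @x9 @x10 @x11 @x12 @x13)))))))))))))) ?_); rewrite [← Cfsg.Agent.KO2ce50ec.e70, ← Cfsg.Agent.KO2ce50ec.e69, ← Cfsg.Agent.KO2ce50ec.e68, ← Cfsg.Agent.KO2ce50ec.e67, ← Cfsg.Agent.KO2ce50ec.e66, ← Cfsg.Agent.KO2ce50ec.e16]; (try delta Cfsg.Agent.Lib.PackMat.withC); (try generalize @Cfsg.Agent.Lib.PackMat.force = g0); (try generalize @Cfsg.Agent.Lib.PackMat.GMc = g1); (try generalize @Cfsg.Agent.Lib.PackMat.FMc = g2); (try generalize @Cfsg.Agent.Lib.PackMat.LOc = g3); (try generalize @Cfsg.Agent.Lib.PackMat.HIc = g4); (try generalize @Cfsg.Agent.Lib.PackMat.HTc = g5); rfl') | exact @Cfsg.Agent.Lib.PackMat.withC | exact ()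
private theorem _root_.Cfsg.Agent.KO2ce50ec.e74 : (by first | exact @Cfsg.Agent.Lib.PackMat.withC = @_root_.Cfsg.Agent.KO2ce50ec.k74 | exact True : Prop) := by first | (delta _root_.Cfsg.Agent.KO2ce50ec.k74; exact @Subtype.property _ (fun g => @Cfsg.Agent.Lib.PackMat.withC = @g) _) | rfl | trivial
private noncomputable def _root_.Cfsg.Agent.KO2ce50ec.k75 : (by first | exact type_of% @Cfsg.Agent.Lib.PackMat.foldK | exact Unit : Sort _) := by first | (refine @Subtype.val _ (fun g => @Cfsg.Agent.Lib.PackMat.foldK = @g) (@Subtype.mk _ _ (@(letI c0 := @Nat.land; @(fun x0 x1 x2 x3 x4 => @Nat.rec.{1} @(fun x5 => ℕ → ℕ) @(fun x5 => @x5) @(fun x5 x6 x7 => @Cfsg.Agent.KO2ce50ec.k16 _ (@Nat.add (@c0 @x7 @x1) (@c0 (@Nat.shiftRight @x7 @x0) @x2)) @(fun x8 => @x6 @x8)) @x3 @x4))) ?_); rewrite [← Cfsg.Agent.KO2ce50ec.e16]; funext a0 a1 a2 a3 a4; refine (congrFun (_root_.Cfsg.Agent.KO2ce50ec.e30 (fun a3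 a4 => @Cfsg.Agent.Lib.PackMat.foldK a0 a1 a2 a3 a4) ?_ (fun c0 => ?_) a3) a4 :) <;> ((try delta Cfsg.Agent.Lib.PackMat.foldK Cfsg.Agent.Lib.PackMat.foldK._f); (try generalize @Cfsg.Agent.Lib.PackMat.force = g0); rfl')) | exact @Cfsg.Agent.Lib.PackMat.foldK | exact ()
private theorem _root_.Cfsg.Agent.KO2ce50ec.e75 : (by first | exact @Cfsg.Agent.Lib.PackMat.foldK = @_root_.Cfsg.Agent.KO2ce50ec.k75 | exact True : Prop) := by first | (delta _root_.Cfsg.Agent.KO2ce50ec.k75; exact @Subtype.property _ (fun g => @Cfsg.Agent.Lib.PackMat.foldK = @g) _) | rfl | trivial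
private noncomputable def _root_.Cfsg.Agent.KO2ce50ec.k76 : (by first | exact type_of% @Cfsg.Agent.Lib.PackMat.stepK | exact Unit : Sort _) := by first | (refine @Subtype.val _ (fun g => @Cfsg.Agent.Lib.PackMat.stepK = @g) (@Subtype.mk _ _ (@(letI c0 := @Nat.land; letI c1 := @Nat.mul; @(fun x0 x1 x2 x3 x4 x5 x6 x7 x8 x9 x10 x11 => @Cfsg.Agent.KO2ce50ec.k16 _ (@Nat.mod (@c0 (@c1 @x10 @x11) @x5) @x6) @(fun x12 => @Cfsg.Agent.KO2ce50ec.k16 _ (@Cfsg.Agent.KO2ce50ec.k75 @x1 @x7 @x8 @x4 @x12) @(fun x13 => @Nat.sub @x13 (@c1 @x0 (@c0 (@Nat.shiftRight (@c1 @x13 @x2) @x3) @x9))))))) ?_); rewrite [← Cfsg.Agent.KO2ce50ec.e75, ← Cfsg.Agent.KO2ce50ec.e16]; (try delta Cfsg.Agent.Lib.PackMat.stepK); (try generalize @Cfsg.Agent.Lib.PackMat.force = g0); (try generalize @Cfsg.Agent.Lib.PackMat.foldK = g1); rfl') | exact @Cfsg.Agent.Lib.PackMat.stepK | exact ()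
private theorem _root_.Cfsg.Agent.KO2ce50ec.e76 : (by first | exact @Cfsg.Agent.Lib.PackMat.stepK = @_root_.Cfsg.Agent.KO2ce50ec.k76 | exact True : Prop) := by first | (delta _root_.Cfsg.Agent.KO2ce50ec.k76; exact @Subtype.property _ (fun g => @Cfsg.Agent.Lib.PackMat.stepK = @g) _) | rfl | trivial
private noncomputable def _root_.Cfsg.Agent.KO2ce50ec.k77 : (by first | exact type_of% @Cfsg.Agent.Lib.PackMat.runK | exact Unit : Sort _) := by first | (refine @Subtype.val _ (fun g => @Cfsg.Agent.Lib.PackMat.runK = @g) (@Subtype.mk _ _ (@(fun x0 x1 x2 x3 x4 x5 x6 x7 x8 x9 x10 x11 => @List.rec.{1, 0} ℕ @(fun x12 => ℕ → ℕ) @(fun x12 => @x12) @(fun x12 x13 x14 x15 => @Cfsg.Agent.KO2ce50ec.k16 _ (@Cfsg.Agent.KO2ce50ec.k76 @x0 @x1 @x2 @x3 @x4 @x5 @x6 @x7 @x8 @x9 @x15 @x12) @(fun x16 => @x14 @x16)) @x10 @x11)) ?_); rewrite [← Cfsg.Agent.KO2ce50ec.e76, ← Cfsg.Agent.KO2ce50ec.e16]; funext a0 a1 a2 a3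 a4 a5 a6 a7 a8 a9 a10 a11; refine (congrFun (_root_.Cfsg.Agent.KO2ce50ec.e0 (fun a10 a11 => @Cfsg.Agent.Lib.PackMat.runK a0 a1 a2 a3 a4 a5 a6 a7 a8 a9 a10 a11) ?_ (fun c0 c1 => ?_) a10) a11 :) <;> ((try delta Cfsg.Agent.Lib.PackMat.runK Cfsg.Agent.Lib.PackMat.runK._f); (try generalize @Cfsg.Agent.Lib.PackMat.force = g0); (try generalize @Cfsg.Agent.Lib.PackMat.stepK = g1); rfl')) | exact @Cfsg.Agent.Lib.PackMat.runK | exact ()
private theorem _root_.Cfsg.Agent.KO2ce50ec.e77 : (by first | exact @Cfsg.Agent.Lib.PackMat.runK = @_root_.Cfsg.Agent.KO2ce50ec.k77 | exact True : Prop) := by first | (delta _root_.Cfsg.Agent.KO2ce50ec.k77; exact @Subtype.property _ (fun g => @Cfsg.Agent.Lib.PackMat.runK = @g) _) | rfl | trivial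
private noncomputable def _root_.Cfsg.Agent.KO2ce50ec.k78 : (by first | exact type_of% @Cfsg.Agent.Lib.PackMat.checkEqK | exact Unit : Sort _) := by first | (refine @Subtype.val _ (fun g => @Cfsg.Agent.Lib.PackMat.checkEqK = @g) (@Subtype.mk _ _ (@(fun x0 x1 x2 x3 x4 x5 x6 x7 x8 x9 x10 x11 x12 x13 x14 => @Nat.rec.{1} @(fun x15 => ℕ → @Bool) @(fun x15 => @Bool.true) @(fun x15 x16 x17 => @Bool.rec.{1} @(fun x18 => @Bool) @Bool.false (@Cfsg.Agent.KO2ce50ec.k16 _ (@Nat.shiftRight @x17 @x0) @(fun x18 => @x16 @x18)) (@Nat.beq (@Cfsg.Agent.KO2ce50ec.k77 @x1 @x2 @x3 @x4 @x5 @x6 @x7 @x8 @x9 @x10 @x11 @x17) (@Cfsg.Agent.KO2ce50ec.k77 @x1 @x2 @x3 @x4 @x5 @x6 @x7 @x8 @x9 @x10 @x12 @x17))) @x13 @x14)) ?_); rewrite [← Cfsg.Agent.KO2ce50ec.e77, ← Cfsg.Agent.KO2ce50ec.e16]; funext a0 a1 a2 a3 a4 a5 a6 a7 a8 a9 a10 a11 a12 a13 a14; refine (congrFun (_root_.Cfsg.Agent.KO2ce50ec.e30 (fun a13 a14 => @Cfsg.Agent.Lib.PackMat.checkEqK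 a0 a1 a2 a3 a4 a5 a6 a7 a8 a9 a10 a11 a12 a13 a14) ?_ (fun c0 => ?_) a13) a14 :) <;> ((try delta Cfsg.Agent.Lib.PackMat.checkEqK Cfsg.Agent.Lib.PackMat.checkEqK._f); (try generalize @Cfsg.Agent.Lib.PackMat.force = g0); (try generalize @Cfsg.Agent.Lib.PackMat.runK = g1); rfl')) | exact @Cfsg.Agent.Lib.PackMat.checkEqK | exact ()
private theorem _root_.Cfsg.Agent.KO2ce50ec.e78 : (by first | exact @Cfsg.Agent.Lib.PackMat.checkEqK = @_root_.Cfsg.Agent.KO2ce50ec.k78 | exact True : Prop) := by first | (delta _root_.Cfsg.Agent.KO2ce50ec.k78; exact @Subtype.property _ (fun g => @Cfsg.Agent.Lib.PackMat.checkEqK = @g) _) | rfl | trivial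
private noncomputable def _root_.Cfsg.Agent.KO2ce50ec.k79 : (by first | exact type_of% @Cfsg.Agent.Lib.PackMat.checkEq | exact Unit : Sort _) := by first | (refine @Subtype.val _ (fun g => @Cfsg.Agent.Lib.PackMat.checkEq = @g) (@Subtype.mk _ _ (@(fun x0 x1 x2 x3 x4 => @Bool.rec.{1} @(fun x5 => @Bool) @Bool.false (@Cfsg.Agent.KO2ce50ec.k74 _ @x0 @(fun x5 x6 x7 x8 x9 x10 x11 x12 x13 x14 x15 => @Cfsg.Agent.KO2ce50ec.k16 _ (@Cfsg.Agent.KO2ce50ec.k61 @x0 (nat_lit 1) @x3) @(fun x16 => @Cfsg.Agent.KO2ce50ec.k78 @x5 @x6 @x7 @x8 @x9 @x10 @x11 @x12 @x13 @x14 @x15 @x1 @x2 @x4 @x16))) (@Nat.ble (@Nat.add @x3 @x4) (@Cfsg.Agent.Lib.PackMat.Cfg.n @x0)))) ?_); rewrite [← Cfsg.Agent.KO2ce50ec.e78, ← Cfsg.Agent.KO2ce50ec.e61, ← Cfsg.Agent.KO2ce50ec.e16, ← Cfsg.Agent.KO2ce50ec.e74]; (try delta Cfsg.Agent.Lib.PackMat.checkEq); (try generalize @Cfsg.Agent.Lib.PackMat.withC = g0); (try generalize @Cfsg.Agent.Lib.PackMat.force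 = g1); (try generalize @Cfsg.Agent.Lib.PackMat.unitRow = g2); (try generalize @Cfsg.Agent.Lib.PackMat.checkEqK = g3); rfl') | exact @Cfsg.Agent.Lib.PackMat.checkEq | exact ()
private theorem _root_.Cfsg.Agent.KO2ce50ec.e79 : (by first | exact @Cfsg.Agent.Lib.PackMat.checkEq = @_root_.Cfsg.Agent.KO2ce50ec.k79 | exact True : Prop) := by first | (delta _root_.Cfsg.Agent.KO2ce50ec.k79; exact @Subtype.property _ (fun g => @Cfsg.Agent.Lib.PackMat.checkEq = @g) _) | rfl | trivial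
private noncomputable def _root_.Cfsg.Agent.KO2ce50ec.k80 : (by first | exact type_of% @Cfsg.Agent.Lib.PackAll.aEq | exact Unit : Sort _) := by first | (refine @Subtype.val _ (fun g => @Cfsg.Agent.Lib.PackAll.aEq = @g) (@Subtype.mk _ _ (@(fun x0 x1 x2 x3 x4 => @Bool.rec.{1} @(fun x5 => @Bool) @Bool.false (@Cfsg.Agent.KO2ce50ec.k16 _ (@Cfsg.Agent.KO2ce50ec.k60 @x0) @(fun x5 => @Cfsg.Agent.KO2ce50ec.k16 _ (@Cfsg.Agent.KO2ce50ec.k64 @x0 @x3 @x4) @(fun x6 => @Cfsg.Agent.KO2ce50ec.k71 _ @x0 @x4 @(fun x7 x8 x9 x10 x11 x12 x13 x14 x15 x16 x17 x18 => @Cfsg.Agent.KO2ce50ec.k73 @x7 @x8 @x9 @x10 @x11 @x12 @x13 @x14 @x15 @x16 @x17 @x18 @x5 (@Cfsg.Agent.KO2ce50ec.k79 @x0 @x1 @x2 @x3 @x4) @(fun x19 => @Cfsg.Agent.KO2ce50ec.k73 @x7 @x8 @x9 @x10 @x11 @x12 @x13 @x14 @x15 @x16 @x17 @x18 @x5 (@Cfsg.Agent.KO2ce50ec.k79 @x0 @x1 @x2 @x3 @x4) (@Nat.beq @x19) @x2 @x6) @x1 @x6)))) (@Nat.ble (@Nat.add @x3 @x4) (@Cfsg.Agent.Lib.PackMat.Cfg.n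 @x0)))) ?_); rewrite [← Cfsg.Agent.KO2ce50ec.e79, ← Cfsg.Agent.KO2ce50ec.e73, ← Cfsg.Agent.KO2ce50ec.e71, ← Cfsg.Agent.KO2ce50ec.e64, ← Cfsg.Agent.KO2ce50ec.e60, ← Cfsg.Agent.KO2ce50ec.e16]; (try delta Cfsg.Agent.Lib.PackAll.aEq); (try generalize @Cfsg.Agent.Lib.PackMat.force = g0); (try generalize @Cfsg.Agent.Lib.PackAll.Mc = g1); (try generalize @Cfsg.Agent.Lib.PackAll.aP = g2); (try generalize @Cfsg.Agent.Lib.PackAll.withA = g3); (try generalize @Cfsg.Agent.Lib.PackAll.aRun = g4); (try generalize @Cfsg.Agent.Lib.PackMat.checkEq = g5); rfl') | exact @Cfsg.Agent.Lib.PackAll.aEq | exact ()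
private theorem _root_.Cfsg.Agent.KO2ce50ec.e80 : (by first | exact @Cfsg.Agent.Lib.PackAll.aEq = @_root_.Cfsg.Agent.KO2ce50ec.k80 | exact True : Prop) := by first | (delta _root_.Cfsg.Agent.KO2ce50ec.k80; exact @Subtype.property _ (fun g => @Cfsg.Agent.Lib.PackAll.aEq = @g) _) | rfl | trivial
private noncomputable def _root_.Cfsg.Agent.KO2ce50ec.k81 : (by first | exact type_of% @Cfsg.Agent.GTwoThree.Model.cd | exact Unit : Sort _) := by first | (refine @Subtype.val _ (fun g => @Cfsg.Agent.GTwoThree.Model.cd = @g) (@Subtype.mk _ _ (@(fun x0 => @Option.rec.{1, 0} ℕ @(fun x1 => ℕ) @Cfsg.Agent.GTwoThree.ModelData.ID3 @(fun x1 => @x1) (@Cfsg.Agent.KO2ce50ec.k22.{0} _ @Cfsg.Agent.GTwoThree.ModelData.L3 @x0))) ?_); rewrite [← Cfsg.Agent.KO2ce50ec.e22.{0}]; (try delta Cfsg.Agent.GTwoThree.Model.cd); (try generalize @Cfsg.Agent.GTwoThree.ModelData.ID3 = g0); (try generalize @Cfsg.Agent.GTwoThree.ModelData.L3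 = g1); rfl') | exact @Cfsg.Agent.GTwoThree.Model.cd | exact ()
private theorem _root_.Cfsg.Agent.KO2ce50ec.e81 : (by first | exact @Cfsg.Agent.GTwoThree.Model.cd = @_root_.Cfsg.Agent.KO2ce50ec.k81 | exact True : Prop) := by first | (delta _root_.Cfsg.Agent.KO2ce50ec.k81; exact @Subtype.property _ (fun g => @Cfsg.Agent.GTwoThree.Model.cd = @g) _) | rfl | trivial
private noncomputable def _root_.Cfsg.Agent.KO2ce50ec.k82.{ku0} : type_of% @List.tail.{ku0} := @(fun x0 x1 => @List.rec.{(ku0+1), ku0} @x0 @(fun x2 => @List.{ku0} @x0) [] @(fun x2 x3 x4 => @x3) @x1)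
private theorem _root_.Cfsg.Agent.KO2ce50ec.e82.{ku0} : @List.tail.{ku0} = @_root_.Cfsg.Agent.KO2ce50ec.k82.{ku0} := by delta _root_.Cfsg.Agent.KO2ce50ec.k82; rfl'
private noncomputable def _root_.Cfsg.Agent.KO2ce50ec.oEq.{ku} (α : Sort ku) (a b : Nat) (f t : α) : α := @Decidable.rec (a = b) (fun _ => α) (fun _ => f) (fun _ => t) (Nat.decEq a b)
private noncomputable def _root_.Cfsg.Agent.KO2ce50ec.k83.{ku} (α : Sort ku) (a b : Nat) (f t : α) : α := @Bool.rec (fun _ => α) f t (Nat.beq a b)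
private theorem _root_.Cfsg.Agent.KO2ce50ec.e83.{ku} : @_root_.Cfsg.Agent.KO2ce50ec.oEq.{ku} = @_root_.Cfsg.Agent.KO2ce50ec.k83.{ku} := funext fun α => funext fun a => funext fun b => funext fun f => funext fun t => by delta _root_.Cfsg.Agent.KO2ce50ec.oEq _root_.Cfsg.Agent.KO2ce50ec.k83; cases h : Nat.beq a b <;> cases Nat.decEq a b <;> rename_i g <;> first | rfl | exact absurd g (Nat.ne_of_beq_eq_false h) | exact absurd (Nat.eq_of_beq_eq_true h) g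
private noncomputable def _root_.Cfsg.Agent.KO2ce50ec.k84 : (by first | exact type_of% @Cfsg.Agent.GTwoThree.Model.wx | exact Unit : Sort _) := by first | (refine @Subtype.val _ (fun g => @Cfsg.Agent.GTwoThree.Model.wx = @g) (@Subtype.mk _ _ (@(fun x0 x1 => @Cfsg.Agent.KO2ce50ec.k83.{1} (@List.{0} ℕ) @x1 (nat_lit 0) ((@Nat.add (@Nat.mul (nat_lit 2) @x0) (@Nat.sub @x1 (nat_lit 1))) :: []) [])) ?_); rewrite [← Cfsg.Agent.KO2ce50ec.e83.{1}]; rfl') | exact @Cfsg.Agent.GTwoThree.Model.wx | exact ()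
private theorem _root_.Cfsg.Agent.KO2ce50ec.e84 : (by first | exact @Cfsg.Agent.GTwoThree.Model.wx = @_root_.Cfsg.Agent.KO2ce50ec.k84 | exact True : Prop) := by first | (delta _root_.Cfsg.Agent.KO2ce50ec.k84; exact @Subtype.property _ (fun g => @Cfsg.Agent.GTwoThree.Model.wx = @g) _) | rfl | trivial
private noncomputable def _root_.Cfsg.Agent.KO2ce50ec.k85 : (by first | exact type_of% @Cfsg.Agent.OddHalf.Small.G23Check.uw | exact Unit : Sort _) := by first | (refine @Subtype.val _ (fun g => @Cfsg.Agent.OddHalf.Small.G23Check.uw = @g) (@Subtype.mk _ _ (@(letI c0 := @Cfsg.Agent.KO2ce50ec.k53.{0}; letI c1 := @Cfsg.Agent.KO2ce50ec.k84; @(fun x0 x1 x2 x3 x4 x5 => @c0 _ (@c1 (nat_lit 6) @x0) (@c0 _ (@c1 (nat_lit 7) @x1) (@c0 _ (@c1 (nat_lit 8) @x2) (@c0 _ (@c1 (nat_lit 9) @x3) (@c0 _ (@c1 (nat_lit 10) @x4) (@c1 (nat_lit 11) @x5)))))))) ?_); rewrite [← Cfsg.Agent.KO2ce50ec.e84, ← Cfsg.Agent.KO2ce50ec.e53.{0}];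 (try delta Cfsg.Agent.OddHalf.Small.G23Check.uw); (try generalize @Cfsg.Agent.GTwoThree.Model.wx = g0); rfl') | exact @Cfsg.Agent.OddHalf.Small.G23Check.uw | exact ()
private theorem _root_.Cfsg.Agent.KO2ce50ec.e85 : (by first | exact @Cfsg.Agent.OddHalf.Small.G23Check.uw = @_root_.Cfsg.Agent.KO2ce50ec.k85 | exact True : Prop) := by first | (delta _root_.Cfsg.Agent.KO2ce50ec.k85; exact @Subtype.property _ (fun g => @Cfsg.Agent.OddHalf.Small.G23Check.uw = @g) _) | rfl | trivial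

theorem TU_check : ∀ a < 3, ∀ b < 3, ∀ c < 3, TC a b c := by
  delta TC tc eqc; rewrite [gA]; (first | (refine of_decide_eq_true ?_; rewrite [Cfsg.Agent.KO2ce50ec.e54, Cfsg.Agent.KO2ce50ec.e52, Cfsg.Agent.KO2ce50ec.e5, Cfsg.Agent.KO2ce50ec.e11, Cfsg.Agent.KO2ce50ec.e15, Cfsg.Agent.KO2ce50ec.e55, Cfsg.Agent.KO2ce50ec.e56, Cfsg.Agent.KO2ce50ec.e57.{0}, Cfsg.Agent.KO2ce50ec.e58, Cfsg.Agent.KO2ce50ec.e80, Cfsg.Agent.KO2ce50ec.e6.{0, 0}, Cfsg.Agent.KO2ce50ec.e81, Cfsg.Agent.KO2ce50ec.e82.{0}, Cfsg.Agent.KO2ce50ec.e85, Cfsg.Agent.KO2ce50ec.e46.{0}]; decide +kernel) | decide +kernel)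

/-! ### `C(z)` -/

/-- the element of `C(z)` -/
noncomputable def zw (a d i : ℕ) : List ℕ := (wx 6 a ++ wx 9 d) ++ NL.getD (NZ.getD i 0) []

/-- the entry of `TZ` -/
noncomputable def ze (a d i : ℕ) : List ℕ := TZ.getD (9 * i + 3 * a + d) []

/-- the check for one element of `C(z)` -/
noncomputable def zc (a d i : ℕ) : Bool :=
  nec (zw a d i ++ (zw a d i ++ zw a d i)) wz || (eqc (zw a d i) wz || (Nat.blt ((ze a d i).headD 0) 4 &&
    eqc ((ze a d i).tail ++ zw a d i) (rz.getD ((ze a d i).headD 0) [] ++ (ze a d i).tail)))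

private noncomputable def _root_.Cfsg.Agent.KO2ce50ec.k86 : (by first | exact type_of% @Cfsg.Agent.OddHalf.Small.G23Check.rr | exact Unit : Sort _) := by first | (refine @Subtype.val _ (fun g => @Cfsg.Agent.OddHalf.Small.G23Check.rr = @g) (@Subtype.mk _ _ (@(fun x0 => @Cfsg.Agent.KO2ce50ec.k74 _ @Cfsg.Agent.GTwoThree.ModelData.C3 @(fun x1 x2 x3 x4 x5 x6 x7 x8 x9 x10 x11 => @Cfsg.Agent.KO2ce50ec.k77 @x2 @x3 @x4 @x5 @x6 @x7 @x8 @x9 @x10 @x11 (@Cfsg.Agent.KO2ce50ec.k6.{0, 0} _ _ @Cfsg.Agent.KO2ce50ec.k81 @x0) @Cfsg.Agent.OddHalf.Small.G23Data.R0))) ?_); rewrite [← Cfsg.Agent.KO2ce50ec.e81, ← Cfsg.Agent.KO2ce50ec.e6.{0, 0}, ← Cfsg.Agent.KO2ce50ec.e77, ← Cfsg.Agent.KO2ce50ec.e74]; (try delta Cfsg.Agent.OddHalf.Small.G23Check.rr); (try generalize @Cfsg.Agent.Lib.PackMat.withC = g0); (try generalize @Cfsg.Agent.GTwoThree.ModelData.C3 = g1); (try generalize @Cfsg.Agent.Lib.PackMat.runK = g2); (try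 generalize @Cfsg.Agent.GTwoThree.Model.cd = g3); (try generalize @Cfsg.Agent.OddHalf.Small.G23Data.R0 = g4); rfl') | exact @Cfsg.Agent.OddHalf.Small.G23Check.rr | exact ()
private theorem _root_.Cfsg.Agent.KO2ce50ec.e86 : (by first | exact @Cfsg.Agent.OddHalf.Small.G23Check.rr = @_root_.Cfsg.Agent.KO2ce50ec.k86 | exact True : Prop) := by first | (delta _root_.Cfsg.Agent.KO2ce50ec.k86; exact @Subtype.property _ (fun g => @Cfsg.Agent.OddHalf.Small.G23Check.rr = @g) _) | rfl | trivial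
private noncomputable def _root_.Cfsg.Agent.KO2ce50ec.k87 : (by first | exact type_of% @Cfsg.Agent.OddHalf.Small.G23Check.nec | exact Unit : Sort _) := by first | (refine @Subtype.val _ (fun g => @Cfsg.Agent.OddHalf.Small.G23Check.nec = @g) (@Subtype.mk _ _ (@(fun x0 x1 => @Bool.rec.{1} @(fun x2 => @Bool) @Bool.true @Bool.false (@Nat.beq (@Cfsg.Agent.KO2ce50ec.k86 @x0) (@Cfsg.Agent.KO2ce50ec.k86 @x1)))) ?_); rewrite [← Cfsg.Agent.KO2ce50ec.e86]; (try delta Cfsg.Agent.OddHalf.Small.G23Check.nec); (try generalize @Cfsg.Agent.OddHalf.Small.G23Check.rr = g0); rfl') | exact @Cfsg.Agent.OddHalf.Small.G23Check.nec | exact ()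
private theorem _root_.Cfsg.Agent.KO2ce50ec.e87 : (by first | exact @Cfsg.Agent.OddHalf.Small.G23Check.nec = @_root_.Cfsg.Agent.KO2ce50ec.k87 | exact True : Prop) := by first | (delta _root_.Cfsg.Agent.KO2ce50ec.k87; exact @Subtype.property _ (fun g => @Cfsg.Agent.OddHalf.Small.G23Check.nec = @g) _) | rfl | trivial
private noncomputable def _root_.Cfsg.Agent.KO2ce50ec.k88 : (by first | exact type_of% @Cfsg.Agent.H126.SNX.Check.zw | exact Unit : Sort _) := by first | (refine @Subtype.val _ (fun g => @Cfsg.Agent.H126.SNX.Check.zw = @g) (@Subtype.mk _ _ (@(letI c0 := @Option.rec.{1, 0}; @(fun x0 x1 x2 => @Cfsg.Agent.KO2ce50ec.k53.{0} _ (@Cfsg.Agent.KO2ce50ec.k53.{0} _ (@Cfsg.Agent.KO2ce50ec.k84 (nat_lit 6) @x0) (@Cfsg.Agent.KO2ce50ec.k84 (nat_lit 9) @x1)) (@c0 (@List.{0} ℕ) @(fun x3 => @List.{0} ℕ) [] @(fun x3 => @x3) (@Cfsg.Agent.KO2ce50ec.k22.{0} _ @Cfsg.Agent.OddHalf.Small.G23Data.NL (@c0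 ℕ @(fun x3 => ℕ) (nat_lit 0) @(fun x3 => @x3) (@Cfsg.Agent.KO2ce50ec.k22.{0} _ @Cfsg.Agent.OddHalf.Small.G23Data.NZ @x2))))))) ?_); rewrite [← Cfsg.Agent.KO2ce50ec.e22.{0}, ← Cfsg.Agent.KO2ce50ec.e84, ← Cfsg.Agent.KO2ce50ec.e53.{0}]; (try delta Cfsg.Agent.H126.SNX.Check.zw); (try generalize @Cfsg.Agent.GTwoThree.Model.wx = g0); (try generalize @Cfsg.Agent.OddHalf.Small.G23Data.NL = g1); (try generalize @Cfsg.Agent.OddHalf.Small.G23Data.NZ = g2); rfl') | exact @Cfsg.Agent.H126.SNX.Check.zw | exact ()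
private theorem _root_.Cfsg.Agent.KO2ce50ec.e88 : (by first | exact @Cfsg.Agent.H126.SNX.Check.zw = @_root_.Cfsg.Agent.KO2ce50ec.k88 | exact True : Prop) := by first | (delta _root_.Cfsg.Agent.KO2ce50ec.k88; exact @Subtype.property _ (fun g => @Cfsg.Agent.H126.SNX.Check.zw = @g) _) | rfl | trivial
private noncomputable def _root_.Cfsg.Agent.KO2ce50ec.k89 : (by first | exact type_of% @Cfsg.Agent.H126.SNX.Check.ze | exact Unit : Sort _) := by first | (refine @Subtype.val _ (fun g => @Cfsg.Agent.H126.SNX.Check.ze = @g) (@Subtype.mk _ _ (@(letI c0 := @Nat.add; letI c1 := @Nat.mul; @(fun x0 x1 x2 => @Option.rec.{1, 0} (@List.{0} ℕ) @(fun x3 => @List.{0} ℕ) [] @(fun x3 => @x3) (@Cfsg.Agent.KO2ce50ec.k22.{0} _ @Cfsg.Agent.H126.SNX.Data.TZ (@c0 (@c0 (@c1 (nat_lit 9) @x2) (@c1 (nat_lit 3) @x0)) @x1))))) ?_); rewrite [← Cfsg.Agent.KO2ce50ec.e22.{0}]; (try delta Cfsg.Agent.H126.SNX.Check.ze); (try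 generalize @Cfsg.Agent.H126.SNX.Data.TZ = g0); rfl') | exact @Cfsg.Agent.H126.SNX.Check.ze | exact ()
private theorem _root_.Cfsg.Agent.KO2ce50ec.e89 : (by first | exact @Cfsg.Agent.H126.SNX.Check.ze = @_root_.Cfsg.Agent.KO2ce50ec.k89 | exact True : Prop) := by first | (delta _root_.Cfsg.Agent.KO2ce50ec.k89; exact @Subtype.property _ (fun g => @Cfsg.Agent.H126.SNX.Check.ze = @g) _) | rfl | trivial

theorem TZ_check : ∀ i < 16, ∀ a < 3, ∀ d < 3, zc a d i = true := by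
  delta zc eqc; rewrite [gA]; (first | (refine of_decide_eq_true ?_; rewrite [Cfsg.Agent.KO2ce50ec.e54, Cfsg.Agent.KO2ce50ec.e5, Cfsg.Agent.KO2ce50ec.e11, Cfsg.Agent.KO2ce50ec.e15, Cfsg.Agent.KO2ce50ec.e55, Cfsg.Agent.KO2ce50ec.e87, Cfsg.Agent.KO2ce50ec.e88, Cfsg.Agent.KO2ce50ec.e80, Cfsg.Agent.KO2ce50ec.e6.{0, 0}, Cfsg.Agent.KO2ce50ec.e81, Cfsg.Agent.KO2ce50ec.e56, Cfsg.Agent.KO2ce50ec.e57.{0}, Cfsg.Agent.KO2ce50ec.e89, Cfsg.Agent.KO2ce50ec.e82.{0}, Cfsg.Agent.KO2ce50ec.e46.{0}]; decide +kernel) | decide +kernel)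

theorem WZ_check : ∀ a < 3, ∀ d < 3, eqc ((wx 6 a ++ wx 9 d) ++ wz) (wz ++ (wx 6 a ++ wx 9 d)) = true := by
  decide +kernel

/-! ### certificates -/

/-- `v`, `v⁻¹` and their conjugates by `g` -/
def sb (r g : List ℕ) (j : ℕ) : List ℕ :=
  if j = 0 then r else if j = 1 then iw r else if j = 2 then g ++ (r ++ iw g) else g ++ (iw r ++ iw g)

/-- words in `v`, `v ^ g` -/
def sw (r g l : List ℕ) : List ℕ := l.flatMap (sb r g)

/-- powers -/
def pw (w : List ℕ) : ℕ → List ℕ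
  | 0 => []
  | k + 1 => w ++ pw w k

/-- the certificate -/
noncomputable def cf (r g la lb : List ℕ) (k l m : ℕ) : Bool :=
  eqc (pw (sw r g la) k) [] && (eqc (pw (sw r g lb) l) [] && (eqc (pw (sw r g la ++ sw r g lb) m) [] &&
    nec (sw r g lb) []))

theorem cf_3c : (beta% delta% lq26ec4e9428 fun a b _ _ _ =>
 cf (a 18<|a 22<|b) (a 2<|a 6<|b) (a 0<|a 2<|a 1<|b) (a 3<|a 1<|a 3<|a 0<|b) 3 7 2 :
 Bool) = true := by
  delta cf eqc; rewrite [gA]; decide +kernel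
theorem cf_3d : cf [16, 20] [4, 11] [0] [0, 3] 3 7 4 = true := by
  delta cf eqc; rewrite [gA]; decide +kernel
theorem cf_3e : cf [16, 21] [1, 14] [0] [0, 2] 3 13 7 = true := by
  delta cf eqc; rewrite [gA]; decide +kernel
theorem cf_9a : cf [12, 14] [6] [0] [0, 0, 0, 3] 9 4 7 = true := by
  delta cf eqc; rewrite [gA]; decide +kernel
theorem cf_9b : cf [12, 14, 20] [15, 7] [0, 2] [0, 3] 7 3 4 = true := by
  delta cf eqc; rewrite [gA]; decide +kernel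
theorem cf_9c : cf [12, 14, 21] [6] [0, 2] [1, 2] 7 3 4 = true := by
  delta cf eqc; rewrite [gA]; decide +kernel
theorem cf_6a : (beta% delta% lq26ec4e9428 fun a b _ _ _ =>
 cf (a 13<|a 10<|a 13<|a 13<|a 10<|a 13<|a 18<|b) (a 21<|a 2<|a 6<|b) (a 0<|a 2<|b) (a 2<|a 2<|a 1<|b) 7 3 2 :
 Bool) = true := by
  delta cf eqc; rewrite [gA]; decide +kernel
theorem cf_6b : (beta% delta% lq26ec4e9428 fun a b _ _ _ =>
 cf (a 13<|a 10<|a 13<|a 13<|a 10<|a 13<|a 12<|b) (a 20<|a 11<|a 8<|b) (a 0<|a 0<|b) (a 2<|a 0<|a 2<|b) 3 4 7 :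
 Bool) = true := by
  delta cf eqc; rewrite [gA]; decide +kernel
theorem cf_6c : (beta% delta% lq26ec4e9428 fun a b _ _ _ =>
 cf (a 13<|a 10<|a 13<|a 13<|a 10<|a 13<|a 12<|a 18<|b) (a 0<|b) (a 0<|a 2<|b) (a 2<|a 1<|b) 13 4 3 :
 Bool) = true := by
  delta cf eqc; rewrite [gA]; decide +kernel
theorem cf_6d : (beta% delta% lq26ec4e9428 fun a b _ _ _ =>
 cf (a 13<|a 10<|a 13<|a 13<|a 10<|a 13<|a 12<|a 19<|b) (a 7<|b) (a 0<|a 0<|b) (a 1<|a 2<|a 0<|a 2<|b) 3 7 2 :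
 Bool) = true := by
  delta cf eqc; rewrite [gA]; decide +kernel

end Cfsg.Agent.H126.SNX.Check
end

-- part: H126/SNX/G23Long
section
/-!
# Long and short root elements of `G₂(3)` are not conjugate (helper126, for S3831)
-/

set_option autoImplicit false
set_option Elab.async false
set_option maxRecDepth 100000

namespace Cfsg.Agent.H126.SNX.Long

open Cfsg.Lie
open Cfsg.Agent.Lib.PackMat
open Cfsg.Agent.GTwoThree.ModelData
open Cfsg.Agent.GTwoThree.Model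

/-- `X k - 1` -/
def nt (k : ℕ) : Mat14 := mat C3 (cd k) - 1

theorem nt_long : ∀ i j : Fin C3.n, ∑ k : Fin C3.n, nt 22 i k * nt 22 k j =
    (if i.val = 13 then 1 else 0) * (if j.val = 2 then 1 else 0) := by
  decide +kernel

/-- an index -/
def ix (i : ℕ) (h : i < C3.n := by decide) : Fin C3.n := ⟨i, h⟩

theorem nt_short : (∑ k : Fin C3.n, nt 18 (ix 9) k * nt 18 k (ix 2) = 1) ∧
    (∑ k : Fin C3.n, nt 18 (ix 10) k * nt 18 k (ix 3) = 2) ∧
    (∑ k : Fin C3.n, nt 18 (ix 9) k * nt 18 k (ix 3) = 0) := by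
  decide +kernel

theorem sq_long : nt 22 * nt 22 =
    Matrix.vecMulVec (fun i : Fin C3.n => if i.val = 13 then 1 else 0) (fun j : Fin C3.n => if j.val = 2 then 1 else 0) := by
  ext i j
  rw [Matrix.mul_apply, Matrix.vecMulVec_apply]
  exact nt_long i j

theorem two_ne : (1 : ZMod C3.p) * 2 ≠ 0 := by decide

theorem aux {D E : Mat14} (hDE : D * E = 1) (h : D * mat C3 (cd 22) = mat C3 (cd 18) * D) : False := by
  have h5 : D * nt 22 = nt 18 * D := by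
    unfold nt
    rw [mul_sub, sub_mul, h, mul_one, one_mul]
  have h6 : D * (nt 22 * nt 22) = (nt 18 * nt 18) * D := by
    rw [← mul_assoc, h5, mul_assoc, h5, mul_assoc]
  have h7 : nt 18 * nt 18 = D * (nt 22 * nt 22) * E := by
    rw [h6, mul_assoc, hDE, mul_one]
  rw [sq_long, Matrix.mul_vecMulVec, Matrix.vecMulVec_mul] at h7
  obtain ⟨s1, s2, s3⟩ := nt_short
  rw [← Matrix.mul_apply, h7, Matrix.vecMulVec_apply] at s1 s2 s3
  generalize (D.mulVec fun i : Fin C3.n => if i.val = 13 then 1 else 0) = p at s1 s2 s3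
  generalize (Matrix.vecMul (fun j : Fin C3.n => if j.val = 2 then 1 else 0) E) = q at s1 s2 s3
  have h9 : (p (ix 9) * q (ix 2)) * (p (ix 10) * q (ix 3)) = (p (ix 9) * q (ix 3)) * (p (ix 10) * q (ix 2)) := by ring
  rw [s1, s2, s3, zero_mul] at h9
  exact two_ne h9

theorem ev_one (k : ℕ) : ((ev X [k] : GL14) : Mat14) = mat C3 (cd k) := by
  rw [ev_val, List.map_cons, List.map_nil, List.map_cons, List.map_nil, List.prod_singleton]

attribute [local irreducible] Cfsg.Agent.GTwoThree.Model.ev Cfsg.Agent.GTwoThree.Model.y Cfsg.Agent.GTwoThree.Model.X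
  Cfsg.Agent.GTwoThree.Model.θ

/-- long and short root elements are not conjugate -/
theorem not_conj (d : ↥Gp) : d * ev y [22] * d⁻¹ ≠ ev y [18] := by
  intro h
  have h1 : d * ev y [22] = ev y [18] * d := by rw [← h, inv_mul_cancel_right]
  have h2 : (d : GL I14 (ZMod 3)) * θ (ev X [22]) = θ (ev X [18]) * (d : GL I14 (ZMod 3)) := by
    rw [← ev_y, ← ev_y]
    exact (congrArg Subtype.val h1 :)
  have h3 : (θ.symm (d : GL I14 (ZMod 3))) * ev X [22] = ev X [18] * (θ.symm (d : GL I14 (ZMod 3))) := by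
    apply θ.injective
    rw [map_mul, map_mul, MulEquiv.apply_symm_apply]
    exact h2
  set D : GL14 := θ.symm (d : GL I14 (ZMod 3)) with hD'
  have h4 : (D : Mat14) * ((ev X [22] : GL14) : Mat14) = ((ev X [18] : GL14) : Mat14) * (D : Mat14) :=
    (congrArg Units.val h3 :)
  rw [ev_one, ev_one] at h4
  exact aux (D := (D : Mat14)) (E := ((D⁻¹ : GL14) : Mat14)) D.mul_inv h4

end Cfsg.Agent.H126.SNX.Long
end

-- part: H126/SNX/Gen
section
/-!
# S3831 : general lemmas for explicit certificates (helper126)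
-/

set_option autoImplicit false

namespace Cfsg.Agent.H126.SNX.Gen

open scoped Pointwise
open Subgroup Cfsg.Agent.H459.Rad Cfsg.Agent.H21.SN

section

variable {G : Type*} [Group G]

/-- **certificates** -/
theorem false_of_cert (hZ : center G = ⊥) {v g a b : G} (hP : PS 2 (MulAut.conj v))
    (ha : ∀ S : Subgroup G, v ∈ S → g * v * g⁻¹ ∈ S → a ∈ S) (hb : ∀ S : Subgroup G, v ∈ S → g * v * g⁻¹ ∈ S → b ∈ S)
    {k l m : ℕ} (h1 : a ^ k = 1) (h2 : b ^ l = 1) (h3 : (a * b) ^ m = 1) (h4 : b ≠ 1) (hkl : k.Coprime l)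
    (hkm : k.Coprime m) (hlm : l.Coprime m) : False := by
  have hinj : Function.Injective (MulAut.conj : G →* MulAut G) := H839.Rad.conj_injective hZ
  have hs := hP ![1, g]
  set S : Subgroup (MulAut G) := _root_.Subgroup.closure (Set.range fun i : Fin 2 =>
    MulAut.conj ((![1, g] : Fin 2 → G) i) * MulAut.conj v * (MulAut.conj ((![1, g] : Fin 2 → G) i))⁻¹) with hS
  have m1 : v ∈ S.comap MulAut.conj := by
    refine subset_closure ⟨0, ?_⟩
    show MulAut.conj (1 : G) * MulAut.conj v * (MulAut.conj (1 : G))⁻¹ = _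
    rw [map_one, one_mul, inv_one, mul_one]
  have m2 : g * v * g⁻¹ ∈ S.comap MulAut.conj := by
    refine subset_closure ⟨1, ?_⟩
    show MulAut.conj g * MulAut.conj v * (MulAut.conj g)⁻¹ = _
    rw [map_mul, map_mul, map_inv]
  have ma : MulAut.conj a ∈ S := ha _ m1 m2
  have mb : MulAut.conj b ∈ S := hb _ m1 m2
  refine Cfsg.Agent.H196.SN.not_solvable_of_coprime ma mb (a := k) (b := l) (c := m) ?_ ?_ ?_ hkl hkm hlm ?_ hs
  · rw [← map_pow, h1, map_one]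
  · rw [← map_pow, h2, map_one]
  · rw [← map_mul, ← map_pow, h3, map_one]
  · intro h5
    exact h4 (hinj (h5.trans (map_one _).symm))

/-- `PS` for a conjugate of an inner automorphism -/
theorem ps_conj {x : G} {k : ℕ} (h : PS k (MulAut.conj x)) (g : G) : PS k (MulAut.conj (g * x * g⁻¹)) := by
  have h1 := h.tr (MulAut.conj g)
  have h2 : H459.Rad.tr (MulAut.conj g) (MulAut.conj x) = MulAut.conj (g * x * g⁻¹) := by
    ext k
    rw [tr_apply, MulAut.conj_apply, MulAut.conj_apply, MulAut.conj_apply, MulAut.conj_symm_apply]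
    group
  rwa [h2] at h1

/-- a `p`-element is conjugate into a given Sylow `p`-subgroup -/
theorem exists_conj_mem [Finite G] {p : ℕ} [Fact p.Prime] (P : Sylow p G) {v : G} {k : ℕ} (h : v ^ p ^ k = 1) :
    ∃ g : G, g * v * g⁻¹ ∈ (P : Subgroup G) := by
  have ht : IsPGroup p ↥(zpowers v) := by
    rintro ⟨w, hw⟩
    obtain ⟨n, rfl⟩ := mem_zpowers_iff.1 hw
    refine ⟨k, Subtype.ext ?_⟩
    show (v ^ n) ^ p ^ k = 1
    rw [← zpow_natCast, ← zpow_mul, mul_comm, zpow_mul, zpow_natCast, h, one_zpow]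
  obtain ⟨Q, hQ⟩ := ht.exists_le_sylow
  obtain ⟨g, hg⟩ := MulAction.exists_smul_eq G Q P
  refine ⟨g, ?_⟩
  rw [← hg]
  exact smul_mem_pointwise_smul v (MulAut.conj g) _ (hQ (mem_zpowers v))

theorem mul_conj' (φ : MulAut G) (s : G) : φ * MulAut.conj s * φ⁻¹ = MulAut.conj (φ s) := by
  ext g
  show φ (s * φ⁻¹ g * s⁻¹) = φ s * g * (φ s)⁻¹
  rw [map_mul, map_mul, map_inv, MulAut.apply_inv_self]

/-- **`|Out| = 2`** : the reduction of `R69` -/
theorem r69_of (hZ : center G = ⊥) (hout : Nat.card (Cfsg.Out G) = 2) {c : MulAut G} (hno : ∀ g : G, c ≠ MulAut.conj g)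
    {A B : G → Prop}
    (hroot : ∀ (v : G) (k : ℕ), v ^ 3 ^ k = 1 → v ≠ 1 → PS 2 (MulAut.conj v) → v ^ 3 = 1 ∧ (A v ∨ B v))
    (hA : ∀ v g : G, A v → A (g * v * g⁻¹)) (hB : ∀ v g : G, B v → B (g * v * g⁻¹))
    (hcA : ∀ v, A v → B (c v)) (hcB : ∀ v, B v → A (c v)) (hAB : ∀ v, A v → B v → False)
    (hsix : ∀ v : G, orderOf v = 6 → PS 2 (MulAut.conj v) → False) : R69 G := by
  have hinj : Function.Injective (MulAut.conj : G →* MulAut G) := H839.Rad.conj_injective hZ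
  have hidx : ((MulAut.conj : G →* MulAut G).range).index = 2 := hout
  rintro x hx hP - -
  by_cases hin : x ∈ (MulAut.conj : G →* MulAut G).range
  · obtain ⟨v, rfl⟩ := hin
    rw [orderOf_injective _ hinj] at hx
    rcases hx with hx | hx
    · exact hsix v hx hP
    · have h1 : v ≠ 1 := by
        rintro rfl
        rw [orderOf_one] at hx
        norm_num at hx
      have h2 := (hroot v 2 (by rw [show 3 ^ 2 = orderOf v by rw [hx]; rfl]; exact pow_orderOf_eq_one v) h1 hP).1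
      have h3 := orderOf_dvd_of_pow_eq_one h2
      rw [hx] at h3
      norm_num at h3
  · -- `x` is outer
    have h2 : ∀ a b : MulAut G, a ∉ (MulAut.conj : G →* MulAut G).range → b ∉ (MulAut.conj : G →* MulAut G).range →
        a * b ∈ (MulAut.conj : G →* MulAut G).range := fun a b ha hb => by
      rw [Subgroup.mul_mem_iff_of_index_two hidx]
      exact iff_of_false ha hb
    rcases hx with hx | hx
    swap
    · -- odd order
      apply hin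
      have h3 : x ^ 8 ∈ (MulAut.conj : G →* MulAut G).range := by
        have h4 := h2 x x hin hin
        have h5 : x ^ 8 = (x * x) ^ 4 := by rw [← pow_two, ← pow_mul]
        rw [h5]
        exact pow_mem h4 4
      have h4 : x ^ 8 = x⁻¹ := by
        have h5 : x ^ 9 = 1 := by
          rw [← hx]
          exact pow_orderOf_eq_one x
        rw [eq_inv_iff_mul_eq_one, ← pow_succ]
        exact h5
      rw [h4] at h3
      exact inv_mem_iff.1 h3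
    have h3 : x ^ 4 ∈ (MulAut.conj : G →* MulAut G).range := by
      have h4 := h2 x x hin hin
      have h5 : x ^ 4 = (x * x) ^ 2 := by rw [← pow_two, ← pow_mul]
      rw [h5]
      exact pow_mem h4 2
    obtain ⟨v, hv⟩ := h3
    have h4 : x v = v := by
      apply hinj
      rw [← mul_conj', hv, ← pow_succ', pow_succ, mul_inv_cancel_right]
    have h5 : PS 2 (MulAut.conj v) := by
      have h6 : MulAut.conj v = x ^ 4 := hv
      rw [h6]
      exact PS.pow hP 4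
    have h6 : v ≠ 1 := by
      rintro rfl
      rw [map_one] at hv
      have h7 := orderOf_dvd_of_pow_eq_one hv.symm
      rw [hx] at h7
      norm_num at h7
    have h7 : v ^ 3 ^ 1 = 1 := by
      apply hinj
      rw [map_pow, hv, map_one, ← pow_mul, show 4 * 3 ^ 1 = orderOf x * 2 by rw [hx]; rfl, pow_mul, pow_orderOf_eq_one,
        one_pow]
    obtain ⟨g, hg⟩ := h2 x c⁻¹ hin (fun h => by
      obtain ⟨g, hg⟩ := inv_mem_iff.1 h
      exact hno g hg.symm)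
    have h8 : x = MulAut.conj g * c := by rw [hg, inv_mul_cancel_right]
    have h9 : g * c v * g⁻¹ = v := by
      have : x v = g * c v * g⁻¹ := by rw [h8]; rfl
      rw [← this, h4]
    rcases (hroot v 1 h7 h6 h5).2 with h10 | h10
    · refine hAB v h10 ?_
      rw [← h9]
      exact hB _ g (hcA v h10)
    · refine hAB v ?_ h10
      rw [← h9]
      exact hA _ g (hcB v h10)

end

end Cfsg.Agent.H126.SNX.Gen
end

-- part: H126/SNX/G23
section
/-!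
# S3831 : the row `R69` of `G₂(3)` (helper126)
-/

set_option autoImplicit false
set_option maxRecDepth 10000

namespace Cfsg.Agent.H126.SNX.G23

open Subgroup Cfsg.Lie
open Cfsg.Agent.Lib.PackMat Cfsg.Agent.GTwoThree.ModelData
open Cfsg.Agent.GTwoThree.Model
open Cfsg.Agent.OddHalf.Small.G23Data Cfsg.Agent.OddHalf.Small.G23Check Cfsg.Agent.OddHalf.Small.G23
open Cfsg.Agent.H96.Rad2.G23
open Cfsg.Agent.H126.SNX.Data Cfsg.Agent.H126.SNX.Check

attribute [local irreducible] Cfsg.Agent.GTwoThree.Model.ev Cfsg.Agent.GTwoThree.Model.y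

private noncomputable abbrev mG : Monoid ↥Gp := (Subgroup.toGroup Gp).toDivInvMonoid.toMonoid
private noncomputable abbrev oG : MulOneClass ↥Gp := (Subgroup.toGroup Gp).toDivInvMonoid.toMonoid.toMulOneClass

attribute [local instance 2000] mG oG

/-! ### certificates -/

theorem ev_pw (w : List ℕ) (k : ℕ) : ev y (pw w k) = ev y w ^ k := by
  induction k with
  | zero => rw [pow_zero]; exact ev_nil y
  | succ k ih => rw [pow_succ', ← ih]; exact ev_append y _ _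

theorem sb_mem {r g : List ℕ} (hr : ∀ k ∈ r, k < 24) (hg : ∀ k ∈ g, k < 24) {S : Subgroup ↥Gp} (h1 : ev y r ∈ S)
    (h2 : ev y g * ev y r * (ev y g)⁻¹ ∈ S) (j : ℕ) : ev y (sb r g j) ∈ S := by
  unfold sb
  split_ifs
  · exact h1
  · rw [ev_iw hr]; exact inv_mem h1
  · rw [ev_append, ev_append, ev_iw hg, ← mul_assoc]; exact h2
  · rw [ev_append, ev_append, ev_iw hg, ev_iw hr]
    have h3 := inv_mem h2
    have e : (ev y g * ev y r * (ev y g)⁻¹)⁻¹ = ev y g * ((ev y r)⁻¹ * (ev y g)⁻¹) := by group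
    rwa [e] at h3

theorem sw_mem {r g : List ℕ} (hr : ∀ k ∈ r, k < 24) (hg : ∀ k ∈ g, k < 24) {S : Subgroup ↥Gp} (h1 : ev y r ∈ S)
    (h2 : ev y g * ev y r * (ev y g)⁻¹ ∈ S) (l : List ℕ) : ev y (sw r g l) ∈ S := by
  induction l with
  | nil =>
    have : sw r g [] = [] := rfl
    rw [this, ev_nil]
    exact one_mem S
  | cons j l ih =>
    have : sw r g (j :: l) = sb r g j ++ sw r g l := List.flatMap_cons ..
    rw [this, ev_append]
    exact mul_mem (sb_mem hr hg h1 h2 j) ih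

theorem false_of_cf {r g la lb : List ℕ} {k l m : ℕ} (h : cf r g la lb k l m = true) (hr : ∀ k ∈ r, k < 24)
    (hg : ∀ k ∈ g, k < 24) (hkl : k.Coprime l) (hkm : k.Coprime m) (hlm : l.Coprime m)
    (hP : H459.Rad.PS 2 (MulAut.conj (ev y r))) : False := by
  unfold cf at h
  rw [Bool.and_eq_true, Bool.and_eq_true, Bool.and_eq_true] at h
  obtain ⟨h1, h2, h3, h4⟩ := h
  have h1' := eq_of_eqc h1
  have h2' := eq_of_eqc h2
  have h3' := eq_of_eqc h3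
  have h4' := ne_of_nec h4
  rw [ev_pw, ev_nil] at h1' h2' h3'
  rw [ev_append] at h3'
  rw [ev_nil] at h4'
  exact Gen.false_of_cert center_Gp (g := ev y g) hP (fun S a b => sw_mem hr hg a b la) (fun S a b => sw_mem hr hg a b lb)
    h1' h2' h3' h4' hkl hkm hlm

/-! ### the `3`-elements -/

/-- **the `3`-elements `v` with `PS 2` are the long and short root elements** -/
theorem root_of_ps {v : ↥Gp} {k : ℕ} (h3 : v ^ 3 ^ k = 1) (hv : v ≠ 1) (hP : H459.Rad.PS 2 (MulAut.conj v)) :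
    ∃ c : ↥Gp, c * v * c⁻¹ = ev y [22] ∨ c * v * c⁻¹ = ev y [18] := by
  have hf : Fact (Nat.Prime 3) := ⟨Nat.prime_three⟩
  have hcp : CharP (ZMod 3) 3 := ZMod.charP 3
  obtain ⟨P, hPe⟩ : ∃ P : Sylow 3 ↥Gp, (P : Subgroup ↥Gp) = (chevG2.posUnipotent (ZMod 3)).subgroupOf Gp :=
    Cfsg.Agent.S2326.result (F := ZMod 3) 3 chevG2 hD
  obtain ⟨g, h1⟩ := Gen.exists_conj_mem P h3
  have h2 : ((g * v * g⁻¹ : ↥Gp) : GL I14 (ZMod 3)) ∈ chevG2.posUnipotent (ZMod 3) := by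
    rw [hPe] at h1
    exact mem_subgroupOf.1 h1
  obtain ⟨a, b, c, d, e, f, h3⟩ := exists_pos h2
  have h4 : g * v * g⁻¹ = ev y (uw a.val b.val c.val d.val e.val f.val) := ext_gv h3
  have h5 := TU_check a.val a.2 b.val b.2 c.val c.2 d.val d.2 e.val e.2 f.val f.2
  unfold tc at h5
  rw [Bool.or_eq_true, Bool.and_eq_true] at h5
  rcases h5 with h5 | ⟨h5, h6⟩
  · exfalso
    have h6 := Nat.eq_of_beq_eq_true h5
    have ha : a.val = 0 := by omega
    have hb : b.val = 0 := by omega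
    have hc : c.val = 0 := by omega
    have hd : d.val = 0 := by omega
    have he : e.val = 0 := by omega
    have hf : f.val = 0 := by omega
    rw [ha, hb, hc, hd, he, hf] at h4
    have h7 : uw 0 0 0 0 0 0 = [] := rfl
    rw [h7, ev_nil, conj_eq_one_iff] at h4
    exact hv h4
  · set! t := te a.val b.val c.val d.val e.val f.val with hte; rewrite [← hte] at h6 h5
    have h7 := eq_of_eqc h6
    rw [ev_append, ev_append, ← h4] at h7
    have hi : t.headD 0 < 8 := by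
      have := Nat.le_of_ble_eq_true h5
      omega
    generalize t.headD 0 = i at h7 hi
    have h8 : (ev y t.tail * g) * v * (ev y t.tail * g)⁻¹ = ev y (rp.getD i []) := by
      calc (ev y t.tail * g) * v * (ev y t.tail * g)⁻¹ = ev y t.tail * (g * v * g⁻¹) * (ev y t.tail)⁻¹ := by group
        _ = _ := by rw [h7, mul_inv_cancel_right]
    have h9 : H459.Rad.PS 2 (MulAut.conj (ev y (rp.getD i []))) := by
      rw [← h8]
      exact Gen.ps_conj hP _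
    refine ⟨ev y t.tail * g, ?_⟩
    rw [h8]
    interval_cases i
    · exact Or.inl rfl
    · exact Or.inr rfl
    · exact (false_of_cf cf_3c (by decide) (by decide) (by norm_num) (by norm_num) (by norm_num) h9).elim
    · exact (false_of_cf cf_3d (by decide) (by decide) (by norm_num) (by norm_num) (by norm_num) h9).elim
    · exact (false_of_cf cf_3e (by decide) (by decide) (by norm_num) (by norm_num) (by norm_num) h9).elim
    · exact (false_of_cf cf_9a (by decide) (by decide) (by norm_num) (by norm_num) (by norm_num) h9).elim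
    · exact (false_of_cf cf_9b (by decide) (by decide) (by norm_num) (by norm_num) (by norm_num) h9).elim
    · exact (false_of_cf cf_9c (by decide) (by decide) (by norm_num) (by norm_num) (by norm_num) h9).elim

/-! ### elements of order six -/

/-- the elements of order six -/
theorem false_of_six {v : ↥Gp} (hv : orderOf v = 6) (hP : H459.Rad.PS 2 (MulAut.conj v)) : False := by
  have h1 : orderOf (v ^ 3) = 2 := by
    rw [orderOf_pow_of_dvd (by norm_num) (by rw [hv]; norm_num), hv]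
  obtain ⟨c, hc⟩ := exists_conj h1
  have h2 : (c * v * c⁻¹) ^ 3 = z := by rw [conj_pow, hc]
  have h3 : (c * v * c⁻¹) * z = z * (c * v * c⁻¹) := by
    rw [← h2, ← pow_succ, ← pow_succ']
  have hP1 := Gen.ps_conj hP c
  have ho1 : orderOf (c * v * c⁻¹) = 6 := by
    have e : c * v * c⁻¹ = MulAut.conj c v := rfl
    rw [e, MulEquiv.orderOf_eq, hv]
  generalize c * v * c⁻¹ = x at h2 h3 hP1 ho1
  obtain ⟨a, d, i, hi, a', d', a'', d'', e1, e2⟩ := cent h3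
  obtain ⟨j, hj, hij⟩ : ∃ j < 16, NZ.getD j 0 = i := by
    have key : ∀ i ∈ NZ, ∃ j < 16, NZ.getD j 0 = i := by decide +kernel
    exact key i hi
  have hw : ev y (wx 6 a'.val ++ wx 9 d'.val) * z = z * ev y (wx 6 a'.val ++ wx 9 d'.val) := by
    have h4 := eq_of_eqc (WZ_check a'.val a'.2 d'.val d'.2)
    rw [ev_append y (wx 6 a'.val ++ wx 9 d'.val) wz, ev_append y wz (wx 6 a'.val ++ wx 9 d'.val)] at h4
    exact h4
  have h12 : ev y (zw a''.val d''.val j) = ev y (wx 6 a''.val ++ wx 9 d''.val) * ev y (NL.getD i []) := by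
    rw [← hij]
    exact ev_append y _ _
  rw [← e2] at h12
  clear e2
  generalize ev y (wx 6 a'.val ++ wx 9 d'.val) = w at hw h12 e1
  generalize ev y (wx 6 a.val ++ wx 9 d.val) = u at h12 e1
  generalize ev y (NL.getD i []) = n at h12 e1
  have h5 : w * x * w⁻¹ = ev y (zw a''.val d''.val j) := by
    rw [h12, e1]
    group
  have h6 : (w * x * w⁻¹) ^ 3 = z := by
    rw [conj_pow, h2, hw, mul_inv_cancel_right]
  have hP2 := Gen.ps_conj hP1 w
  have ho2 : orderOf (w * x * w⁻¹) = 6 := by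
    have e : w * x * w⁻¹ = MulAut.conj w x := rfl
    rw [e, MulEquiv.orderOf_eq, ho1]
  rw [h5] at h6 hP2 ho2
  have h7 := TZ_check j hj a''.val a''.2 d''.val d''.2
  unfold zc at h7
  rw [Bool.or_eq_true, Bool.or_eq_true, Bool.and_eq_true] at h7
  rcases h7 with h7 | h7 | ⟨h7, h8⟩
  · refine ne_of_nec h7 ?_
    rw [ev_append, ev_append, ← mul_assoc, ← pow_three']
    exact h6
  · have h8 : ev y (zw a''.val d''.val j) = z := eq_of_eqc h7
    rw [h8] at h6 ho2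
    have h9 : z ^ 2 = 1 := by
      have h10 : z ^ 3 = z ^ 2 * z := pow_succ z 2
      rw [h10] at h6
      exact mul_eq_right.1 h6
    have h11 := orderOf_dvd_of_pow_eq_one h9
    rw [ho2] at h11
    norm_num at h11
  · set! t := ze a''.val d''.val j with hte; rewrite [← hte] at h8 h7
    have h9 := eq_of_eqc h8
    rw [ev_append, ev_append] at h9
    have hi : t.headD 0 < 4 := by
      have := Nat.le_of_ble_eq_true h7
      omega
    generalize t.headD 0 = i at h9 hi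
    have h10 : (ev y t.tail) * ev y (zw a''.val d''.val j) * (ev y t.tail)⁻¹ = ev y (rz.getD i []) := by
      rw [h9, mul_inv_cancel_right]
    have h11 : H459.Rad.PS 2 (MulAut.conj (ev y (rz.getD i []))) := by
      rw [← h10]
      exact Gen.ps_conj hP2 _
    interval_cases i
    · exact false_of_cf cf_6a (by decide) (by decide) (by norm_num) (by norm_num) (by norm_num) h11
    · exact false_of_cf cf_6b (by decide) (by decide) (by norm_num) (by norm_num) (by norm_num) h11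
    · exact false_of_cf cf_6c (by decide) (by decide) (by norm_num) (by norm_num) (by norm_num) h11
    · exact false_of_cf cf_6d (by decide) (by decide) (by norm_num) (by norm_num) (by norm_num) h11

/-! ### the row -/

theorem cube_long : (ev y [22]) ^ 3 = 1 := by
  rw [pow_three', mulw, mulw]
  exact (eq_of_eqc (w' := []) (by decide +kernel)).trans (ev_nil y)

theorem cube_short : (ev y [18]) ^ 3 = 1 := by
  rw [pow_three', mulw, mulw]
  exact (eq_of_eqc (w' := []) (by decide +kernel)).trans (ev_nil y)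

theorem row : H21.SN.R69 ↥Gp := by
  refine Gen.r69_of center_Gp card_out γ_outer (A := fun v => ∃ c : ↥Gp, c * v * c⁻¹ = ev y [22])
    (B := fun v => ∃ c : ↥Gp, c * v * c⁻¹ = ev y [18]) ?_ ?_ ?_ ?_ ?_ ?_ fun v => false_of_six
  · intro v k h3 hv hP
    obtain ⟨c, h | h⟩ := root_of_ps h3 hv hP
    · refine ⟨?_, Or.inl ⟨c, h⟩⟩
      have h4 := cube_long
      rw [← h, conj_pow, conj_eq_one_iff] at h4
      exact h4
    · refine ⟨?_, Or.inr ⟨c, h⟩⟩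
      have h4 := cube_short
      rw [← h, conj_pow, conj_eq_one_iff] at h4
      exact h4
  · rintro v g ⟨c, h⟩
    exact ⟨c * g⁻¹, by rw [← h]; group⟩
  · rintro v g ⟨c, h⟩
    exact ⟨c * g⁻¹, by rw [← h]; group⟩
  · rintro v ⟨c, h⟩
    refine ⟨γ c, ?_⟩
    rw [← map_mul, ← map_inv, ← map_mul, h, γ_ev]
    rfl
  · rintro v ⟨c, h⟩
    refine ⟨γ c, ?_⟩
    rw [← map_mul, ← map_inv, ← map_mul, h, γ_ev]
    rfl
  · rintro v ⟨c, h⟩ ⟨e, h'⟩
    refine Long.not_conj (e * c⁻¹) ?_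
    rw [← h, ← h']
    group

end Cfsg.Agent.H126.SNX.G23

namespace Cfsg.Agent.H126.SNX

open Cfsg.Lie

private theorem congrD (D : ChevalleyDatum) {F L : Type} [Field F] [Field L] (φ : F ≃+* L) [Finite ↥(D.group F)]
    [Finite ↥(D.group L)] (h : H21.SN.R69 ↥(D.group F)) : H21.SN.R69 ↥(D.group L) :=
  h.congr (Cfsg.Agent.ChevalleyStructure.FieldIso.groupEquiv D φ).symm

/-- **the row of `G₂(3)`** (S3831) -/
theorem r69_G2 {F : Type} [Field F] [Fintype F] (hF : Fintype.card F = 3) [IsSimpleGroup ↥(chevG2.group F)] :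
    H21.SN.R69 ↥(chevG2.group F) := by
  have h3 : Fintype.card (ZMod 3) = Fintype.card F := by rw [hF]; rfl
  let φ : ZMod 3 ≃+* F := FiniteField.ringEquivOfCardEq h3
  have : Finite ↥(chevG2.group F) := inferInstance
  have : Finite ↥(chevG2.group (ZMod 3)) := inferInstance
  exact congrD chevG2 φ G23.row

end Cfsg.Agent.H126.SNX
end
end

-- part: H234/SN/Omega
section
prune_inst 0x24005004400000000000000000001c42a20000000008800000800a000688284200000021802000000080000420300048110000000200000000000000011800800000000000000000000000000000000000000000000000000000000000000000000000000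
set_option linter.all false
open scoped Cfsg.Agent.FastGrp

-- part: H234/SN/Base
section
/-!
# Frames: restriction of isometries to sections over the field with three elements (helper234, S3831 E4)

* `not_solvable_of_orders` : two elements of coprime orders whose product has a third coprime order;
* `RelT b R` : the pairs (linear automorphism, matrix over `ZMod 3`) acting in the same way on the vectors `b` modulo `R`;
* `Fr` : vectors with a given Gram matrix; `Fr.siegel` : Siegel transformations with a given matrix;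
* `solvable_of_frame`.
-/

set_option autoImplicit false
set_option linter.unusedSectionVars false

namespace Cfsg.Agent.H234.SN

open QuadraticMap Module Subgroup Matrix
open Cfsg.Agent.LieClassical.OrthCore

/-! ### Solvability -/

theorem sol_of_le {G : Type*} [Group G] {H K : Subgroup G} (h : H ≤ K) (hK : Group.IsSolvable K) :
    Group.IsSolvable H :=
  Group.isSolvable_of_isSolvable_injective (f := Subgroup.inclusion h) (Subgroup.inclusion_injective h)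

theorem not_solvable_of_orders {G : Type*} [Group G] {a b : G} {p q r : ℕ}
    (hpq : p.Coprime q) (hpr : p.Coprime r) (hqr : q.Coprime r)
    (ha : a ^ p = 1) (hb : b ^ q = 1) (hab : (a * b) ^ r = 1) (h1 : a ≠ 1)
    {H : Subgroup G} (haH : a ∈ H) (hbH : b ∈ H) : ¬ Group.IsSolvable H := by
  intro hs
  let S : Subgroup G := _root_.Subgroup.closure {a, b}
  have hSH : S ≤ H := by
    rw [closure_le]
    rintro x (rfl | rfl)
    · exact haH
    · exact hbH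
  have hS : Group.IsSolvable S :=
    Group.isSolvable_of_isSolvable_injective (f := Subgroup.inclusion hSH) (Subgroup.inclusion_injective hSH)
  have haS : a ∈ S := _root_.Subgroup.subset_closure (Or.inl rfl)
  have hbS : b ∈ S := _root_.Subgroup.subset_closure (Or.inr rfl)
  let a' : S := ⟨a, haS⟩
  let b' : S := ⟨b, hbS⟩
  have ha' : a' ^ p = 1 := Subtype.ext ha
  have hb' : b' ^ q = 1 := Subtype.ext hb
  have hab' : (a' * b') ^ r = 1 := Subtype.ext hab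
  have key : ∀ {x y : Abelianization S} {p q r : ℕ}, p.Coprime q → p.Coprime r → x ^ p = 1 → y ^ q = 1 →
      (x * y) ^ r = 1 → x = 1 := by
    intro x y p q r hpq hpr hx hy hxy
    have h2 : x ^ (r * q) = 1 := by
      have h3 : (x * y) ^ (r * q) = 1 := by rw [pow_mul, hxy, one_pow]
      rw [mul_pow, mul_comm r q, pow_mul y, hy, one_pow, mul_one] at h3
      rw [mul_comm r q]
      exact h3
    have h4 : orderOf x ∣ p := orderOf_dvd_of_pow_eq_one hx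
    have h5 : orderOf x ∣ r * q := orderOf_dvd_of_pow_eq_one h2
    have h6 : orderOf x ∣ 1 := by
      rw [← Nat.Coprime.gcd_eq_one (Nat.Coprime.mul_right hpr hpq)]
      exact Nat.dvd_gcd h4 h5
    rw [← orderOf_eq_one_iff]
    exact Nat.dvd_one.1 h6
  have hxa : Abelianization.of a' ^ p = 1 := by rw [← map_pow, ha', map_one]
  have hxb : Abelianization.of b' ^ q = 1 := by rw [← map_pow, hb', map_one]
  have hxab : (Abelianization.of a' * Abelianization.of b') ^ r = 1 := by rw [← map_mul, ← map_pow, hab', map_one]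
  have hA : Abelianization.of a' = 1 := key hpq hpr hxa hxb hxab
  have hB : Abelianization.of b' = 1 := key hpq.symm hqr hxb hxa (by rw [mul_comm]; exact hxab)
  have hker : ∀ z : S, Abelianization.of z = 1 → z ∈ commutator S := by
    intro z hz
    exact (QuotientGroup.eq_one_iff z).1 hz
  have hcl : _root_.Subgroup.closure ({a', b'} : Set S) = ⊤ := by
    have h2 : (_root_.Subgroup.closure ({a', b'} : Set S)).map S.subtype = S := by
      rw [MonoidHom.map_closure]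
      have h3 : (S.subtype '' {a', b'}) = {a, b} := by
        rw [Set.image_pair]
        rfl
      rw [h3]
    apply Subgroup.map_injective S.subtype_injective
    rw [h2, ← MonoidHom.range_eq_map, Subgroup.range_subtype]
  have htop : commutator S = ⊤ := by
    rw [eq_top_iff, ← hcl, closure_le]
    rintro x (rfl | rfl)
    · exact hker _ hA
    · exact hker _ hB
  have hperf : Group.IsPerfect S := ⟨htop⟩
  have hnt : Nontrivial S := ⟨⟨a', 1, fun h => h1 (congrArg Subtype.val h)⟩⟩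
  exact Group.IsPerfect.not_isSolvable _ hS

theorem closure_transfer {G L : Type*} [Group G] [Group L] (T : Subgroup (G × L))
    (hT : ∀ b, ((1 : G), b) ∈ T → b = 1) {g g' : G} {A A' : L} (h : (g, A) ∈ T) (h' : (g', A') ∈ T)
    (hs : Group.IsSolvable (closure {g, g'})) : Group.IsSolvable (closure {A, A'}) := by
  set S : Subgroup (G × L) := _root_.Subgroup.closure {(g, A), (g', A')} with hS
  have hST : S ≤ T := by
    rw [hS, closure_le]
    rintro x (rfl | rfl)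
    · exact h
    · exact h'
  have h1 : S.map (MonoidHom.fst G L) = _root_.Subgroup.closure {g, g'} := by
    rw [hS, MonoidHom.map_closure, Set.image_pair]
    rfl
  have h2 : S.map (MonoidHom.snd G L) = _root_.Subgroup.closure {A, A'} := by
    rw [hS, MonoidHom.map_closure, Set.image_pair]
    rfl
  have hsol : Group.IsSolvable S := by
    let φ : S →* ↥(S.map (MonoidHom.fst G L)) :=
      ((MonoidHom.fst G L).comp S.subtype).codRestrict _ fun s => ⟨s, s.2, rfl⟩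
    have h3 : Group.IsSolvable ↥(S.map (MonoidHom.fst G L)) := by rw [h1]; exact hs
    refine Group.isSolvable_of_isSolvable_injective (f := φ) ?_
    rw [← MonoidHom.ker_eq_bot_iff, eq_bot_iff]
    rintro ⟨⟨a, b⟩, hab⟩ h4
    have ha : a = 1 := congrArg Subtype.val (MonoidHom.mem_ker.1 h4)
    subst ha
    rw [mem_bot]
    apply Subtype.ext
    exact Prod.ext rfl (hT b (hST hab))
  rw [← h2]
  let ψ : S →* ↥(S.map (MonoidHom.snd G L)) :=
    ((MonoidHom.snd G L).comp S.subtype).codRestrict _ fun s => ⟨s, s.2, rfl⟩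
  refine Group.isSolvable_of_surjective (f := ψ) ?_
  rintro ⟨_, ⟨s, hs', rfl⟩⟩
  exact ⟨⟨s, hs'⟩, rfl⟩

/-! ### The relation with matrices -/

section Rel

variable {F V : Type*} [Field F] [CharP F 3] [AddCommGroup V] [Module F V] {n : ℕ}

/-- the embedding of the prime field -/
noncomputable def ph (F : Type*) [Field F] [CharP F 3] : ZMod 3 →+* F := ZMod.castHom (dvd_refl 3) F

/-- linear combinations with coefficients in the prime field -/
noncomputable def comb (b : Fin n → V) (a : Fin n → ZMod 3) : V := ∑ i, ph F (a i) • b i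

variable (F) in
theorem comb_add (b : Fin n → V) (a c : Fin n → ZMod 3) :
    comb (F := F) b (a + c) = comb (F := F) b a + comb (F := F) b c := by
  unfold comb
  rw [← Finset.sum_add_distrib]
  refine Finset.sum_congr rfl fun i _ => ?_
  rw [Pi.add_apply, map_add, add_smul]

variable (F) in
theorem comb_neg (b : Fin n → V) (a : Fin n → ZMod 3) : comb (F := F) b (-a) = -comb (F := F) b a := by
  unfold comb
  rw [← Finset.sum_neg_distrib]
  refine Finset.sum_congr rfl fun i _ => ?_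
  rw [Pi.neg_apply, map_neg, neg_smul]

variable (F) in
theorem comb_sub (b : Fin n → V) (a c : Fin n → ZMod 3) :
    comb (F := F) b (a - c) = comb (F := F) b a - comb (F := F) b c := by
  rw [sub_eq_add_neg, comb_add, comb_neg, ← sub_eq_add_neg]

variable (F) in
theorem comb_smul (b : Fin n → V) (t : ZMod 3) (a : Fin n → ZMod 3) :
    comb (F := F) b (t • a) = ph F t • comb (F := F) b a := by
  unfold comb
  rw [Finset.smul_sum]
  refine Finset.sum_congr rfl fun i _ => ?_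
  rw [Pi.smul_apply, smul_eq_mul, map_mul, mul_smul]

/-- the pairs acting in the same way on `b` modulo `R` -/
def RelT (b : Fin n → V) (R : Submodule F V) : Subgroup ((V ≃ₗ[F] V) × (Matrix (Fin n) (Fin n) (ZMod 3))ˣ) where
  carrier := {p | (∀ a : Fin n → ZMod 3, p.1 (comb (F := F) b a) - comb (F := F) b (p.2.1 *ᵥ a) ∈ R) ∧
    ∀ r, p.1 r ∈ R ↔ r ∈ R}
  one_mem' := by
    refine ⟨fun a => ?_, fun r => Iff.rfl⟩
    have h1 : (1 : V ≃ₗ[F] V) (comb (F := F) b a) - comb (F := F) b ((1 : Matrix (Fin n) (Fin n) (ZMod 3)) *ᵥ a) = 0 := by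
      rw [one_mulVec]
      exact sub_self _
    change (1 : V ≃ₗ[F] V) (comb (F := F) b a) - comb (F := F) b ((1 : Matrix (Fin n) (Fin n) (ZMod 3)) *ᵥ a) ∈ R
    rw [h1]
    exact R.zero_mem
  mul_mem' := by
    rintro ⟨g, A⟩ ⟨h, B⟩ ⟨h1, h2⟩ ⟨h3, h4⟩
    refine ⟨fun a => ?_, fun r => (h2 _).trans (h4 r)⟩
    have e1 := (h2 _).2 (h3 a)
    have e2 := h1 (B.1 *ᵥ a)
    have e3 : (g * h) (comb (F := F) b a) - comb (F := F) b ((A * B).1 *ᵥ a) =
        g (h (comb (F := F) b a) - comb (F := F) b (B.1 *ᵥ a)) +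
          (g (comb (F := F) b (B.1 *ᵥ a)) - comb (F := F) b (A.1 *ᵥ (B.1 *ᵥ a))) := by
      rw [map_sub, Units.val_mul, ← mulVec_mulVec]
      change g (h (comb (F := F) b a)) - _ = _
      abel
    change (g * h) (comb (F := F) b a) - comb (F := F) b ((A * B).1 *ᵥ a) ∈ R
    rw [e3]
    exact R.add_mem e1 e2
  inv_mem' := by
    rintro ⟨g, A⟩ ⟨h1, h2⟩
    have h0 : ∀ r, g (g⁻¹ r) = r := fun r => g.apply_symm_apply r
    refine ⟨fun a => ?_, fun r => ?_⟩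
    · rw [← h2]
      have e1 := h1 (A⁻¹.1 *ᵥ a)
      have e2 : g ((g⁻¹ (comb (F := F) b a)) - comb (F := F) b (A⁻¹.1 *ᵥ a)) =
          -(g (comb (F := F) b (A⁻¹.1 *ᵥ a)) - comb (F := F) b (A.1 *ᵥ (A⁻¹.1 *ᵥ a))) := by
        rw [map_sub, h0, mulVec_mulVec, Units.mul_inv, one_mulVec]
        abel
      change g ((g⁻¹ (comb (F := F) b a)) - comb (F := F) b (A⁻¹.1 *ᵥ a)) ∈ R
      rw [e2]
      exact R.neg_mem e1
    · change g⁻¹ r ∈ R ↔ r ∈ R
      rw [← h2, h0]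

/-- it is enough to check the vectors `b j` -/
theorem mem_RelT_of {b : Fin n → V} {R : Submodule F V} {g : V ≃ₗ[F] V} {A : (Matrix (Fin n) (Fin n) (ZMod 3))ˣ}
    (h : ∀ j, g (b j) - ∑ i, ph F (A.1 i j) • b i ∈ R) (h2 : ∀ r, g r ∈ R ↔ r ∈ R) : (g, A) ∈ RelT b R := by
  refine ⟨fun a => ?_, h2⟩
  have e : g (comb (F := F) b a) - comb (F := F) b (A.1 *ᵥ a) =
      ∑ j, ph F (a j) • (g (b j) - ∑ i, ph F (A.1 i j) • b i) := by
    unfold comb
    simp only [smul_sub, Finset.sum_sub_distrib, map_sum, map_smul]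
    congr 1
    simp only [Finset.smul_sum]
    rw [Finset.sum_comm]
    refine Finset.sum_congr rfl fun i _ => ?_
    rw [mulVec, dotProduct, map_sum, Finset.sum_smul]
    refine Finset.sum_congr rfl fun j _ => ?_
    rw [map_mul, smul_smul, mul_comm]
  change g (comb (F := F) b a) - comb (F := F) b (A.1 *ᵥ a) ∈ R
  rw [e]
  exact R.sum_mem fun j _ => R.smul_mem _ (h j)

theorem RelT_inj {b : Fin n → V} {R : Submodule F V} (hind : ∀ a : Fin n → ZMod 3, comb (F := F) b a ∈ R → a = 0)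
    (B : (Matrix (Fin n) (Fin n) (ZMod 3))ˣ) (h : ((1 : V ≃ₗ[F] V), B) ∈ RelT b R) : B = 1 := by
  apply Units.ext
  rw [Units.val_one]
  apply Matrix.ext_of_mulVec_single
  intro j
  have h1 := h.1 (Pi.single j 1)
  change comb (F := F) b (Pi.single j 1) - comb (F := F) b (B.1 *ᵥ (Pi.single j 1)) ∈ R at h1
  rw [← comb_sub] at h1
  rw [one_mulVec]
  exact (sub_eq_zero.1 (hind _ h1)).symm

/-- **conclusion for a frame** -/
theorem solvable_of_frame {b : Fin n → V} {R : Submodule F V}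
    (hind : ∀ a : Fin n → ZMod 3, comb (F := F) b a ∈ R → a = 0) {g k : V ≃ₗ[F] V}
    {A K : (Matrix (Fin n) (Fin n) (ZMod 3))ˣ} (hg : (g, A) ∈ RelT b R) (hk : (k, K) ∈ RelT b R)
    (hs : Group.IsSolvable (Subgroup.closure {g, k * g * k⁻¹})) :
    Group.IsSolvable (Subgroup.closure {A, K * A * K⁻¹}) := by
  have h1 : (k * g * k⁻¹, K * A * K⁻¹) ∈ RelT b R := by
    have h2 := (RelT b R).mul_mem ((RelT b R).mul_mem hk hg) ((RelT b R).inv_mem hk)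
    rwa [Prod.mk_mul_mk, Prod.inv_mk, Prod.mk_mul_mk] at h2
  exact closure_transfer (RelT b R) (RelT_inj hind) hg h1 hs

end Rel

/-! ### Frames -/

section Frame

variable {F V : Type*} [Field F] [CharP F 3] [AddCommGroup V] [Module F V] {n : ℕ} {Q : QuadraticForm F V}

/-- vectors with Gram matrix `δ G` orthogonal to `R` -/
structure Fr (Q : QuadraticForm F V) (b : Fin n → V) (R : Submodule F V) (δ : F)
    (G : Matrix (Fin n) (Fin n) (ZMod 3)) : Prop where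
  dd : δ * δ = 1
  gram : ∀ i j, polar Q (b i) (b j) = δ * ph F (G i j)
  orth : ∀ i, ∀ r ∈ R, polar Q (b i) r = 0

theorem three_eq_zero (F : Type*) [Field F] [CharP F 3] : (3 : F) = 0 := by
  have h := CharP.cast_eq_zero F 3
  exact_mod_cast h

theorem polar_sum_left {ι : Type*} (s : Finset ι) (f : ι → V) (y : V) :
    polar Q (∑ i ∈ s, f i) y = ∑ i ∈ s, polar Q (f i) y := by
  classical
  induction s using Finset.induction_on with
  | empty => simp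
  | insert a s ha ih => rw [Finset.sum_insert ha, Finset.sum_insert ha, polar_add_left, ih]

theorem polar_comb_left (b : Fin n → V) (a : Fin n → ZMod 3) (y : V) :
    polar Q (comb (F := F) b a) y = ∑ i, ph F (a i) * polar Q (b i) y := by
  unfold comb
  rw [polar_sum_left]
  refine Finset.sum_congr rfl fun i _ => ?_
  rw [polar_smul_left, smul_eq_mul]

theorem Fr.polar_comb_b {b : Fin n → V} {R : Submodule F V} {δ : F} {G : Matrix (Fin n) (Fin n) (ZMod 3)}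
    (h : Fr Q b R δ G) (a : Fin n → ZMod 3) (j : Fin n) :
    polar Q (comb (F := F) b a) (b j) = δ * ph F ((a ᵥ* G) j) := by
  rw [polar_comb_left]
  simp only [h.gram]
  rw [vecMul, dotProduct, map_sum, Finset.mul_sum]
  refine Finset.sum_congr rfl fun i _ => ?_
  rw [map_mul]
  ring

theorem Fr.polar_comb {b : Fin n → V} {R : Submodule F V} {δ : F} {G : Matrix (Fin n) (Fin n) (ZMod 3)}
    (h : Fr Q b R δ G) (a c : Fin n → ZMod 3) :
    polar Q (comb (F := F) b a) (comb (F := F) b c) = δ * ph F ((a ᵥ* G) ⬝ᵥ c) := by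
  rw [polar_comm, polar_comb_left]
  have h1 : ∀ i, polar Q (b i) (comb (F := F) b a) = δ * ph F ((a ᵥ* G) i) := fun i => by
    rw [polar_comm, h.polar_comb_b]
  simp only [h1]
  rw [dotProduct, map_sum, Finset.mul_sum]
  refine Finset.sum_congr rfl fun i _ => ?_
  rw [map_mul]
  ring

theorem Fr.orth_comb {b : Fin n → V} {R : Submodule F V} {δ : F} {G : Matrix (Fin n) (Fin n) (ZMod 3)}
    (h : Fr Q b R δ G) (a : Fin n → ZMod 3) {r : V} (hr : r ∈ R) : polar Q (comb (F := F) b a) r = 0 := by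
  rw [polar_comb_left]
  refine Finset.sum_eq_zero fun i _ => ?_
  rw [h.orth i r hr, mul_zero]

theorem ph_injective (F : Type*) [Field F] [CharP F 3] : Function.Injective (ph F) :=
  (ph F).injective

theorem Fr.ind {b : Fin n → V} {R : Submodule F V} {δ : F} {G : Matrix (Fin n) (Fin n) (ZMod 3)}
    (h : Fr Q b R δ G) {G' : Matrix (Fin n) (Fin n) (ZMod 3)} (hG : G * G' = 1) (a : Fin n → ZMod 3)
    (ha : comb (F := F) b a ∈ R) : a = 0 := by
  have h1 : a ᵥ* G = 0 := by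
    funext j
    have h2 := h.orth j _ ha
    rw [polar_comm, h.polar_comb_b] at h2
    have h3 : δ ≠ 0 := by
      rintro rfl
      have := h.dd
      rw [mul_zero] at this
      exact zero_ne_one this
    have h4 := (mul_eq_zero.1 h2).resolve_left h3
    exact (map_eq_zero_iff _ (ph_injective F)).1 h4
  have h2 : (a ᵥ* G) ᵥ* G' = a := by rw [vecMul_vecMul, hG, vecMul_one]
  rw [h1, zero_vecMul] at h2
  exact h2.symm

theorem Q_eq_two_polar (x : V) : Q x = 2 * polar Q x x := by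
  have h := polar_self' (Q := Q) x
  rw [h]
  linear_combination (-(Q x)) * three_eq_zero F

/-- the matrix of a Siegel transformation -/
def SM (G : Matrix (Fin n) (Fin n) (ZMod 3)) (u w : Fin n → ZMod 3) : Matrix (Fin n) (Fin n) (ZMod 3) :=
  fun i j => (1 : Matrix (Fin n) (Fin n) (ZMod 3)) i j + (u ᵥ* G) j * w i - (w ᵥ* G) j * u i -
    2 * ((w ᵥ* G) ⬝ᵥ w) * (u ᵥ* G) j * u i

theorem comb_single (b : Fin n → V) (j : Fin n) : comb (F := F) b (Pi.single j 1) = b j := by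
  unfold comb
  rw [Finset.sum_eq_single j]
  · rw [Pi.single_eq_same, map_one, one_smul]
  · intro i _ hi
    rw [Pi.single_eq_of_ne hi, map_zero, zero_smul]
  · intro h
    exact absurd (Finset.mem_univ j) h

/-- **Siegel transformations of a frame** -/
theorem Fr.exists_siegel {b : Fin n → V} {R : Submodule F V} {δ : F} {G : Matrix (Fin n) (Fin n) (ZMod 3)}
    (h : Fr Q b R δ G) (u w : Fin n → ZMod 3) (hu : (u ᵥ* G) ⬝ᵥ u = 0) (huw : (u ᵥ* G) ⬝ᵥ w = 0)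
    (A : (Matrix (Fin n) (Fin n) (ZMod 3))ˣ) (hA : A.1 = SM G u w) : ∃ k ∈ E Q, (k, A) ∈ RelT b R := by
  set U := comb (F := F) b u with hU
  set W := δ • comb (F := F) b w with hW
  have hQU : Q U = 0 := by
    rw [Q_eq_two_polar, h.polar_comb, hu, map_zero, mul_zero, mul_zero]
  have hUW : polar Q U W = 0 := by
    rw [hW, polar_smul_right, h.polar_comb, huw, map_zero, mul_zero, smul_zero]
  refine ⟨siegel Q U W hQU hUW, siegel_mem_E _ _, mem_RelT_of (fun j => ?_) fun r => ?_⟩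
  · have e1 : polar Q U (b j) = δ * ph F ((u ᵥ* G) j) := h.polar_comb_b _ _
    have e2 : polar Q W (b j) = ph F ((w ᵥ* G) j) := by
      rw [hW, polar_smul_left, h.polar_comb_b, smul_eq_mul, ← mul_assoc, h.dd, one_mul]
    have e3 : Q W = 2 * (δ * ph F ((w ᵥ* G) ⬝ᵥ w)) := by
      rw [Q_eq_two_polar, hW, polar_smul_left, polar_smul_right, h.polar_comb]
      simp only [smul_eq_mul]
      linear_combination (2 * δ * ph F ((w ᵥ* G) ⬝ᵥ w)) * h.dd
    have e4 : ∑ i, ph F (A.1 i j) • b i = b j + ph F ((u ᵥ* G) j) • comb (F := F) b w -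
        ph F ((w ᵥ* G) j) • U - (2 * ph F ((w ᵥ* G) ⬝ᵥ w) * ph F ((u ᵥ* G) j)) • U := by
      have e5 : ∑ i, ph F (A.1 i j) • b i = comb (F := F) b (Pi.single j 1 + (u ᵥ* G) j • w -
          (w ᵥ* G) j • u - (2 * ((w ᵥ* G) ⬝ᵥ w) * (u ᵥ* G) j) • u) := by
        unfold comb
        refine Finset.sum_congr rfl fun i _ => ?_
        congr 2
        rw [hA, SM]
        simp only [Pi.sub_apply, Pi.add_apply, Pi.smul_apply, smul_eq_mul, Matrix.one_apply, Pi.single_apply]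
      rw [e5, comb_sub, comb_sub, comb_add, comb_smul, comb_smul, comb_smul, comb_single, map_mul, map_mul,
        map_ofNat]
    rw [e4, siegel_apply, e1, e2, e3, hW]
    have e6 : b j + (δ * ph F ((u ᵥ* G) j)) • δ • comb (F := F) b w - ph F ((w ᵥ* G) j) • U -
        (2 * (δ * ph F ((w ᵥ* G) ⬝ᵥ w)) * (δ * ph F ((u ᵥ* G) j))) • U -
        (b j + ph F ((u ᵥ* G) j) • comb (F := F) b w - ph F ((w ᵥ* G) j) • U -
          (2 * ph F ((w ᵥ* G) ⬝ᵥ w) * ph F ((u ᵥ* G) j)) • U) = 0 := by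
      have e7 : (δ * ph F ((u ᵥ* G) j)) • δ • comb (F := F) b w = ph F ((u ᵥ* G) j) • comb (F := F) b w := by
        rw [smul_smul]
        congr 1
        linear_combination (ph F ((u ᵥ* G) j)) * h.dd
      have e8 : 2 * (δ * ph F ((w ᵥ* G) ⬝ᵥ w)) * (δ * ph F ((u ᵥ* G) j)) =
          2 * ph F ((w ᵥ* G) ⬝ᵥ w) * ph F ((u ᵥ* G) j) := by
        linear_combination (2 * ph F ((w ᵥ* G) ⬝ᵥ w) * ph F ((u ᵥ* G) j)) * h.dd
      rw [e7, e8, sub_self]
    rw [e6]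
    exact R.zero_mem
  · have hfix : ∀ r ∈ R, siegel Q U W hQU hUW r = r := by
      intro r hr
      have e1 : polar Q U r = 0 := h.orth_comb u hr
      have e2 : polar Q W r = 0 := by rw [hW, polar_smul_left, h.orth_comb w hr, smul_zero]
      rw [siegel_apply, e1, e2]
      simp
    constructor
    · intro hr
      have h1 := hfix _ hr
      rwa [← (siegel Q U W hQU hUW).injective h1]
    · intro hr
      rw [hfix r hr]
      exact hr

theorem exists_mul {b : Fin n → V} {R : Submodule F V} {A B C : (Matrix (Fin n) (Fin n) (ZMod 3))ˣ}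
    (hA : ∃ k ∈ E Q, (k, A) ∈ RelT b R) (hB : ∃ k ∈ E Q, (k, B) ∈ RelT b R) (hC : C = A * B) :
    ∃ k ∈ E Q, (k, C) ∈ RelT b R := by
  obtain ⟨k, hk, h1⟩ := hA
  obtain ⟨l, hl, h2⟩ := hB
  exact ⟨k * l, mul_mem hk hl, by rw [hC]; exact (mul_mem h1 h2 :)⟩

/-- the matrix of a transvection -/
def TM (a f : Fin n → ZMod 3) : Matrix (Fin n) (Fin n) (ZMod 3) :=
  fun i j => (1 : Matrix (Fin n) (Fin n) (ZMod 3)) i j + a i * f j

/-- totally singular frames: transvections -/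
theorem exists_transvection {b : Fin n → V} (hb : ∀ i j, polar Q (b i) (b j) = 0)
    (hd : ∀ t : Fin n → F, ∃ W : V, ∀ j, polar Q W (b j) = t j) (a f : Fin n → ZMod 3) (haf : a ⬝ᵥ f = 0)
    (A : (Matrix (Fin n) (Fin n) (ZMod 3))ˣ) (hA : A.1 = TM a f) :
    ∃ k ∈ E Q, (k, A) ∈ RelT b (⊥ : Submodule F V) := by
  obtain ⟨W, hW⟩ := hd fun j => -ph F (f j)
  set U := comb (F := F) b a with hU
  have hUb : ∀ j, polar Q U (b j) = 0 := by
    intro j
    rw [hU, polar_comb_left]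
    exact Finset.sum_eq_zero fun i _ => by rw [hb, mul_zero]
  have hQU : Q U = 0 := by
    rw [Q_eq_two_polar, polar_comm]
    conv_lhs => rw [hU]
    rw [polar_comb_left]
    have : ∑ i, ph F (a i) * polar Q (b i) (comb (F := F) b a) = 0 :=
      Finset.sum_eq_zero fun i _ => by rw [polar_comm, ← hU, hUb, mul_zero]
    rw [this, mul_zero]
  have hUW : polar Q U W = 0 := by
    rw [hU, polar_comb_left]
    have h1 : ∀ i, polar Q (b i) W = -ph F (f i) := fun i => by rw [polar_comm, hW]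
    simp only [h1]
    have h2 : ∑ i, ph F (a i) * -ph F (f i) = -ph F (a ⬝ᵥ f) := by
      rw [dotProduct, map_sum, ← Finset.sum_neg_distrib]
      refine Finset.sum_congr rfl fun i _ => ?_
      rw [map_mul]
      ring
    rw [h2, haf, map_zero, neg_zero]
  refine ⟨siegel Q U W hQU hUW, siegel_mem_E _ _, mem_RelT_of (fun j => ?_) fun r => ?_⟩
  · rw [siegel_apply, hUb, hW]
    have e5 : ∑ i, ph F (A.1 i j) • b i = comb (F := F) b (Pi.single j 1 + f j • a) := by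
      unfold comb
      refine Finset.sum_congr rfl fun i _ => ?_
      congr 2
      rw [hA, TM]
      simp only [Pi.add_apply, Pi.smul_apply, smul_eq_mul, Matrix.one_apply, Pi.single_apply]
      ring
    rw [e5, comb_add, comb_smul, comb_single, ← hU, Submodule.mem_bot]
    rw [mul_zero, zero_smul, zero_smul, add_zero, sub_zero, neg_smul, sub_neg_eq_add, sub_self]
  · rw [Submodule.mem_bot, Submodule.mem_bot]
    exact LinearEquiv.map_eq_zero_iff _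

end Frame

end Cfsg.Agent.H234.SN
end

-- part: H234/SN/Cert
section
/-!
# Explicit pairs over the field with three elements (helper234, S3831 E4; generated by a program)

Every case: an isometry (similitude) `g` given by its matrix in a frame with Gram matrix `G` (or in a totally singular
frame), an element `k` of `E Q` with `⟨g, g ^ k⟩` not solvable.
-/

set_option autoImplicit false
set_option maxRecDepth 100000
set_option linter.unusedVariables false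

namespace Cfsg.Agent.H234.SN

open QuadraticMap Matrix
open Cfsg.Agent.LieClassical.OrthCore

/-! ### case CA -/

namespace CA

/-- Gram matrix -/
def G : Matrix (Fin 4) (Fin 4) (ZMod 3) := !![0, 1, 2, 0; 1, 1, 0, 0; 2, 0, 0, 0; 0, 0, 0, 1]

def G' : Matrix (Fin 4) (Fin 4) (ZMod 3) := !![0, 0, 2, 0; 0, 1, 1, 0; 2, 1, 1, 0; 0, 0, 0, 1]

theorem hG : G * G' = 1 := by decide +kernel

/-- the isometry -/
def g : (Matrix (Fin 4) (Fin 4) (ZMod 3))ˣ :=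
  ⟨!![1, 0, 0, 0; 1, 1, 0, 0; 0, 1, 1, 0; 0, 0, 0, 1], !![1, 0, 0, 0; 2, 1, 0, 0; 1, 2, 1, 0; 0, 0, 0, 1], by decide +kernel, by decide +kernel⟩

def k1 : (Matrix (Fin 4) (Fin 4) (ZMod 3))ˣ :=
  ⟨!![1, 1, 1, 1; 0, 2, 2, 0; 0, 1, 0, 0; 0, 2, 1, 1], !![1, 0, 1, 2; 0, 0, 1, 0; 0, 2, 2, 0; 0, 1, 2, 1], by decide +kernel, by decide +kernel⟩

def k : (Matrix (Fin 4) (Fin 4) (ZMod 3))ˣ := k1

def y : (Matrix (Fin 4) (Fin 4) (ZMod 3))ˣ :=
  ⟨!![2, 0, 2, 2; 2, 1, 1, 1; 1, 0, 2, 2; 2, 0, 0, 2], !![1, 0, 2, 0; 0, 1, 1, 0; 2, 0, 0, 1; 2, 0, 1, 2], by decide +kernel, by decide +kernel⟩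

theorem hy : k * g * k⁻¹ = y := by
  rw [mul_inv_eq_iff_eq_mul]
  exact Units.ext (by decide +kernel)

def al : (Matrix (Fin 4) (Fin 4) (ZMod 3))ˣ := g

theorem al_mem {H : Subgroup (Matrix (Fin 4) (Fin 4) (ZMod 3))ˣ} (hg : g ∈ H) (hy : y ∈ H) : al ∈ H := hg

def be1 : (Matrix (Fin 4) (Fin 4) (ZMod 3))ˣ :=
  ⟨!![2, 0, 2, 2; 2, 1, 1, 1; 1, 0, 2, 2; 2, 0, 0, 2], !![1, 0, 2, 0; 0, 1, 1, 0; 2, 0, 0, 1; 2, 0, 1, 2], by decide +kernel, by decide +kernel⟩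

theorem be1_mem {H : Subgroup (Matrix (Fin 4) (Fin 4) (ZMod 3))ˣ} (hg : g ∈ H) (hy : y ∈ H) : be1 ∈ H := by
  rw [show be1 = y from Units.ext (by decide)]
  exact hy

def be2 : (Matrix (Fin 4) (Fin 4) (ZMod 3))ˣ :=
  ⟨!![1, 1, 2, 2; 2, 0, 1, 1; 0, 1, 2, 2; 2, 0, 0, 2], !![1, 0, 2, 0; 1, 1, 0, 0; 2, 1, 1, 1; 2, 0, 1, 2], by decide +kernel, by decide +kernel⟩

theorem be2_mem {H : Subgroup (Matrix (Fin 4) (Fin 4) (ZMod 3))ˣ} (hg : g ∈ H) (hy : y ∈ H) : be2 ∈ H := by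
  rw [show be2 = be1 * g⁻¹ from eq_mul_inv_of_mul_eq (Units.ext (by decide +kernel))]
  exact mul_mem (be1_mem hg hy) (inv_mem hg)

def be : (Matrix (Fin 4) (Fin 4) (ZMod 3))ˣ :=
  ⟨!![1, 1, 1, 2; 1, 0, 0, 2; 2, 1, 2, 0; 2, 0, 1, 2], !![2, 2, 1, 2; 0, 2, 1, 1; 1, 0, 2, 2; 2, 1, 1, 2], by decide +kernel, by decide +kernel⟩

theorem be_mem {H : Subgroup (Matrix (Fin 4) (Fin 4) (ZMod 3))ˣ} (hg : g ∈ H) (hy : y ∈ H) : be ∈ H := by
  rw [show be = be2 * y from Units.ext (by decide +kernel)]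
  exact mul_mem (be2_mem hg hy) hy

def ga : (Matrix (Fin 4) (Fin 4) (ZMod 3))ˣ :=
  ⟨!![1, 1, 1, 2; 2, 1, 1, 1; 0, 1, 2, 2; 2, 0, 1, 2], !![1, 1, 1, 2; 2, 1, 1, 1; 0, 1, 2, 2; 2, 0, 1, 2], by decide +kernel, by decide +kernel⟩

theorem hga : al * be = ga := Units.ext (by decide +kernel)

def alp2 : (Matrix (Fin 4) (Fin 4) (ZMod 3))ˣ :=
  ⟨!![1, 0, 0, 0; 2, 1, 0, 0; 1, 2, 1, 0; 0, 0, 0, 1], !![1, 0, 0, 0; 1, 1, 0, 0; 0, 1, 1, 0; 0, 0, 0, 1], by decide +kernel, by decide +kernel⟩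

theorem al_pow : al ^ 3 = 1 := by
  have h1 : al ^ 1 = al := pow_one _
  have h2 : al ^ 2 = alp2 := by rw [pow_succ, h1]; exact Units.ext (by decide +kernel)
  rw [pow_succ, h2]
  exact Units.ext (by decide +kernel)

def bep2 : (Matrix (Fin 4) (Fin 4) (ZMod 3))ˣ :=
  ⟨!![2, 2, 2, 2; 2, 1, 0, 0; 1, 1, 0, 0; 2, 0, 0, 2], !![0, 1, 2, 0; 0, 2, 2, 0; 2, 1, 1, 1; 0, 2, 1, 2], by decide +kernel, by decide +kernel⟩

def bep3 : (Matrix (Fin 4) (Fin 4) (ZMod 3))ˣ :=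
  ⟨!![0, 1, 2, 0; 0, 2, 2, 0; 2, 1, 1, 1; 0, 2, 1, 2], !![2, 2, 2, 2; 2, 1, 0, 0; 1, 1, 0, 0; 2, 0, 0, 2], by decide +kernel, by decide +kernel⟩

def bep4 : (Matrix (Fin 4) (Fin 4) (ZMod 3))ˣ :=
  ⟨!![2, 2, 1, 2; 0, 2, 1, 1; 1, 0, 2, 2; 2, 1, 1, 2], !![1, 1, 1, 2; 1, 0, 0, 2; 2, 1, 2, 0; 2, 0, 1, 2], by decide +kernel, by decide +kernel⟩

theorem be_pow : be ^ 5 = 1 := by
  have h1 : be ^ 1 = be := pow_one _
  have h2 : be ^ 2 = bep2 := by rw [pow_succ, h1]; exact Units.ext (by decide +kernel)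
  have h3 : be ^ 3 = bep3 := by rw [pow_succ, h2]; exact Units.ext (by decide +kernel)
  have h4 : be ^ 4 = bep4 := by rw [pow_succ, h3]; exact Units.ext (by decide +kernel)
  rw [pow_succ, h4]
  exact Units.ext (by decide +kernel)

theorem ga_pow : ga ^ 2 = 1 := by
  have h1 : ga ^ 1 = ga := pow_one _
  rw [pow_succ, h1]
  exact Units.ext (by decide +kernel)

theorem al_ne : al ≠ 1 := by
  intro h
  have h1 := congrArg Units.val h
  revert h1
  decide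

/-- **not solvable** -/
theorem not_solvable : ¬ Group.IsSolvable (Subgroup.closure ({g, k * g * k⁻¹} : Set (Matrix (Fin 4) (Fin 4) (ZMod 3))ˣ)) := by
  have hg : g ∈ Subgroup.closure ({g, k * g * k⁻¹} : Set (Matrix (Fin 4) (Fin 4) (ZMod 3))ˣ) := Subgroup.subset_closure (Or.inl rfl)
  have hy' : y ∈ Subgroup.closure ({g, k * g * k⁻¹} : Set (Matrix (Fin 4) (Fin 4) (ZMod 3))ˣ) := by
    rw [← hy]
    exact Subgroup.subset_closure (Or.inr rfl)
  exact not_solvable_of_orders (p := 3) (q := 5) (r := 2) (by decide) (by decide) (by decide) al_pow be_pow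
    (by rw [hga]; exact ga_pow) al_ne (al_mem hg hy') (be_mem hg hy')

theorem exists_k {F V : Type*} [Field F] [CharP F 3] [AddCommGroup V] [Module F V] {Q : QuadraticForm F V}
    {b : Fin 4 → V} {R : Submodule F V} {δ : F} (h : Fr Q b R δ G) :
    ∃ l ∈ E Q, (l, k) ∈ RelT b R := by
  exact h.exists_siegel ![2, 0, 0, 0] ![0, 2, 2, 1] (by decide) (by decide) k1 (by decide +kernel)

theorem contra {F V : Type*} [Field F] [CharP F 3] [AddCommGroup V] [Module F V] {Q : QuadraticForm F V}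
    {b : Fin 4 → V} {R : Submodule F V} {δ : F} (h : Fr Q b R δ G)
    {f : V ≃ₗ[F] V} (hh : (f, g) ∈ RelT b R)
    (hP : ∀ l ∈ E Q, Group.IsSolvable (Subgroup.closure {f, l * f * l⁻¹})) : False := by
  obtain ⟨l, hl, hlk⟩ := exists_k h
  exact not_solvable (solvable_of_frame (h.ind hG) hh hlk (hP l hl))

end CA

/-! ### case CB -/

namespace CB

/-- the isometry -/
def g : (Matrix (Fin 4) (Fin 4) (ZMod 3))ˣ :=
  ⟨!![1, 0, 0, 0; 1, 1, 0, 0; 0, 0, 1, 0; 0, 0, 1, 1], !![1, 0, 0, 0; 2, 1, 0, 0; 0, 0, 1, 0; 0, 0, 2, 1], by decide +kernel, by decide +kernel⟩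

def k1 : (Matrix (Fin 4) (Fin 4) (ZMod 3))ˣ :=
  ⟨!![1, 2, 0, 2; 0, 0, 0, 2; 0, 1, 1, 1; 0, 1, 0, 2], !![1, 1, 0, 1; 0, 2, 0, 1; 0, 2, 1, 2; 0, 2, 0, 0], by decide +kernel, by (set_option synthInstance.maxSize 20000 in open scoped Cfsg.Agent.Lib.MatDec in decide +kernel)⟩

def k2 : (Matrix (Fin 4) (Fin 4) (ZMod 3))ˣ :=
  ⟨!![1, 0, 0, 0; 0, 1, 2, 2; 0, 0, 0, 2; 0, 0, 1, 2], !![1, 0, 0, 0; 0, 1, 1, 1; 0, 0, 2, 1; 0, 0, 2, 0], by decide +kernel, by decide +kernel⟩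

def k : (Matrix (Fin 4) (Fin 4) (ZMod 3))ˣ :=
  ⟨!![1, 2, 0, 2; 0, 0, 2, 1; 0, 1, 0, 0; 0, 1, 1, 0], !![1, 1, 0, 1; 0, 0, 1, 0; 0, 0, 2, 1; 0, 1, 2, 1], by decide +kernel, by decide +kernel⟩

theorem hk : k = k1 * k2 := Units.ext (by decide +kernel)

def y : (Matrix (Fin 4) (Fin 4) (ZMod 3))ˣ :=
  ⟨!![0, 2, 1, 1; 0, 1, 2, 1; 1, 1, 1, 1; 1, 1, 0, 2], !![2, 1, 2, 2; 0, 1, 1, 2; 2, 2, 1, 2; 2, 2, 0, 0], by decide +kernel, by decide +kernel⟩

theorem hy : k * g * k⁻¹ = y := by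
  rw [mul_inv_eq_iff_eq_mul]
  exact Units.ext (by decide +kernel)

def al : (Matrix (Fin 4) (Fin 4) (ZMod 3))ˣ := g

theorem al_mem {H : Subgroup (Matrix (Fin 4) (Fin 4) (ZMod 3))ˣ} (hg : g ∈ H) (hy : y ∈ H) : al ∈ H := hg

def be1 : (Matrix (Fin 4) (Fin 4) (ZMod 3))ˣ :=
  ⟨!![1, 0, 0, 0; 1, 1, 0, 0; 0, 0, 1, 0; 0, 0, 1, 1], !![1, 0, 0, 0; 2, 1, 0, 0; 0, 0, 1, 0; 0, 0, 2, 1], by decide +kernel, by decide +kernel⟩

theorem be1_mem {H : Subgroup (Matrix (Fin 4) (Fin 4) (ZMod 3))ˣ} (hg : g ∈ H) (hy : y ∈ H) : be1 ∈ H := by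
  rw [show be1 = g from Units.ext (by decide)]
  exact hg

def be2 : (Matrix (Fin 4) (Fin 4) (ZMod 3))ˣ :=
  ⟨!![0, 2, 1, 1; 0, 0, 0, 2; 1, 1, 1, 1; 2, 2, 1, 0], !![1, 1, 0, 2; 2, 1, 2, 2; 0, 2, 2, 2; 0, 2, 0, 0], by decide +kernel, by decide +kernel⟩

theorem be2_mem {H : Subgroup (Matrix (Fin 4) (Fin 4) (ZMod 3))ˣ} (hg : g ∈ H) (hy : y ∈ H) : be2 ∈ H := by
  rw [show be2 = be1 * y from Units.ext (by decide +kernel)]
  exact mul_mem (be1_mem hg hy) hy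

def be3 : (Matrix (Fin 4) (Fin 4) (ZMod 3))ˣ :=
  ⟨!![2, 2, 2, 1; 0, 0, 2, 2; 2, 1, 2, 1; 1, 2, 1, 0], !![1, 1, 0, 2; 1, 0, 2, 0; 0, 2, 2, 2; 0, 0, 1, 1], by decide +kernel, by decide +kernel⟩

theorem be3_mem {H : Subgroup (Matrix (Fin 4) (Fin 4) (ZMod 3))ˣ} (hg : g ∈ H) (hy : y ∈ H) : be3 ∈ H := by
  rw [show be3 = be2 * g from Units.ext (by decide +kernel)]
  exact mul_mem (be2_mem hg hy) hg

def be : (Matrix (Fin 4) (Fin 4) (ZMod 3))ˣ :=
  ⟨!![0, 0, 2, 2; 1, 1, 2, 0; 0, 2, 0, 1; 1, 2, 0, 1], !![0, 0, 2, 1; 1, 2, 0, 1; 1, 1, 2, 2; 1, 2, 1, 1], by decide +kernel, by decide +kernel⟩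

theorem be_mem {H : Subgroup (Matrix (Fin 4) (Fin 4) (ZMod 3))ˣ} (hg : g ∈ H) (hy : y ∈ H) : be ∈ H := by
  rw [show be = be3 * y from Units.ext (by decide +kernel)]
  exact mul_mem (be3_mem hg hy) hy

def ga : (Matrix (Fin 4) (Fin 4) (ZMod 3))ˣ :=
  ⟨!![0, 0, 2, 2; 1, 1, 1, 2; 0, 2, 0, 1; 1, 1, 0, 2], !![0, 0, 1, 1; 2, 2, 2, 1; 0, 1, 0, 2; 2, 2, 0, 1], by decide +kernel, by decide +kernel⟩

theorem hga : al * be = ga := Units.ext (by decide +kernel)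

def alp2 : (Matrix (Fin 4) (Fin 4) (ZMod 3))ˣ :=
  ⟨!![1, 0, 0, 0; 2, 1, 0, 0; 0, 0, 1, 0; 0, 0, 2, 1], !![1, 0, 0, 0; 1, 1, 0, 0; 0, 0, 1, 0; 0, 0, 1, 1], by decide +kernel, by decide +kernel⟩

theorem al_pow : al ^ 3 = 1 := by
  have h1 : al ^ 1 = al := pow_one _
  have h2 : al ^ 2 = alp2 := by rw [pow_succ, h1]; exact Units.ext (by decide +kernel)
  rw [pow_succ, h2]
  exact Units.ext (by decide +kernel)

def bep2 : (Matrix (Fin 4) (Fin 4) (ZMod 3))ˣ :=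
  ⟨!![2, 2, 0, 1; 1, 2, 1, 1; 0, 1, 1, 1; 0, 1, 0, 0], !![0, 1, 2, 2; 0, 0, 0, 1; 2, 2, 2, 2; 1, 1, 2, 0], by decide +kernel, by decide +kernel⟩

def bep3 : (Matrix (Fin 4) (Fin 4) (ZMod 3))ˣ :=
  ⟨!![0, 1, 2, 2; 0, 0, 0, 1; 2, 2, 2, 2; 1, 1, 2, 0], !![2, 2, 0, 1; 1, 2, 1, 1; 0, 1, 1, 1; 0, 1, 0, 0], by decide +kernel, by decide +kernel⟩

def bep4 : (Matrix (Fin 4) (Fin 4) (ZMod 3))ˣ :=
  ⟨!![0, 0, 2, 1; 1, 2, 0, 1; 1, 1, 2, 2; 1, 2, 1, 1], !![0, 0, 2, 2; 1, 1, 2, 0; 0, 2, 0, 1; 1, 2, 0, 1], by decide +kernel, by decide +kernel⟩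

theorem be_pow : be ^ 5 = 1 := by
  have h1 : be ^ 1 = be := pow_one _
  have h2 : be ^ 2 = bep2 := by rw [pow_succ, h1]; exact Units.ext (by decide +kernel)
  have h3 : be ^ 3 = bep3 := by rw [pow_succ, h2]; exact Units.ext (by decide +kernel)
  have h4 : be ^ 4 = bep4 := by rw [pow_succ, h3]; exact Units.ext (by decide +kernel)
  rw [pow_succ, h4]
  exact Units.ext (by decide +kernel)

def gap2 : (Matrix (Fin 4) (Fin 4) (ZMod 3))ˣ :=
  ⟨!![2, 0, 0, 0; 0, 2, 0, 0; 0, 0, 2, 0; 0, 0, 0, 2], !![2, 0, 0, 0; 0, 2, 0, 0; 0, 0, 2, 0; 0, 0, 0, 2], by decide +kernel, by decide +kernel⟩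

def gap3 : (Matrix (Fin 4) (Fin 4) (ZMod 3))ˣ :=
  ⟨!![0, 0, 1, 1; 2, 2, 2, 1; 0, 1, 0, 2; 2, 2, 0, 1], !![0, 0, 2, 2; 1, 1, 1, 2; 0, 2, 0, 1; 1, 1, 0, 2], by decide +kernel, by decide +kernel⟩

theorem ga_pow : ga ^ 4 = 1 := by
  have h1 : ga ^ 1 = ga := pow_one _
  have h2 : ga ^ 2 = gap2 := by rw [pow_succ, h1]; exact Units.ext (by decide +kernel)
  have h3 : ga ^ 3 = gap3 := by rw [pow_succ, h2]; exact Units.ext (by decide +kernel)
  rw [pow_succ, h3]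
  exact Units.ext (by decide +kernel)

theorem al_ne : al ≠ 1 := by
  intro h
  have h1 := congrArg Units.val h
  revert h1
  decide

/-- **not solvable** -/
theorem not_solvable : ¬ Group.IsSolvable (Subgroup.closure ({g, k * g * k⁻¹} : Set (Matrix (Fin 4) (Fin 4) (ZMod 3))ˣ)) := by
  have hg : g ∈ Subgroup.closure ({g, k * g * k⁻¹} : Set (Matrix (Fin 4) (Fin 4) (ZMod 3))ˣ) := Subgroup.subset_closure (Or.inl rfl)
  have hy' : y ∈ Subgroup.closure ({g, k * g * k⁻¹} : Set (Matrix (Fin 4) (Fin 4) (ZMod 3))ˣ) := by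
    rw [← hy]
    exact Subgroup.subset_closure (Or.inr rfl)
  exact not_solvable_of_orders (p := 3) (q := 5) (r := 4) (by decide) (by decide) (by decide) al_pow be_pow
    (by rw [hga]; exact ga_pow) al_ne (al_mem hg hy') (be_mem hg hy')

theorem exists_k {F V : Type*} [Field F] [CharP F 3] [AddCommGroup V] [Module F V] {Q : QuadraticForm F V}
    {b : Fin 4 → V} (hb : ∀ i j, polar Q (b i) (b j) = 0)
    (hd : ∀ t : Fin 4 → F, ∃ W : V, ∀ j, polar Q W (b j) = t j) :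
    ∃ l ∈ E Q, (l, k) ∈ RelT b (⊥ : Submodule F V) := by
  exact exists_mul (exists_transvection hb hd ![1, 1, 2, 2] ![0, 2, 0, 2] (by decide) k1 (by decide))
    (exists_transvection hb hd ![0, 2, 2, 1] ![0, 0, 1, 1] (by decide) k2 (by decide)) hk

theorem contra {F V : Type*} [Field F] [CharP F 3] [AddCommGroup V] [Module F V] {Q : QuadraticForm F V}
    {b : Fin 4 → V} (hb : ∀ i j, polar Q (b i) (b j) = 0)
    (hd : ∀ t : Fin 4 → F, ∃ W : V, ∀ j, polar Q W (b j) = t j)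
    (hind : ∀ a : Fin 4 → ZMod 3, comb (F := F) b a ∈ (⊥ : Submodule F V) → a = 0)
    {h : V ≃ₗ[F] V} (hh : (h, g) ∈ RelT b (⊥ : Submodule F V))
    (hP : ∀ l ∈ E Q, Group.IsSolvable (Subgroup.closure {h, l * h * l⁻¹})) : False := by
  obtain ⟨l, hl, hlk⟩ := exists_k (Q := Q) hb hd
  exact not_solvable (solvable_of_frame hind hh hlk (hP l hl))

end CB

/-! ### case CC -/

namespace CC

/-- Gram matrix -/
def G : Matrix (Fin 5) (Fin 5) (ZMod 3) := !![0, 0, 2, 0, 1; 0, 0, 1, 2, 0; 2, 1, 1, 0, 0; 0, 2, 0, 0, 0; 1, 0, 0, 0, 0]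

def G' : Matrix (Fin 5) (Fin 5) (ZMod 3) := !![0, 0, 0, 0, 1; 0, 0, 0, 2, 0; 0, 0, 1, 1, 1; 0, 2, 1, 1, 1; 1, 0, 1, 1, 1]

theorem hG : G * G' = 1 := by decide +kernel

/-- the isometry -/
def g : (Matrix (Fin 5) (Fin 5) (ZMod 3))ˣ :=
  ⟨!![1, 0, 0, 0, 0; 1, 1, 0, 0, 0; 0, 1, 1, 0, 0; 0, 0, 1, 1, 0; 0, 0, 0, 1, 1], !![1, 0, 0, 0, 0; 2, 1, 0, 0, 0; 1, 2, 1, 0, 0; 2, 1, 2, 1, 0; 1, 2, 1, 2, 1], by decide +kernel, by decide +kernel⟩

def k1 : (Matrix (Fin 5) (Fin 5) (ZMod 3))ˣ :=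
  ⟨!![2, 0, 1, 2, 0; 2, 2, 2, 0, 2; 2, 0, 0, 1, 0; 0, 0, 0, 1, 0; 2, 1, 2, 0, 0], !![0, 0, 2, 1, 0; 1, 0, 1, 0, 1; 1, 0, 2, 2, 0; 0, 0, 0, 1, 0; 1, 2, 1, 0, 2], by decide +kernel, by decide +kernel⟩

def k : (Matrix (Fin 5) (Fin 5) (ZMod 3))ˣ := k1

def y : (Matrix (Fin 5) (Fin 5) (ZMod 3))ˣ :=
  ⟨!![1, 0, 2, 1, 1; 2, 1, 0, 1, 2; 1, 0, 0, 2, 0; 1, 0, 2, 0, 0; 2, 0, 1, 1, 0], !![0, 0, 1, 1, 1; 1, 1, 1, 1, 2; 0, 0, 1, 0, 1; 0, 0, 0, 1, 1; 1, 0, 0, 1, 2], by decide +kernel, by decide +kernel⟩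

theorem hy : k * g * k⁻¹ = y := by
  rw [mul_inv_eq_iff_eq_mul]
  exact Units.ext (by decide +kernel)

def al : (Matrix (Fin 5) (Fin 5) (ZMod 3))ˣ := g

theorem al_mem {H : Subgroup (Matrix (Fin 5) (Fin 5) (ZMod 3))ˣ} (hg : g ∈ H) (hy : y ∈ H) : al ∈ H := hg

def be1 : (Matrix (Fin 5) (Fin 5) (ZMod 3))ˣ :=
  ⟨!![1, 0, 0, 0, 0; 1, 1, 0, 0, 0; 0, 1, 1, 0, 0; 0, 0, 1, 1, 0; 0, 0, 0, 1, 1], !![1, 0, 0, 0, 0; 2, 1, 0, 0, 0; 1, 2, 1, 0, 0; 2, 1, 2, 1, 0; 1, 2, 1, 2, 1], by decide +kernel, by decide +kernel⟩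

theorem be1_mem {H : Subgroup (Matrix (Fin 5) (Fin 5) (ZMod 3))ˣ} (hg : g ∈ H) (hy : y ∈ H) : be1 ∈ H := by
  rw [show be1 = g from Units.ext (by decide +kernel)]
  exact hg

def be : (Matrix (Fin 5) (Fin 5) (ZMod 3))ˣ :=
  ⟨!![0, 0, 1, 1, 1; 1, 1, 2, 2, 0; 1, 1, 2, 1, 0; 0, 0, 1, 1, 2; 1, 0, 0, 2, 0], !![0, 1, 2, 0, 1; 2, 0, 1, 2, 2; 2, 2, 1, 2, 0; 0, 1, 2, 0, 0; 2, 0, 0, 1, 0], by decide +kernel, by decide +kernel⟩

theorem be_mem {H : Subgroup (Matrix (Fin 5) (Fin 5) (ZMod 3))ˣ} (hg : g ∈ H) (hy : y ∈ H) : be ∈ H := by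
  rw [show be = be1 * y⁻¹ from eq_mul_inv_of_mul_eq (Units.ext (by decide +kernel))]
  exact mul_mem (be1_mem hg hy) (inv_mem hy)

def ga : (Matrix (Fin 5) (Fin 5) (ZMod 3))ˣ :=
  ⟨!![0, 0, 1, 1, 1; 1, 1, 0, 0, 1; 2, 2, 1, 0, 0; 1, 1, 0, 2, 2; 1, 0, 1, 0, 2], !![2, 1, 0, 2, 1; 0, 2, 1, 0, 2; 2, 0, 2, 2, 0; 1, 2, 2, 0, 0; 1, 1, 2, 1, 0], by decide +kernel, by decide +kernel⟩

theorem hga : al * be = ga := Units.ext (by decide +kernel)

def alp2 : (Matrix (Fin 5) (Fin 5) (ZMod 3))ˣ :=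
  ⟨!![1, 0, 0, 0, 0; 2, 1, 0, 0, 0; 1, 2, 1, 0, 0; 0, 1, 2, 1, 0; 0, 0, 1, 2, 1], !![1, 0, 0, 0, 0; 1, 1, 0, 0, 0; 0, 1, 1, 0, 0; 2, 0, 1, 1, 0; 2, 2, 0, 1, 1], by decide +kernel, by decide +kernel⟩

def alp3 : (Matrix (Fin 5) (Fin 5) (ZMod 3))ˣ :=
  ⟨!![1, 0, 0, 0, 0; 0, 1, 0, 0, 0; 0, 0, 1, 0, 0; 1, 0, 0, 1, 0; 0, 1, 0, 0, 1], !![1, 0, 0, 0, 0; 0, 1, 0, 0, 0; 0, 0, 1, 0, 0; 2, 0, 0, 1, 0; 0, 2, 0, 0, 1], by decide +kernel, by decide +kernel⟩

def alp4 : (Matrix (Fin 5) (Fin 5) (ZMod 3))ˣ :=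
  ⟨!![1, 0, 0, 0, 0; 1, 1, 0, 0, 0; 0, 1, 1, 0, 0; 1, 0, 1, 1, 0; 1, 1, 0, 1, 1], !![1, 0, 0, 0, 0; 2, 1, 0, 0, 0; 1, 2, 1, 0, 0; 1, 1, 2, 1, 0; 2, 1, 1, 2, 1], by decide +kernel, by decide +kernel⟩

def alp5 : (Matrix (Fin 5) (Fin 5) (ZMod 3))ˣ :=
  ⟨!![1, 0, 0, 0, 0; 2, 1, 0, 0, 0; 1, 2, 1, 0, 0; 1, 1, 2, 1, 0; 2, 1, 1, 2, 1], !![1, 0, 0, 0, 0; 1, 1, 0, 0, 0; 0, 1, 1, 0, 0; 1, 0, 1, 1, 0; 1, 1, 0, 1, 1], by decide +kernel, by decide +kernel⟩

def alp6 : (Matrix (Fin 5) (Fin 5) (ZMod 3))ˣ :=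
  ⟨!![1, 0, 0, 0, 0; 0, 1, 0, 0, 0; 0, 0, 1, 0, 0; 2, 0, 0, 1, 0; 0, 2, 0, 0, 1], !![1, 0, 0, 0, 0; 0, 1, 0, 0, 0; 0, 0, 1, 0, 0; 1, 0, 0, 1, 0; 0, 1, 0, 0, 1], by decide +kernel, by decide +kernel⟩

def alp7 : (Matrix (Fin 5) (Fin 5) (ZMod 3))ˣ :=
  ⟨!![1, 0, 0, 0, 0; 1, 1, 0, 0, 0; 0, 1, 1, 0, 0; 2, 0, 1, 1, 0; 2, 2, 0, 1, 1], !![1, 0, 0, 0, 0; 2, 1, 0, 0, 0; 1, 2, 1, 0, 0; 0, 1, 2, 1, 0; 0, 0, 1, 2, 1], by decide +kernel, by decide +kernel⟩

def alp8 : (Matrix (Fin 5) (Fin 5) (ZMod 3))ˣ :=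
  ⟨!![1, 0, 0, 0, 0; 2, 1, 0, 0, 0; 1, 2, 1, 0, 0; 2, 1, 2, 1, 0; 1, 2, 1, 2, 1], !![1, 0, 0, 0, 0; 1, 1, 0, 0, 0; 0, 1, 1, 0, 0; 0, 0, 1, 1, 0; 0, 0, 0, 1, 1], by decide +kernel, by decide +kernel⟩

theorem al_pow : al ^ 9 = 1 := by
  have h1 : al ^ 1 = al := pow_one _
  have h2 : al ^ 2 = alp2 := by rw [pow_succ, h1]; exact Units.ext (by decide +kernel)
  have h3 : al ^ 3 = alp3 := by rw [pow_succ, h2]; exact Units.ext (by decide +kernel)
  have h4 : al ^ 4 = alp4 := by rw [pow_succ, h3]; exact Units.ext (by decide +kernel)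
  have h5 : al ^ 5 = alp5 := by rw [pow_succ, h4]; exact Units.ext (by decide +kernel)
  have h6 : al ^ 6 = alp6 := by rw [pow_succ, h5]; exact Units.ext (by decide +kernel)
  have h7 : al ^ 7 = alp7 := by rw [pow_succ, h6]; exact Units.ext (by decide +kernel)
  have h8 : al ^ 8 = alp8 := by rw [pow_succ, h7]; exact Units.ext (by decide +kernel)
  rw [pow_succ, h8]
  exact Units.ext (by decide +kernel)

def bep2 : (Matrix (Fin 5) (Fin 5) (ZMod 3))ˣ :=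
  ⟨!![2, 1, 0, 1, 2; 0, 0, 0, 1, 2; 0, 0, 2, 0, 0; 0, 1, 0, 0, 2; 0, 0, 0, 0, 2], !![2, 1, 0, 1, 2; 0, 0, 0, 1, 2; 0, 0, 2, 0, 0; 0, 1, 0, 0, 2; 0, 0, 0, 0, 2], by decide +kernel, by decide +kernel⟩

def bep3 : (Matrix (Fin 5) (Fin 5) (ZMod 3))ˣ :=
  ⟨!![0, 1, 2, 0, 1; 2, 0, 1, 2, 2; 2, 2, 1, 2, 0; 0, 1, 2, 0, 0; 2, 0, 0, 1, 0], !![0, 0, 1, 1, 1; 1, 1, 2, 2, 0; 1, 1, 2, 1, 0; 0, 0, 1, 1, 2; 1, 0, 0, 2, 0], by decide +kernel, by decide +kernel⟩

theorem be_pow : be ^ 4 = 1 := by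
  have h1 : be ^ 1 = be := pow_one _
  have h2 : be ^ 2 = bep2 := by rw [pow_succ, h1]; exact Units.ext (by decide +kernel)
  have h3 : be ^ 3 = bep3 := by rw [pow_succ, h2]; exact Units.ext (by decide +kernel)
  rw [pow_succ, h3]
  exact Units.ext (by decide +kernel)

def gap2 : (Matrix (Fin 5) (Fin 5) (ZMod 3))ˣ :=
  ⟨!![1, 0, 2, 2, 1; 2, 1, 2, 1, 1; 1, 1, 0, 2, 1; 2, 0, 0, 2, 1; 1, 2, 1, 1, 2], !![1, 0, 1, 2, 1; 1, 0, 2, 1, 1; 1, 0, 2, 2, 2; 0, 2, 0, 0, 2; 1, 2, 1, 0, 0], by decide +kernel, by decide +kernel⟩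

def gap3 : (Matrix (Fin 5) (Fin 5) (ZMod 3))ˣ :=
  ⟨!![1, 0, 1, 2, 1; 1, 0, 2, 1, 1; 1, 0, 2, 2, 2; 0, 2, 0, 0, 2; 1, 2, 1, 0, 0], !![1, 0, 2, 2, 1; 2, 1, 2, 1, 1; 1, 1, 0, 2, 1; 2, 0, 0, 2, 1; 1, 2, 1, 1, 2], by decide +kernel, by decide +kernel⟩

def gap4 : (Matrix (Fin 5) (Fin 5) (ZMod 3))ˣ :=
  ⟨!![2, 1, 0, 2, 1; 0, 2, 1, 0, 2; 2, 0, 2, 2, 0; 1, 2, 2, 0, 0; 1, 1, 2, 1, 0], !![0, 0, 1, 1, 1; 1, 1, 0, 0, 1; 2, 2, 1, 0, 0; 1, 1, 0, 2, 2; 1, 0, 1, 0, 2], by decide +kernel, by decide +kernel⟩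

theorem ga_pow : ga ^ 5 = 1 := by
  have h1 : ga ^ 1 = ga := pow_one _
  have h2 : ga ^ 2 = gap2 := by rw [pow_succ, h1]; exact Units.ext (by decide +kernel)
  have h3 : ga ^ 3 = gap3 := by rw [pow_succ, h2]; exact Units.ext (by decide +kernel)
  have h4 : ga ^ 4 = gap4 := by rw [pow_succ, h3]; exact Units.ext (by decide +kernel)
  rw [pow_succ, h4]
  exact Units.ext (by decide +kernel)

theorem al_ne : al ≠ 1 := by
  intro h
  have h1 := congrArg Units.val h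
  revert h1
  decide

/-- **not solvable** -/
theorem not_solvable : ¬ Group.IsSolvable (Subgroup.closure ({g, k * g * k⁻¹} : Set (Matrix (Fin 5) (Fin 5) (ZMod 3))ˣ)) := by
  have hg : g ∈ Subgroup.closure ({g, k * g * k⁻¹} : Set (Matrix (Fin 5) (Fin 5) (ZMod 3))ˣ) := Subgroup.subset_closure (Or.inl rfl)
  have hy' : y ∈ Subgroup.closure ({g, k * g * k⁻¹} : Set (Matrix (Fin 5) (Fin 5) (ZMod 3))ˣ) := by
    rw [← hy]
    exact Subgroup.subset_closure (Or.inr rfl)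
  exact not_solvable_of_orders (p := 9) (q := 4) (r := 5) (by decide) (by decide) (by decide) al_pow be_pow
    (by rw [hga]; exact ga_pow) al_ne (al_mem hg hy') (be_mem hg hy')

theorem exists_k {F V : Type*} [Field F] [CharP F 3] [AddCommGroup V] [Module F V] {Q : QuadraticForm F V}
    {b : Fin 5 → V} {R : Submodule F V} {δ : F} (h : Fr Q b R δ G) :
    ∃ l ∈ E Q, (l, k) ∈ RelT b R := by
  exact h.exists_siegel ![0, 2, 0, 0, 2] ![2, 0, 1, 0, 0] (by decide) (by decide) k1 (by decide +kernel)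

theorem contra {F V : Type*} [Field F] [CharP F 3] [AddCommGroup V] [Module F V] {Q : QuadraticForm F V}
    {b : Fin 5 → V} {R : Submodule F V} {δ : F} (h : Fr Q b R δ G)
    {f : V ≃ₗ[F] V} (hh : (f, g) ∈ RelT b R)
    (hP : ∀ l ∈ E Q, Group.IsSolvable (Subgroup.closure {f, l * f * l⁻¹})) : False := by
  obtain ⟨l, hl, hlk⟩ := exists_k h
  exact not_solvable (solvable_of_frame (h.ind hG) hh hlk (hP l hl))

end CC

/-! ### case CF -/

namespace CF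

/-- the isometry -/
def g : (Matrix (Fin 4) (Fin 4) (ZMod 3))ˣ :=
  ⟨!![1, 0, 0, 0; 1, 1, 0, 0; 0, 1, 1, 0; 0, 0, 1, 1], !![1, 0, 0, 0; 2, 1, 0, 0; 1, 2, 1, 0; 2, 1, 2, 1], by decide +kernel, by decide +kernel⟩

def k1 : (Matrix (Fin 4) (Fin 4) (ZMod 3))ˣ :=
  ⟨!![1, 2, 2, 1; 0, 2, 1, 2; 0, 1, 2, 2; 0, 2, 2, 2], !![1, 1, 1, 2; 0, 0, 2, 1; 0, 2, 0, 1; 0, 1, 1, 0], by decide +kernel, by decide +kernel⟩

def k : (Matrix (Fin 4) (Fin 4) (ZMod 3))ˣ := k1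

def y : (Matrix (Fin 4) (Fin 4) (ZMod 3))ˣ :=
  ⟨!![0, 1, 0, 1; 2, 1, 1, 1; 1, 2, 0, 0; 2, 0, 0, 0], !![0, 0, 0, 2; 0, 0, 2, 2; 2, 1, 0, 2; 1, 0, 1, 1], by decide +kernel, by decide +kernel⟩

theorem hy : k * g * k⁻¹ = y := by
  rw [mul_inv_eq_iff_eq_mul]
  exact Units.ext (by decide +kernel)

def al : (Matrix (Fin 4) (Fin 4) (ZMod 3))ˣ := g

theorem al_mem {H : Subgroup (Matrix (Fin 4) (Fin 4) (ZMod 3))ˣ} (hg : g ∈ H) (hy : y ∈ H) : al ∈ H := hg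

def be1 : (Matrix (Fin 4) (Fin 4) (ZMod 3))ˣ :=
  ⟨!![1, 0, 0, 0; 1, 1, 0, 0; 0, 1, 1, 0; 0, 0, 1, 1], !![1, 0, 0, 0; 2, 1, 0, 0; 1, 2, 1, 0; 2, 1, 2, 1], by decide +kernel, by decide +kernel⟩

theorem be1_mem {H : Subgroup (Matrix (Fin 4) (Fin 4) (ZMod 3))ˣ} (hg : g ∈ H) (hy : y ∈ H) : be1 ∈ H := by
  rw [show be1 = g from Units.ext (by decide)]
  exact hg

def be : (Matrix (Fin 4) (Fin 4) (ZMod 3))ˣ :=
  ⟨!![0, 0, 0, 2; 0, 0, 2, 1; 2, 1, 2, 1; 0, 1, 1, 0], !![1, 2, 2, 1; 1, 1, 0, 1; 2, 2, 0, 0; 2, 0, 0, 0], by decide +kernel, by decide +kernel⟩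

theorem be_mem {H : Subgroup (Matrix (Fin 4) (Fin 4) (ZMod 3))ˣ} (hg : g ∈ H) (hy : y ∈ H) : be ∈ H := by
  rw [show be = be1 * y⁻¹ from eq_mul_inv_of_mul_eq (Units.ext (by decide +kernel))]
  exact mul_mem (be1_mem hg hy) (inv_mem hy)

def ga : (Matrix (Fin 4) (Fin 4) (ZMod 3))ˣ :=
  ⟨!![0, 0, 0, 2; 0, 0, 2, 0; 2, 1, 1, 2; 2, 2, 0, 1], !![0, 1, 1, 1; 2, 2, 2, 1; 0, 2, 0, 0; 2, 0, 0, 0], by decide +kernel, by decide +kernel⟩

theorem hga : al * be = ga := Units.ext (by decide +kernel)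

def alp2 : (Matrix (Fin 4) (Fin 4) (ZMod 3))ˣ :=
  ⟨!![1, 0, 0, 0; 2, 1, 0, 0; 1, 2, 1, 0; 0, 1, 2, 1], !![1, 0, 0, 0; 1, 1, 0, 0; 0, 1, 1, 0; 2, 0, 1, 1], by decide +kernel, by decide +kernel⟩

def alp3 : (Matrix (Fin 4) (Fin 4) (ZMod 3))ˣ :=
  ⟨!![1, 0, 0, 0; 0, 1, 0, 0; 0, 0, 1, 0; 1, 0, 0, 1], !![1, 0, 0, 0; 0, 1, 0, 0; 0, 0, 1, 0; 2, 0, 0, 1], by decide +kernel, by decide +kernel⟩

def alp4 : (Matrix (Fin 4) (Fin 4) (ZMod 3))ˣ :=
  ⟨!![1, 0, 0, 0; 1, 1, 0, 0; 0, 1, 1, 0; 1, 0, 1, 1], !![1, 0, 0, 0; 2, 1, 0, 0; 1, 2, 1, 0; 1, 1, 2, 1], by decide +kernel, by decide +kernel⟩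

def alp5 : (Matrix (Fin 4) (Fin 4) (ZMod 3))ˣ :=
  ⟨!![1, 0, 0, 0; 2, 1, 0, 0; 1, 2, 1, 0; 1, 1, 2, 1], !![1, 0, 0, 0; 1, 1, 0, 0; 0, 1, 1, 0; 1, 0, 1, 1], by decide +kernel, by decide +kernel⟩

def alp6 : (Matrix (Fin 4) (Fin 4) (ZMod 3))ˣ :=
  ⟨!![1, 0, 0, 0; 0, 1, 0, 0; 0, 0, 1, 0; 2, 0, 0, 1], !![1, 0, 0, 0; 0, 1, 0, 0; 0, 0, 1, 0; 1, 0, 0, 1], by decide +kernel, by decide +kernel⟩

def alp7 : (Matrix (Fin 4) (Fin 4) (ZMod 3))ˣ :=
  ⟨!![1, 0, 0, 0; 1, 1, 0, 0; 0, 1, 1, 0; 2, 0, 1, 1], !![1, 0, 0, 0; 2, 1, 0, 0; 1, 2, 1, 0; 0, 1, 2, 1], by decide +kernel, by decide +kernel⟩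

def alp8 : (Matrix (Fin 4) (Fin 4) (ZMod 3))ˣ :=
  ⟨!![1, 0, 0, 0; 2, 1, 0, 0; 1, 2, 1, 0; 2, 1, 2, 1], !![1, 0, 0, 0; 1, 1, 0, 0; 0, 1, 1, 0; 0, 0, 1, 1], by decide +kernel, by decide +kernel⟩

theorem al_pow : al ^ 9 = 1 := by
  have h1 : al ^ 1 = al := pow_one _
  have h2 : al ^ 2 = alp2 := by rw [pow_succ, h1]; exact Units.ext (by decide +kernel)
  have h3 : al ^ 3 = alp3 := by rw [pow_succ, h2]; exact Units.ext (by decide +kernel)
  have h4 : al ^ 4 = alp4 := by rw [pow_succ, h3]; exact Units.ext (by decide +kernel)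
  have h5 : al ^ 5 = alp5 := by rw [pow_succ, h4]; exact Units.ext (by decide +kernel)
  have h6 : al ^ 6 = alp6 := by rw [pow_succ, h5]; exact Units.ext (by decide +kernel)
  have h7 : al ^ 7 = alp7 := by rw [pow_succ, h6]; exact Units.ext (by decide +kernel)
  have h8 : al ^ 8 = alp8 := by rw [pow_succ, h7]; exact Units.ext (by decide +kernel)
  rw [pow_succ, h8]
  exact Units.ext (by decide +kernel)

def bep2 : (Matrix (Fin 4) (Fin 4) (ZMod 3))ˣ :=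
  ⟨!![0, 2, 2, 0; 1, 0, 2, 2; 1, 0, 1, 1; 2, 1, 1, 2], !![0, 2, 2, 0; 1, 0, 2, 2; 1, 0, 1, 1; 2, 1, 1, 2], by decide +kernel, by decide +kernel⟩

def bep3 : (Matrix (Fin 4) (Fin 4) (ZMod 3))ˣ :=
  ⟨!![1, 2, 2, 1; 1, 1, 0, 1; 2, 2, 0, 0; 2, 0, 0, 0], !![0, 0, 0, 2; 0, 0, 2, 1; 2, 1, 2, 1; 0, 1, 1, 0], by decide +kernel, by decide +kernel⟩

theorem be_pow : be ^ 4 = 1 := by
  have h1 : be ^ 1 = be := pow_one _
  have h2 : be ^ 2 = bep2 := by rw [pow_succ, h1]; exact Units.ext (by (delta Cfsg.Agent.H234.SN.CF.be Cfsg.Agent.H234.SN.CF.bep2; set_option synthInstance.maxSize 20000 in open scoped Cfsg.Agent.Lib.MatDec in decide +kernel))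
  have h3 : be ^ 3 = bep3 := by rw [pow_succ, h2]; exact Units.ext (by decide +kernel)
  rw [pow_succ, h3]
  exact Units.ext (by decide +kernel)

def gap2 : (Matrix (Fin 4) (Fin 4) (ZMod 3))ˣ :=
  ⟨!![1, 1, 0, 2; 1, 2, 2, 1; 0, 2, 0, 2; 2, 2, 1, 2], !![1, 1, 2, 1; 0, 1, 0, 1; 1, 1, 1, 2; 0, 2, 2, 2], by decide +kernel, by decide +kernel⟩

def gap3 : (Matrix (Fin 4) (Fin 4) (ZMod 3))ˣ :=
  ⟨!![1, 1, 2, 1; 0, 1, 0, 1; 1, 1, 1, 2; 0, 2, 2, 2], !![1, 1, 0, 2; 1, 2, 2, 1; 0, 2, 0, 2; 2, 2, 1, 2], by decide +kernel, by decide +kernel⟩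

def gap4 : (Matrix (Fin 4) (Fin 4) (ZMod 3))ˣ :=
  ⟨!![0, 1, 1, 1; 2, 2, 2, 1; 0, 2, 0, 0; 2, 0, 0, 0], !![0, 0, 0, 2; 0, 0, 2, 0; 2, 1, 1, 2; 2, 2, 0, 1], by decide +kernel, by decide +kernel⟩

theorem ga_pow : ga ^ 5 = 1 := by
  have h1 : ga ^ 1 = ga := pow_one _
  have h2 : ga ^ 2 = gap2 := by rw [pow_succ, h1]; exact Units.ext (by decide +kernel)
  have h3 : ga ^ 3 = gap3 := by rw [pow_succ, h2]; exact Units.ext (by decide +kernel)
  have h4 : ga ^ 4 = gap4 := by rw [pow_succ, h3]; exact Units.ext (by decide +kernel)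
  rw [pow_succ, h4]
  exact Units.ext (by decide +kernel)

theorem al_ne : al ≠ 1 := by
  intro h
  have h1 := congrArg Units.val h
  revert h1
  decide

/-- **not solvable** -/
theorem not_solvable : ¬ Group.IsSolvable (Subgroup.closure ({g, k * g * k⁻¹} : Set (Matrix (Fin 4) (Fin 4) (ZMod 3))ˣ)) := by
  have hg : g ∈ Subgroup.closure ({g, k * g * k⁻¹} : Set (Matrix (Fin 4) (Fin 4) (ZMod 3))ˣ) := Subgroup.subset_closure (Or.inl rfl)
  have hy' : y ∈ Subgroup.closure ({g, k * g * k⁻¹} : Set (Matrix (Fin 4) (Fin 4) (ZMod 3))ˣ) := by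
    rw [← hy]
    exact Subgroup.subset_closure (Or.inr rfl)
  exact not_solvable_of_orders (p := 9) (q := 4) (r := 5) (by decide) (by decide) (by decide) al_pow be_pow
    (by rw [hga]; exact ga_pow) al_ne (al_mem hg hy') (be_mem hg hy')

theorem exists_k {F V : Type*} [Field F] [CharP F 3] [AddCommGroup V] [Module F V] {Q : QuadraticForm F V}
    {b : Fin 4 → V} (hb : ∀ i j, polar Q (b i) (b j) = 0)
    (hd : ∀ t : Fin 4 → F, ∃ W : V, ∀ j, polar Q W (b j) = t j) :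
    ∃ l ∈ E Q, (l, k) ∈ RelT b (⊥ : Submodule F V) := by
  exact exists_transvection hb hd ![1, 2, 2, 1] ![0, 2, 2, 1] (by decide) k1 (by decide)

theorem contra {F V : Type*} [Field F] [CharP F 3] [AddCommGroup V] [Module F V] {Q : QuadraticForm F V}
    {b : Fin 4 → V} (hb : ∀ i j, polar Q (b i) (b j) = 0)
    (hd : ∀ t : Fin 4 → F, ∃ W : V, ∀ j, polar Q W (b j) = t j)
    (hind : ∀ a : Fin 4 → ZMod 3, comb (F := F) b a ∈ (⊥ : Submodule F V) → a = 0)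
    {h : V ≃ₗ[F] V} (hh : (h, g) ∈ RelT b (⊥ : Submodule F V))
    (hP : ∀ l ∈ E Q, Group.IsSolvable (Subgroup.closure {h, l * h * l⁻¹})) : False := by
  obtain ⟨l, hl, hlk⟩ := exists_k (Q := Q) hb hd
  exact not_solvable (solvable_of_frame hind hh hlk (hP l hl))

end CF

/-! ### case CD -/

namespace CD

/-- Gram matrix -/
def G : Matrix (Fin 5) (Fin 5) (ZMod 3) := !![0, 0, 0, 2, 0; 0, 0, 1, 0, 0; 0, 1, 0, 0, 0; 2, 0, 0, 0, 0; 0, 0, 0, 0, 1]

def G' : Matrix (Fin 5) (Fin 5) (ZMod 3) := !![0, 0, 0, 2, 0; 0, 0, 1, 0, 0; 0, 1, 0, 0, 0; 2, 0, 0, 0, 0; 0, 0, 0, 0, 1]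

theorem hG : G * G' = 1 := by decide +kernel

/-- the isometry -/
def g : (Matrix (Fin 5) (Fin 5) (ZMod 3))ˣ :=
  ⟨!![1, 0, 0, 0, 0; 0, 1, 0, 0, 0; 1, 0, 1, 0, 0; 0, 1, 0, 1, 0; 0, 0, 0, 0, 2], !![1, 0, 0, 0, 0; 0, 1, 0, 0, 0; 2, 0, 1, 0, 0; 0, 2, 0, 1, 0; 0, 0, 0, 0, 2], by decide +kernel, by decide +kernel⟩

def k1 : (Matrix (Fin 5) (Fin 5) (ZMod 3))ˣ :=
  ⟨!![1, 0, 1, 2, 2; 0, 1, 1, 0, 1; 0, 0, 1, 0, 0; 0, 0, 0, 1, 0; 0, 0, 2, 2, 1], !![1, 0, 0, 2, 1; 0, 1, 1, 2, 2; 0, 0, 1, 0, 0; 0, 0, 0, 1, 0; 0, 0, 1, 1, 1], by decide +kernel, by decide +kernel⟩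

def k2 : (Matrix (Fin 5) (Fin 5) (ZMod 3))ˣ :=
  ⟨!![1, 0, 0, 0, 0; 0, 1, 0, 0, 0; 0, 1, 1, 0, 2; 0, 0, 0, 1, 0; 0, 1, 0, 0, 1], !![1, 0, 0, 0, 0; 0, 1, 0, 0, 0; 0, 1, 1, 0, 1; 0, 0, 0, 1, 0; 0, 2, 0, 0, 1], by decide +kernel, by (set_option synthInstance.maxSize 20000 in open scoped Cfsg.Agent.Lib.MatDec in decide +kernel)⟩

def k : (Matrix (Fin 5) (Fin 5) (ZMod 3))ˣ :=
  ⟨!![1, 0, 1, 2, 1; 0, 0, 1, 0, 0; 0, 1, 1, 0, 2; 0, 0, 0, 1, 0; 0, 0, 2, 2, 2], !![1, 0, 0, 2, 1; 0, 1, 1, 2, 2; 0, 1, 0, 0, 0; 0, 0, 0, 1, 0; 0, 2, 0, 2, 2], by decide +kernel, by decide +kernel⟩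

theorem hk : k = k1 * k2 := Units.ext (by decide +kernel)

def y : (Matrix (Fin 5) (Fin 5) (ZMod 3))ˣ :=
  ⟨!![2, 1, 2, 2, 1; 1, 1, 0, 2, 1; 1, 1, 1, 0, 2; 0, 1, 1, 0, 2; 2, 0, 2, 0, 2], !![0, 0, 1, 2, 0; 2, 1, 0, 1, 2; 2, 1, 1, 2, 0; 0, 2, 2, 2, 1; 1, 2, 1, 2, 2], by decide +kernel, by decide +kernel⟩

theorem hy : k * g * k⁻¹ = y := by
  rw [mul_inv_eq_iff_eq_mul]
  exact Units.ext (by decide +kernel)

def al1 : (Matrix (Fin 5) (Fin 5) (ZMod 3))ˣ :=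
  ⟨!![1, 0, 0, 0, 0; 0, 1, 0, 0, 0; 1, 0, 1, 0, 0; 0, 1, 0, 1, 0; 0, 0, 0, 0, 2], !![1, 0, 0, 0, 0; 0, 1, 0, 0, 0; 2, 0, 1, 0, 0; 0, 2, 0, 1, 0; 0, 0, 0, 0, 2], by decide +kernel, by decide +kernel⟩

theorem al1_mem {H : Subgroup (Matrix (Fin 5) (Fin 5) (ZMod 3))ˣ} (hg : g ∈ H) (hy : y ∈ H) : al1 ∈ H := by
  rw [show al1 = g from Units.ext (by decide +kernel)]
  exact hg

def al : (Matrix (Fin 5) (Fin 5) (ZMod 3))ˣ :=
  ⟨!![1, 0, 0, 0, 0; 0, 1, 0, 0, 0; 2, 0, 1, 0, 0; 0, 2, 0, 1, 0; 0, 0, 0, 0, 1], !![1, 0, 0, 0, 0; 0, 1, 0, 0, 0; 1, 0, 1, 0, 0; 0, 1, 0, 1, 0; 0, 0, 0, 0, 1], by decide +kernel, by (set_option synthInstance.maxSize 20000 in open scoped Cfsg.Agent.Lib.MatDec in decide +kernel)⟩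

theorem al_mem {H : Subgroup (Matrix (Fin 5) (Fin 5) (ZMod 3))ˣ} (hg : g ∈ H) (hy : y ∈ H) : al ∈ H := by
  rw [show al = al1 * g from Units.ext (by decide +kernel)]
  exact mul_mem (al1_mem hg hy) hg

def be1 : (Matrix (Fin 5) (Fin 5) (ZMod 3))ˣ :=
  ⟨!![2, 1, 2, 2, 1; 1, 1, 0, 2, 1; 1, 1, 1, 0, 2; 0, 1, 1, 0, 2; 2, 0, 2, 0, 2], !![0, 0, 1, 2, 0; 2, 1, 0, 1, 2; 2, 1, 1, 2, 0; 0, 2, 2, 2, 1; 1, 2, 1, 2, 2], by decide +kernel, by decide +kernel⟩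

theorem be1_mem {H : Subgroup (Matrix (Fin 5) (Fin 5) (ZMod 3))ˣ} (hg : g ∈ H) (hy : y ∈ H) : be1 ∈ H := by
  rw [show be1 = y from Units.ext (by decide +kernel)]
  exact hy

def be2 : (Matrix (Fin 5) (Fin 5) (ZMod 3))ˣ :=
  ⟨!![0, 2, 2, 2, 2; 1, 2, 0, 2, 2; 0, 1, 1, 0, 1; 2, 1, 1, 0, 1; 0, 0, 2, 0, 1], !![0, 0, 1, 2, 0; 2, 1, 0, 1, 2; 2, 1, 2, 1, 0; 2, 0, 2, 0, 0; 2, 1, 2, 1, 1], by decide +kernel, by decide +kernel⟩

theorem be2_mem {H : Subgroup (Matrix (Fin 5) (Fin 5) (ZMod 3))ˣ} (hg : g ∈ H) (hy : y ∈ H) : be2 ∈ H := by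
  rw [show be2 = be1 * g⁻¹ from eq_mul_inv_of_mul_eq (Units.ext (by decide +kernel))]
  exact mul_mem (be1_mem hg hy) (inv_mem hg)

def be3 : (Matrix (Fin 5) (Fin 5) (ZMod 3))ˣ :=
  ⟨!![1, 0, 2, 2, 1; 0, 1, 1, 0, 1; 2, 1, 2, 2, 1; 2, 1, 1, 0, 1; 2, 1, 0, 0, 2], !![0, 1, 0, 2, 0; 2, 2, 1, 1, 0; 2, 1, 1, 0, 1; 2, 1, 0, 1, 1; 2, 1, 1, 2, 2], by decide +kernel, by decide +kernel⟩

theorem be3_mem {H : Subgroup (Matrix (Fin 5) (Fin 5) (ZMod 3))ˣ} (hg : g ∈ H) (hy : y ∈ H) : be3 ∈ H := by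
  rw [show be3 = be2 * y⁻¹ from eq_mul_inv_of_mul_eq (Units.ext (by decide +kernel))]
  exact mul_mem (be2_mem hg hy) (inv_mem hy)

def be : (Matrix (Fin 5) (Fin 5) (ZMod 3))ˣ :=
  ⟨!![2, 2, 2, 0, 1; 2, 1, 2, 2, 1; 1, 0, 0, 0, 0; 2, 1, 1, 0, 1; 1, 2, 1, 0, 0], !![0, 0, 1, 0, 0; 2, 0, 2, 1, 1; 2, 0, 1, 1, 2; 2, 2, 1, 2, 2; 2, 0, 1, 2, 0], by decide +kernel, by decide +kernel⟩

theorem be_mem {H : Subgroup (Matrix (Fin 5) (Fin 5) (ZMod 3))ˣ} (hg : g ∈ H) (hy : y ∈ H) : be ∈ H := by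
  rw [show be = be3 * y⁻¹ from eq_mul_inv_of_mul_eq (Units.ext (by decide +kernel))]
  exact mul_mem (be3_mem hg hy) (inv_mem hy)

def ga : (Matrix (Fin 5) (Fin 5) (ZMod 3))ˣ :=
  ⟨!![2, 2, 2, 0, 1; 2, 1, 2, 2, 1; 2, 1, 1, 0, 2; 0, 0, 2, 1, 0; 1, 2, 1, 0, 0], !![1, 0, 1, 0, 0; 1, 1, 2, 1, 1; 0, 1, 1, 1, 2; 0, 1, 1, 2, 2; 0, 2, 1, 2, 0], by decide +kernel, by decide +kernel⟩

theorem hga : al * be = ga := Units.ext (by decide +kernel)

def alp2 : (Matrix (Fin 5) (Fin 5) (ZMod 3))ˣ :=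
  ⟨!![1, 0, 0, 0, 0; 0, 1, 0, 0, 0; 1, 0, 1, 0, 0; 0, 1, 0, 1, 0; 0, 0, 0, 0, 1], !![1, 0, 0, 0, 0; 0, 1, 0, 0, 0; 2, 0, 1, 0, 0; 0, 2, 0, 1, 0; 0, 0, 0, 0, 1], by decide +kernel, by decide +kernel⟩

theorem al_pow : al ^ 3 = 1 := by
  have h1 : al ^ 1 = al := pow_one _
  have h2 : al ^ 2 = alp2 := by rw [pow_succ, h1]; exact Units.ext (by (delta Cfsg.Agent.H234.SN.CD.al Cfsg.Agent.H234.SN.CD.alp2; set_option synthInstance.maxSize 20000 in open scoped Cfsg.Agent.Lib.MatDec in decide +kernel))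
  rw [pow_succ, h2]
  exact Units.ext (by decide +kernel)

def bep2 : (Matrix (Fin 5) (Fin 5) (ZMod 3))ˣ :=
  ⟨!![2, 2, 0, 1, 1; 1, 0, 0, 2, 2; 2, 2, 2, 0, 1; 2, 1, 1, 2, 0; 1, 1, 0, 1, 0], !![2, 0, 1, 1, 2; 2, 2, 0, 0, 0; 2, 2, 0, 1, 1; 2, 1, 2, 2, 2; 0, 1, 2, 2, 0], by decide +kernel, by decide +kernel⟩

def bep3 : (Matrix (Fin 5) (Fin 5) (ZMod 3))ˣ :=
  ⟨!![2, 0, 1, 1, 2; 2, 2, 0, 0, 0; 2, 2, 0, 1, 1; 2, 1, 2, 2, 2; 0, 1, 2, 2, 0], !![2, 2, 0, 1, 1; 1, 0, 0, 2, 2; 2, 2, 2, 0, 1; 2, 1, 1, 2, 0; 1, 1, 0, 1, 0], by decide +kernel, by decide +kernel⟩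

def bep4 : (Matrix (Fin 5) (Fin 5) (ZMod 3))ˣ :=
  ⟨!![0, 0, 1, 0, 0; 2, 0, 2, 1, 1; 2, 0, 1, 1, 2; 2, 2, 1, 2, 2; 2, 0, 1, 2, 0], !![2, 2, 2, 0, 1; 2, 1, 2, 2, 1; 1, 0, 0, 0, 0; 2, 1, 1, 0, 1; 1, 2, 1, 0, 0], by decide +kernel, by decide +kernel⟩

theorem be_pow : be ^ 5 = 1 := by
  have h1 : be ^ 1 = be := pow_one _
  have h2 : be ^ 2 = bep2 := by rw [pow_succ, h1]; exact Units.ext (by decide +kernel)
  have h3 : be ^ 3 = bep3 := by rw [pow_succ, h2]; exact Units.ext (by decide +kernel)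
  have h4 : be ^ 4 = bep4 := by rw [pow_succ, h3]; exact Units.ext (by decide +kernel)
  rw [pow_succ, h4]
  exact Units.ext (by decide +kernel)

def gap2 : (Matrix (Fin 5) (Fin 5) (ZMod 3))ˣ :=
  ⟨!![1, 1, 2, 1, 2; 2, 0, 1, 1, 1; 1, 1, 0, 2, 2; 1, 2, 1, 1, 1; 2, 2, 1, 1, 2], !![1, 1, 2, 1, 2; 2, 0, 1, 1, 1; 1, 1, 0, 2, 2; 1, 2, 1, 1, 1; 2, 2, 1, 1, 2], by decide +kernel, by decide +kernel⟩

def gap3 : (Matrix (Fin 5) (Fin 5) (ZMod 3))ˣ :=
  ⟨!![1, 0, 1, 0, 0; 1, 1, 2, 1, 1; 0, 1, 1, 1, 2; 0, 1, 1, 2, 2; 0, 2, 1, 2, 0], !![2, 2, 2, 0, 1; 2, 1, 2, 2, 1; 2, 1, 1, 0, 2; 0, 0, 2, 1, 0; 1, 2, 1, 0, 0], by decide +kernel, by decide +kernel⟩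

theorem ga_pow : ga ^ 4 = 1 := by
  have h1 : ga ^ 1 = ga := pow_one _
  have h2 : ga ^ 2 = gap2 := by rw [pow_succ, h1]; exact Units.ext (by (delta Cfsg.Agent.H234.SN.CD.ga Cfsg.Agent.H234.SN.CD.gap2; set_option synthInstance.maxSize 20000 in open scoped Cfsg.Agent.Lib.MatDec in decide +kernel))
  have h3 : ga ^ 3 = gap3 := by rw [pow_succ, h2]; exact Units.ext (by decide +kernel)
  rw [pow_succ, h3]
  exact Units.ext (by decide +kernel)

theorem al_ne : al ≠ 1 := by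
  intro h
  have h1 := congrArg Units.val h
  revert h1
  decide

/-- **not solvable** -/
theorem not_solvable : ¬ Group.IsSolvable (Subgroup.closure ({g, k * g * k⁻¹} : Set (Matrix (Fin 5) (Fin 5) (ZMod 3))ˣ)) := by
  have hg : g ∈ Subgroup.closure ({g, k * g * k⁻¹} : Set (Matrix (Fin 5) (Fin 5) (ZMod 3))ˣ) := Subgroup.subset_closure (Or.inl rfl)
  have hy' : y ∈ Subgroup.closure ({g, k * g * k⁻¹} : Set (Matrix (Fin 5) (Fin 5) (ZMod 3))ˣ) := by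
    rw [← hy]
    exact Subgroup.subset_closure (Or.inr rfl)
  exact not_solvable_of_orders (p := 3) (q := 5) (r := 4) (by decide) (by decide) (by decide) al_pow be_pow
    (by rw [hga]; exact ga_pow) al_ne (al_mem hg hy') (be_mem hg hy')

theorem exists_k {F V : Type*} [Field F] [CharP F 3] [AddCommGroup V] [Module F V] {Q : QuadraticForm F V}
    {b : Fin 5 → V} {R : Submodule F V} {δ : F} (h : Fr Q b R δ G) :
    ∃ l ∈ E Q, (l, k) ∈ RelT b R := by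
  exact exists_mul (h.exists_siegel ![2, 1, 0, 0, 0] ![0, 2, 0, 0, 2] (by decide) (by decide) k1 (by decide +kernel))
    (h.exists_siegel ![0, 0, 2, 0, 0] ![0, 0, 2, 0, 2] (by decide) (by decide) k2 (by decide +kernel)) hk

theorem contra {F V : Type*} [Field F] [CharP F 3] [AddCommGroup V] [Module F V] {Q : QuadraticForm F V}
    {b : Fin 5 → V} {R : Submodule F V} {δ : F} (h : Fr Q b R δ G)
    {f : V ≃ₗ[F] V} (hh : (f, g) ∈ RelT b R)
    (hP : ∀ l ∈ E Q, Group.IsSolvable (Subgroup.closure {f, l * f * l⁻¹})) : False := by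
  obtain ⟨l, hl, hlk⟩ := exists_k h
  exact not_solvable (solvable_of_frame (h.ind hG) hh hlk (hP l hl))

end CD

end Cfsg.Agent.H234.SN
end

-- part: H234/SN/CertSix
section
/-!
# Explicit pairs over the field with three elements (helper234, S3831 E4; generated by a program)

Every case: an isometry (similitude) `g` given by its matrix in a frame with Gram matrix `G` (or in a totally singular
frame), an element `k` of `E Q` with `⟨g, g ^ k⟩` not solvable.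
-/

set_option autoImplicit false
set_option maxRecDepth 100000
set_option linter.unusedVariables false

namespace Cfsg.Agent.H234.SN

open QuadraticMap Matrix
open Cfsg.Agent.LieClassical.OrthCore

/-! ### case CG -/

namespace CG

/-- Gram matrix -/
def G : Matrix (Fin 6) (Fin 6) (ZMod 3) := !![0, 0, 0, 2, 0, 0; 0, 0, 1, 0, 0, 0; 0, 1, 0, 0, 0, 0; 2, 0, 0, 0, 0, 0; 0, 0, 0, 0, 1, 0; 0, 0, 0, 0, 0, 1]

def G' : Matrix (Fin 6) (Fin 6) (ZMod 3) := !![0, 0, 0, 2, 0, 0; 0, 0, 1, 0, 0, 0; 0, 1, 0, 0, 0, 0; 2, 0, 0, 0, 0, 0; 0, 0, 0, 0, 1, 0; 0, 0, 0, 0, 0, 1]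

theorem hG : G * G' = 1 := by (set_option synthInstance.maxSize 20000 in open scoped Cfsg.Agent.Lib.MatDec in decide +kernel)

/-- the isometry -/
def g : (Matrix (Fin 6) (Fin 6) (ZMod 3))ˣ :=
  ⟨!![0, 2, 0, 0, 0, 0; 1, 0, 0, 0, 0, 0; 0, 2, 0, 2, 0, 0; 1, 0, 1, 0, 0, 0; 0, 0, 0, 0, 0, 2; 0, 0, 0, 0, 1, 0], !![0, 1, 0, 0, 0, 0; 2, 0, 0, 0, 0, 0; 0, 2, 0, 1, 0, 0; 1, 0, 2, 0, 0, 0; 0, 0, 0, 0, 0, 1; 0, 0, 0, 0, 2, 0], by decide +kernel, by (set_option synthInstance.maxSize 20000 in open scoped Cfsg.Agent.Lib.MatDec in decide +kernel)⟩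

def k1 : (Matrix (Fin 6) (Fin 6) (ZMod 3))ˣ :=
  ⟨!![1, 1, 0, 2, 0, 2; 0, 1, 0, 0, 0, 0; 0, 1, 1, 2, 0, 2; 0, 0, 0, 1, 0, 0; 0, 0, 0, 0, 1, 0; 0, 1, 0, 2, 0, 1], !![1, 1, 0, 2, 0, 1; 0, 1, 0, 0, 0, 0; 0, 1, 1, 2, 0, 1; 0, 0, 0, 1, 0, 0; 0, 0, 0, 0, 1, 0; 0, 2, 0, 1, 0, 1], by decide +kernel, by decide +kernel⟩

def k : (Matrix (Fin 6) (Fin 6) (ZMod 3))ˣ := k1

def y : (Matrix (Fin 6) (Fin 6) (ZMod 3))ˣ :=
  ⟨!![0, 1, 2, 1, 2, 2; 1, 1, 0, 2, 0, 1; 0, 1, 2, 0, 2, 2; 1, 2, 1, 1, 0, 2; 0, 1, 0, 2, 0, 2; 0, 2, 2, 1, 1, 2], !![1, 0, 1, 1, 1, 2; 2, 2, 0, 1, 0, 2; 1, 1, 1, 2, 1, 2; 1, 0, 2, 0, 0, 0; 0, 2, 0, 1, 0, 1; 1, 2, 1, 1, 2, 2], by decide +kernel, by decide +kernel⟩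

theorem hy : k * g * k⁻¹ = y := by
  rw [mul_inv_eq_iff_eq_mul]
  exact Units.ext (by (delta Cfsg.Agent.H234.SN.CG.k Cfsg.Agent.H234.SN.CG.g Cfsg.Agent.H234.SN.CG.y Cfsg.Agent.H234.SN.CG.k1; set_option synthInstance.maxSize 20000 in open scoped Cfsg.Agent.Lib.MatDec in decide +kernel))

def al1 : (Matrix (Fin 6) (Fin 6) (ZMod 3))ˣ :=
  ⟨!![0, 2, 0, 0, 0, 0; 1, 0, 0, 0, 0, 0; 0, 2, 0, 2, 0, 0; 1, 0, 1, 0, 0, 0; 0, 0, 0, 0, 0, 2; 0, 0, 0, 0, 1, 0], !![0, 1, 0, 0, 0, 0; 2, 0, 0, 0, 0, 0; 0, 2, 0, 1, 0, 0; 1, 0, 2, 0, 0, 0; 0, 0, 0, 0, 0, 1; 0, 0, 0, 0, 2, 0], by decide +kernel, by decide +kernel⟩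

theorem al1_mem {H : Subgroup (Matrix (Fin 6) (Fin 6) (ZMod 3))ˣ} (hg : g ∈ H) (hy : y ∈ H) : al1 ∈ H := by
  rw [show al1 = g from Units.ext (by decide +kernel)]
  exact hg

def al : (Matrix (Fin 6) (Fin 6) (ZMod 3))ˣ :=
  ⟨!![2, 2, 0, 1, 0, 2; 0, 1, 2, 1, 2, 2; 1, 0, 2, 0, 0, 0; 0, 2, 1, 1, 1, 1; 0, 1, 1, 2, 2, 1; 0, 1, 0, 2, 0, 2], !![1, 0, 2, 1, 1, 1; 2, 2, 2, 0, 1, 0; 1, 0, 1, 1, 1, 1; 0, 2, 0, 2, 0, 0; 2, 0, 2, 0, 2, 0; 2, 0, 2, 1, 1, 2], by decide +kernel, by (set_option synthInstance.maxSize 20000 in open scoped Cfsg.Agent.Lib.MatDec in decide +kernel)⟩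

theorem al_mem {H : Subgroup (Matrix (Fin 6) (Fin 6) (ZMod 3))ˣ} (hg : g ∈ H) (hy : y ∈ H) : al ∈ H := by
  rw [show al = al1 * y from Units.ext (by (delta Cfsg.Agent.H234.SN.CG.al Cfsg.Agent.H234.SN.CG.al1 Cfsg.Agent.H234.SN.CG.y; set_option synthInstance.maxSize 20000 in open scoped Cfsg.Agent.Lib.MatDec in decide +kernel))]
  exact mul_mem (al1_mem hg hy) hy

def be1 : (Matrix (Fin 6) (Fin 6) (ZMod 3))ˣ :=
  ⟨!![0, 2, 0, 0, 0, 0; 1, 0, 0, 0, 0, 0; 0, 2, 0, 2, 0, 0; 1, 0, 1, 0, 0, 0; 0, 0, 0, 0, 0, 2; 0, 0, 0, 0, 1, 0], !![0, 1, 0, 0, 0, 0; 2, 0, 0, 0, 0, 0; 0, 2, 0, 1, 0, 0; 1, 0, 2, 0, 0, 0; 0, 0, 0, 0, 0, 1; 0, 0, 0, 0, 2, 0], by decide +kernel, by decide +kernel⟩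

theorem be1_mem {H : Subgroup (Matrix (Fin 6) (Fin 6) (ZMod 3))ˣ} (hg : g ∈ H) (hy : y ∈ H) : be1 ∈ H := by
  rw [show be1 = g from Units.ext (by decide +kernel)]
  exact hg

def be2 : (Matrix (Fin 6) (Fin 6) (ZMod 3))ˣ :=
  ⟨!![1, 1, 0, 2, 0, 1; 1, 0, 1, 1, 1, 2; 0, 1, 1, 2, 0, 1; 2, 1, 2, 0, 2, 1; 2, 1, 2, 2, 1, 1; 0, 2, 0, 1, 0, 1], !![0, 1, 2, 2, 1, 2; 1, 1, 1, 0, 2, 0; 2, 1, 0, 2, 1, 2; 2, 0, 2, 1, 1, 0; 1, 0, 1, 0, 1, 0; 2, 1, 2, 2, 1, 1], by decide +kernel, by decide +kernel⟩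

theorem be2_mem {H : Subgroup (Matrix (Fin 6) (Fin 6) (ZMod 3))ˣ} (hg : g ∈ H) (hy : y ∈ H) : be2 ∈ H := by
  rw [show be2 = be1 * y⁻¹ from eq_mul_inv_of_mul_eq (Units.ext (by (delta Cfsg.Agent.H234.SN.CG.be2 Cfsg.Agent.H234.SN.CG.y Cfsg.Agent.H234.SN.CG.be1; set_option synthInstance.maxSize 20000 in open scoped Cfsg.Agent.Lib.MatDec in decide +kernel)))]
  exact mul_mem (be1_mem hg hy) (inv_mem hy)

def be3 : (Matrix (Fin 6) (Fin 6) (ZMod 3))ˣ :=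
  ⟨!![0, 2, 2, 0, 1, 0; 1, 1, 1, 2, 2, 2; 0, 2, 2, 2, 1, 0; 1, 2, 0, 1, 1, 1; 0, 2, 2, 1, 1, 2; 0, 0, 1, 0, 1, 0], !![1, 1, 1, 0, 2, 0; 0, 2, 1, 1, 2, 1; 1, 2, 1, 1, 2, 0; 1, 0, 2, 0, 0, 0; 2, 1, 2, 2, 1, 1; 2, 0, 2, 0, 2, 0], by (set_option synthInstance.maxSize 20000 in open scoped Cfsg.Agent.Lib.MatDec in decide +kernel), by decide +kernel⟩

theorem be3_mem {H : Subgroup (Matrix (Fin 6) (Fin 6) (ZMod 3))ˣ} (hg : g ∈ H) (hy : y ∈ H) : be3 ∈ H := by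
  rw [show be3 = be2 * g from Units.ext (by (delta Cfsg.Agent.H234.SN.CG.be3 Cfsg.Agent.H234.SN.CG.be2 Cfsg.Agent.H234.SN.CG.g; set_option synthInstance.maxSize 20000 in open scoped Cfsg.Agent.Lib.MatDec in decide +kernel))]
  exact mul_mem (be2_mem hg hy) hg

def be : (Matrix (Fin 6) (Fin 6) (ZMod 3))ˣ :=
  ⟨!![0, 2, 2, 1, 2, 0; 2, 2, 2, 2, 0, 0; 2, 2, 0, 1, 2, 0; 1, 2, 1, 2, 0, 0; 0, 0, 0, 0, 0, 1; 1, 0, 1, 0, 1, 0], !![2, 2, 1, 1, 0, 0; 2, 0, 2, 1, 0, 1; 1, 2, 2, 1, 0, 0; 1, 1, 1, 0, 0, 2; 0, 2, 0, 1, 0, 1; 0, 0, 0, 0, 1, 0], by decide +kernel, by decide +kernel⟩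

theorem be_mem {H : Subgroup (Matrix (Fin 6) (Fin 6) (ZMod 3))ˣ} (hg : g ∈ H) (hy : y ∈ H) : be ∈ H := by
  rw [show be = be3 * y⁻¹ from eq_mul_inv_of_mul_eq (Units.ext (by (delta Cfsg.Agent.H234.SN.CG.be Cfsg.Agent.H234.SN.CG.y Cfsg.Agent.H234.SN.CG.be3; set_option synthInstance.maxSize 20000 in open scoped Cfsg.Agent.Lib.MatDec in decide +kernel)))]
  exact mul_mem (be3_mem hg hy) (inv_mem hy)

def ga : (Matrix (Fin 6) (Fin 6) (ZMod 3))ˣ :=
  ⟨!![1, 1, 2, 2, 0, 0; 0, 2, 2, 0, 0, 2; 1, 0, 2, 0, 0, 0; 2, 2, 0, 1, 0, 1; 1, 2, 2, 1, 0, 2; 0, 0, 0, 0, 2, 0], !![1, 0, 0, 2, 2, 0; 0, 2, 2, 1, 2, 0; 1, 0, 2, 2, 2, 0; 2, 2, 0, 1, 2, 0; 0, 0, 0, 0, 0, 2; 2, 0, 2, 0, 2, 0], by decide +kernel, by decide +kernel⟩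

theorem hga : al * be = ga := Units.ext (by (delta Cfsg.Agent.H234.SN.CG.al Cfsg.Agent.H234.SN.CG.be Cfsg.Agent.H234.SN.CG.ga; set_option synthInstance.maxSize 20000 in open scoped Cfsg.Agent.Lib.MatDec in decide +kernel))

def alp2 : (Matrix (Fin 6) (Fin 6) (ZMod 3))ˣ :=
  ⟨!![1, 1, 2, 0, 2, 1; 2, 1, 0, 1, 1, 0; 1, 2, 1, 1, 0, 2; 1, 0, 2, 1, 1, 2; 1, 2, 2, 0, 2, 2; 0, 1, 1, 1, 1, 2], !![1, 2, 2, 0, 0, 2; 1, 1, 0, 1, 2, 1; 0, 2, 1, 2, 2, 1; 1, 2, 1, 1, 2, 0; 2, 0, 1, 1, 2, 1; 1, 2, 0, 2, 2, 2], by decide +kernel, by decide +kernel⟩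

def alp3 : (Matrix (Fin 6) (Fin 6) (ZMod 3))ˣ :=
  ⟨!![1, 0, 2, 2, 0, 2; 1, 2, 1, 0, 2, 2; 0, 2, 1, 2, 2, 2; 1, 1, 0, 2, 0, 2; 1, 2, 1, 2, 2, 0; 1, 0, 0, 2, 2, 2], !![2, 1, 0, 2, 1, 1; 0, 1, 1, 1, 1, 0; 2, 2, 2, 0, 2, 0; 1, 0, 2, 1, 2, 2; 0, 2, 2, 0, 2, 2; 1, 2, 2, 1, 0, 2], by decide +kernel, by (set_option synthInstance.maxSize 20000 in open scoped Cfsg.Agent.Lib.MatDec in decide +kernel)⟩

def alp4 : (Matrix (Fin 6) (Fin 6) (ZMod 3))ˣ :=
  ⟨!![1, 2, 0, 1, 2, 2; 0, 2, 2, 2, 2, 0; 1, 1, 1, 0, 1, 0; 2, 0, 1, 2, 1, 1; 0, 1, 1, 0, 1, 1; 2, 1, 1, 2, 0, 1], !![2, 0, 1, 1, 0, 1; 2, 1, 2, 0, 1, 1; 0, 1, 2, 1, 1, 1; 2, 2, 0, 1, 0, 1; 2, 1, 2, 1, 1, 0; 2, 0, 0, 1, 1, 1], by decide +kernel, by decide +kernel⟩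

def alp5 : (Matrix (Fin 6) (Fin 6) (ZMod 3))ˣ :=
  ⟨!![2, 1, 1, 0, 0, 1; 2, 2, 0, 2, 1, 2; 0, 1, 2, 1, 1, 2; 2, 1, 2, 2, 1, 0; 1, 0, 2, 2, 1, 2; 2, 1, 0, 1, 1, 1], !![2, 2, 1, 0, 1, 2; 1, 2, 0, 2, 2, 0; 2, 1, 2, 2, 0, 1; 2, 0, 1, 2, 2, 1; 2, 1, 1, 0, 1, 1; 0, 2, 2, 2, 2, 1], by decide +kernel, by decide +kernel⟩

def alp6 : (Matrix (Fin 6) (Fin 6) (ZMod 3))ˣ :=
  ⟨!![2, 0, 1, 2, 2, 2; 1, 1, 1, 0, 2, 0; 2, 0, 2, 2, 2, 2; 0, 1, 0, 1, 0, 0; 1, 0, 1, 0, 1, 0; 1, 0, 1, 2, 2, 1], !![1, 1, 0, 2, 0, 1; 0, 2, 1, 2, 1, 1; 2, 0, 1, 0, 0, 0; 0, 1, 2, 2, 2, 2; 0, 2, 2, 1, 1, 2; 0, 2, 0, 1, 0, 1], by decide +kernel, by decide +kernel⟩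

def alp7 : (Matrix (Fin 6) (Fin 6) (ZMod 3))ˣ :=
  ⟨!![2, 0, 0, 0, 0, 0; 0, 2, 0, 0, 0, 0; 0, 0, 2, 0, 0, 0; 0, 0, 0, 2, 0, 0; 0, 0, 0, 0, 2, 0; 0, 0, 0, 0, 0, 2], !![2, 0, 0, 0, 0, 0; 0, 2, 0, 0, 0, 0; 0, 0, 2, 0, 0, 0; 0, 0, 0, 2, 0, 0; 0, 0, 0, 0, 2, 0; 0, 0, 0, 0, 0, 2], by decide +kernel, by decide +kernel⟩

def alp8 : (Matrix (Fin 6) (Fin 6) (ZMod 3))ˣ :=
  ⟨!![1, 1, 0, 2, 0, 1; 0, 2, 1, 2, 1, 1; 2, 0, 1, 0, 0, 0; 0, 1, 2, 2, 2, 2; 0, 2, 2, 1, 1, 2; 0, 2, 0, 1, 0, 1], !![2, 0, 1, 2, 2, 2; 1, 1, 1, 0, 2, 0; 2, 0, 2, 2, 2, 2; 0, 1, 0, 1, 0, 0; 1, 0, 1, 0, 1, 0; 1, 0, 1, 2, 2, 1], by decide +kernel, by decide +kernel⟩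

def alp9 : (Matrix (Fin 6) (Fin 6) (ZMod 3))ˣ :=
  ⟨!![2, 2, 1, 0, 1, 2; 1, 2, 0, 2, 2, 0; 2, 1, 2, 2, 0, 1; 2, 0, 1, 2, 2, 1; 2, 1, 1, 0, 1, 1; 0, 2, 2, 2, 2, 1], !![2, 1, 1, 0, 0, 1; 2, 2, 0, 2, 1, 2; 0, 1, 2, 1, 1, 2; 2, 1, 2, 2, 1, 0; 1, 0, 2, 2, 1, 2; 2, 1, 0, 1, 1, 1], by decide +kernel, by decide +kernel⟩

def alp10 : (Matrix (Fin 6) (Fin 6) (ZMod 3))ˣ :=
  ⟨!![2, 0, 1, 1, 0, 1; 2, 1, 2, 0, 1, 1; 0, 1, 2, 1, 1, 1; 2, 2, 0, 1, 0, 1; 2, 1, 2, 1, 1, 0; 2, 0, 0, 1, 1, 1], !![1, 2, 0, 1, 2, 2; 0, 2, 2, 2, 2, 0; 1, 1, 1, 0, 1, 0; 2, 0, 1, 2, 1, 1; 0, 1, 1, 0, 1, 1; 2, 1, 1, 2, 0, 1], by decide +kernel, by decide +kernel⟩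

def alp11 : (Matrix (Fin 6) (Fin 6) (ZMod 3))ˣ :=
  ⟨!![2, 1, 0, 2, 1, 1; 0, 1, 1, 1, 1, 0; 2, 2, 2, 0, 2, 0; 1, 0, 2, 1, 2, 2; 0, 2, 2, 0, 2, 2; 1, 2, 2, 1, 0, 2], !![1, 0, 2, 2, 0, 2; 1, 2, 1, 0, 2, 2; 0, 2, 1, 2, 2, 2; 1, 1, 0, 2, 0, 2; 1, 2, 1, 2, 2, 0; 1, 0, 0, 2, 2, 2], by decide +kernel, by decide +kernel⟩

def alp12 : (Matrix (Fin 6) (Fin 6) (ZMod 3))ˣ :=
  ⟨!![1, 2, 2, 0, 0, 2; 1, 1, 0, 1, 2, 1; 0, 2, 1, 2, 2, 1; 1, 2, 1, 1, 2, 0; 2, 0, 1, 1, 2, 1; 1, 2, 0, 2, 2, 2], !![1, 1, 2, 0, 2, 1; 2, 1, 0, 1, 1, 0; 1, 2, 1, 1, 0, 2; 1, 0, 2, 1, 1, 2; 1, 2, 2, 0, 2, 2; 0, 1, 1, 1, 1, 2], by decide +kernel, by decide +kernel⟩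

def alp13 : (Matrix (Fin 6) (Fin 6) (ZMod 3))ˣ :=
  ⟨!![1, 0, 2, 1, 1, 1; 2, 2, 2, 0, 1, 0; 1, 0, 1, 1, 1, 1; 0, 2, 0, 2, 0, 0; 2, 0, 2, 0, 2, 0; 2, 0, 2, 1, 1, 2], !![2, 2, 0, 1, 0, 2; 0, 1, 2, 1, 2, 2; 1, 0, 2, 0, 0, 0; 0, 2, 1, 1, 1, 1; 0, 1, 1, 2, 2, 1; 0, 1, 0, 2, 0, 2], by decide +kernel, by decide +kernel⟩

theorem al_pow : al ^ 14 = 1 := by
  have h1 : al ^ 1 = al := pow_one _
  have h2 : al ^ 2 = alp2 := by rw [pow_succ, h1]; exact Units.ext (by decide +kernel)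
  have h3 : al ^ 3 = alp3 := by rw [pow_succ, h2]; exact Units.ext (by (delta Cfsg.Agent.H234.SN.CG.alp2 Cfsg.Agent.H234.SN.CG.al Cfsg.Agent.H234.SN.CG.alp3; set_option synthInstance.maxSize 20000 in open scoped Cfsg.Agent.Lib.MatDec in decide +kernel))
  have h4 : al ^ 4 = alp4 := by rw [pow_succ, h3]; exact Units.ext (by (delta Cfsg.Agent.H234.SN.CG.alp3 Cfsg.Agent.H234.SN.CG.al Cfsg.Agent.H234.SN.CG.alp4; set_option synthInstance.maxSize 20000 in open scoped Cfsg.Agent.Lib.MatDec in decide +kernel))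
  have h5 : al ^ 5 = alp5 := by rw [pow_succ, h4]; exact Units.ext (by (delta Cfsg.Agent.H234.SN.CG.alp4 Cfsg.Agent.H234.SN.CG.al Cfsg.Agent.H234.SN.CG.alp5; set_option synthInstance.maxSize 20000 in open scoped Cfsg.Agent.Lib.MatDec in decide +kernel))
  have h6 : al ^ 6 = alp6 := by rw [pow_succ, h5]; exact Units.ext (by (delta Cfsg.Agent.H234.SN.CG.alp5 Cfsg.Agent.H234.SN.CG.al Cfsg.Agent.H234.SN.CG.alp6; set_option synthInstance.maxSize 20000 in open scoped Cfsg.Agent.Lib.MatDec in decide +kernel))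
  have h7 : al ^ 7 = alp7 := by rw [pow_succ, h6]; exact Units.ext (by (delta Cfsg.Agent.H234.SN.CG.alp6 Cfsg.Agent.H234.SN.CG.al Cfsg.Agent.H234.SN.CG.alp7; set_option synthInstance.maxSize 20000 in open scoped Cfsg.Agent.Lib.MatDec in decide +kernel))
  have h8 : al ^ 8 = alp8 := by rw [pow_succ, h7]; exact Units.ext (by (delta Cfsg.Agent.H234.SN.CG.alp7 Cfsg.Agent.H234.SN.CG.al Cfsg.Agent.H234.SN.CG.alp8; set_option synthInstance.maxSize 20000 in open scoped Cfsg.Agent.Lib.MatDec in decide +kernel))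
  have h9 : al ^ 9 = alp9 := by rw [pow_succ, h8]; exact Units.ext (by (delta Cfsg.Agent.H234.SN.CG.alp8 Cfsg.Agent.H234.SN.CG.al Cfsg.Agent.H234.SN.CG.alp9; set_option synthInstance.maxSize 20000 in open scoped Cfsg.Agent.Lib.MatDec in decide +kernel))
  have h10 : al ^ 10 = alp10 := by rw [pow_succ, h9]; exact Units.ext (by (delta Cfsg.Agent.H234.SN.CG.alp9 Cfsg.Agent.H234.SN.CG.al Cfsg.Agent.H234.SN.CG.alp10; set_option synthInstance.maxSize 20000 in open scoped Cfsg.Agent.Lib.MatDec in decide +kernel))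
  have h11 : al ^ 11 = alp11 := by rw [pow_succ, h10]; exact Units.ext (by (delta Cfsg.Agent.H234.SN.CG.alp10 Cfsg.Agent.H234.SN.CG.al Cfsg.Agent.H234.SN.CG.alp11; set_option synthInstance.maxSize 20000 in open scoped Cfsg.Agent.Lib.MatDec in decide +kernel))
  have h12 : al ^ 12 = alp12 := by rw [pow_succ, h11]; exact Units.ext (by (delta Cfsg.Agent.H234.SN.CG.alp11 Cfsg.Agent.H234.SN.CG.al Cfsg.Agent.H234.SN.CG.alp12; set_option synthInstance.maxSize 20000 in open scoped Cfsg.Agent.Lib.MatDec in decide +kernel))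
  have h13 : al ^ 13 = alp13 := by rw [pow_succ, h12]; exact Units.ext (by (delta Cfsg.Agent.H234.SN.CG.alp12 Cfsg.Agent.H234.SN.CG.al Cfsg.Agent.H234.SN.CG.alp13; set_option synthInstance.maxSize 20000 in open scoped Cfsg.Agent.Lib.MatDec in decide +kernel))
  rw [pow_succ, h13]
  exact Units.ext (by decide +kernel)

def bep2 : (Matrix (Fin 6) (Fin 6) (ZMod 3))ˣ :=
  ⟨!![0, 1, 2, 2, 1, 2; 1, 1, 1, 0, 2, 0; 2, 1, 0, 2, 1, 2; 2, 0, 2, 1, 1, 0; 1, 0, 1, 0, 1, 0; 2, 1, 2, 2, 1, 1], !![1, 1, 0, 2, 0, 1; 1, 0, 1, 1, 1, 2; 0, 1, 1, 2, 0, 1; 2, 1, 2, 0, 2, 1; 2, 1, 2, 2, 1, 1; 0, 2, 0, 1, 0, 1], by decide +kernel, by decide +kernel⟩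

def bep3 : (Matrix (Fin 6) (Fin 6) (ZMod 3))ˣ :=
  ⟨!![1, 1, 0, 2, 0, 1; 1, 0, 1, 1, 1, 2; 0, 1, 1, 2, 0, 1; 2, 1, 2, 0, 2, 1; 2, 1, 2, 2, 1, 1; 0, 2, 0, 1, 0, 1], !![0, 1, 2, 2, 1, 2; 1, 1, 1, 0, 2, 0; 2, 1, 0, 2, 1, 2; 2, 0, 2, 1, 1, 0; 1, 0, 1, 0, 1, 0; 2, 1, 2, 2, 1, 1], by decide +kernel, by decide +kernel⟩

def bep4 : (Matrix (Fin 6) (Fin 6) (ZMod 3))ˣ :=
  ⟨!![2, 2, 1, 1, 0, 0; 2, 0, 2, 1, 0, 1; 1, 2, 2, 1, 0, 0; 1, 1, 1, 0, 0, 2; 0, 2, 0, 1, 0, 1; 0, 0, 0, 0, 1, 0], !![0, 2, 2, 1, 2, 0; 2, 2, 2, 2, 0, 0; 2, 2, 0, 1, 2, 0; 1, 2, 1, 2, 0, 0; 0, 0, 0, 0, 0, 1; 1, 0, 1, 0, 1, 0], by decide +kernel, by decide +kernel⟩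

theorem be_pow : be ^ 5 = 1 := by
  have h1 : be ^ 1 = be := pow_one _
  have h2 : be ^ 2 = bep2 := by rw [pow_succ, h1]; exact Units.ext (by decide +kernel)
  have h3 : be ^ 3 = bep3 := by rw [pow_succ, h2]; exact Units.ext (by decide +kernel)
  have h4 : be ^ 4 = bep4 := by rw [pow_succ, h3]; exact Units.ext (by decide +kernel)
  rw [pow_succ, h4]
  exact Units.ext (by decide +kernel)

def gap2 : (Matrix (Fin 6) (Fin 6) (ZMod 3))ˣ :=
  ⟨!![1, 1, 2, 1, 0, 1; 2, 1, 2, 0, 1, 1; 0, 1, 0, 2, 0, 0; 1, 2, 2, 2, 2, 2; 2, 1, 1, 0, 1, 2; 2, 1, 1, 2, 0, 1], !![2, 1, 0, 1, 0, 1; 1, 0, 2, 1, 1, 1; 1, 1, 1, 2, 1, 1; 1, 0, 1, 1, 1, 1; 1, 0, 1, 0, 1, 0; 1, 0, 1, 2, 2, 1], by (set_option synthInstance.maxSize 20000 in open scoped Cfsg.Agent.Lib.MatDec in decide +kernel), by decide +kernel⟩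

def gap3 : (Matrix (Fin 6) (Fin 6) (ZMod 3))ˣ :=
  ⟨!![2, 2, 2, 0, 2, 0; 2, 0, 0, 2, 2, 1; 1, 0, 2, 2, 0, 1; 0, 1, 2, 0, 1, 1; 1, 0, 1, 2, 1, 1; 1, 2, 2, 0, 2, 1], !![0, 1, 1, 0, 1, 0; 1, 2, 0, 1, 1, 2; 2, 0, 0, 1, 0, 2; 0, 2, 1, 2, 2, 2; 2, 0, 2, 1, 1, 2; 2, 1, 1, 0, 1, 1], by decide +kernel, by decide +kernel⟩

def gap4 : (Matrix (Fin 6) (Fin 6) (ZMod 3))ˣ :=
  ⟨!![0, 1, 1, 0, 0, 2; 2, 1, 2, 2, 2, 0; 1, 2, 0, 1, 2, 2; 0, 1, 2, 1, 2, 1; 1, 1, 0, 2, 2, 1; 2, 0, 2, 1, 2, 2], !![1, 2, 1, 0, 1, 2; 1, 0, 2, 2, 0, 2; 2, 2, 1, 2, 1, 0; 0, 2, 1, 0, 2, 1; 1, 2, 2, 0, 2, 2; 2, 2, 0, 1, 1, 2], by decide +kernel, by decide +kernel⟩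

def gap5 : (Matrix (Fin 6) (Fin 6) (ZMod 3))ˣ :=
  ⟨!![1, 2, 1, 0, 1, 2; 1, 0, 2, 2, 0, 2; 2, 2, 1, 2, 1, 0; 0, 2, 1, 0, 2, 1; 1, 2, 2, 0, 2, 2; 2, 2, 0, 1, 1, 2], !![0, 1, 1, 0, 0, 2; 2, 1, 2, 2, 2, 0; 1, 2, 0, 1, 2, 2; 0, 1, 2, 1, 2, 1; 1, 1, 0, 2, 2, 1; 2, 0, 2, 1, 2, 2], by decide +kernel, by decide +kernel⟩

def gap6 : (Matrix (Fin 6) (Fin 6) (ZMod 3))ˣ :=
  ⟨!![0, 1, 1, 0, 1, 0; 1, 2, 0, 1, 1, 2; 2, 0, 0, 1, 0, 2; 0, 2, 1, 2, 2, 2; 2, 0, 2, 1, 1, 2; 2, 1, 1, 0, 1, 1], !![2, 2, 2, 0, 2, 0; 2, 0, 0, 2, 2, 1; 1, 0, 2, 2, 0, 1; 0, 1, 2, 0, 1, 1; 1, 0, 1, 2, 1, 1; 1, 2, 2, 0, 2, 1], by decide +kernel, by decide +kernel⟩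

def gap7 : (Matrix (Fin 6) (Fin 6) (ZMod 3))ˣ :=
  ⟨!![2, 1, 0, 1, 0, 1; 1, 0, 2, 1, 1, 1; 1, 1, 1, 2, 1, 1; 1, 0, 1, 1, 1, 1; 1, 0, 1, 0, 1, 0; 1, 0, 1, 2, 2, 1], !![1, 1, 2, 1, 0, 1; 2, 1, 2, 0, 1, 1; 0, 1, 0, 2, 0, 0; 1, 2, 2, 2, 2, 2; 2, 1, 1, 0, 1, 2; 2, 1, 1, 2, 0, 1], by decide +kernel, by decide +kernel⟩

def gap8 : (Matrix (Fin 6) (Fin 6) (ZMod 3))ˣ :=
  ⟨!![1, 0, 0, 2, 2, 0; 0, 2, 2, 1, 2, 0; 1, 0, 2, 2, 2, 0; 2, 2, 0, 1, 2, 0; 0, 0, 0, 0, 0, 2; 2, 0, 2, 0, 2, 0], !![1, 1, 2, 2, 0, 0; 0, 2, 2, 0, 0, 2; 1, 0, 2, 0, 0, 0; 2, 2, 0, 1, 0, 1; 1, 2, 2, 1, 0, 2; 0, 0, 0, 0, 2, 0], by decide +kernel, by decide +kernel⟩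

theorem ga_pow : ga ^ 9 = 1 := by
  have h1 : ga ^ 1 = ga := pow_one _
  have h2 : ga ^ 2 = gap2 := by rw [pow_succ, h1]; exact Units.ext (by decide +kernel)
  have h3 : ga ^ 3 = gap3 := by rw [pow_succ, h2]; exact Units.ext (by decide +kernel)
  have h4 : ga ^ 4 = gap4 := by rw [pow_succ, h3]; exact Units.ext (by (delta Cfsg.Agent.H234.SN.CG.gap3 Cfsg.Agent.H234.SN.CG.ga Cfsg.Agent.H234.SN.CG.gap4; set_option synthInstance.maxSize 20000 in open scoped Cfsg.Agent.Lib.MatDec in decide +kernel))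
  have h5 : ga ^ 5 = gap5 := by rw [pow_succ, h4]; exact Units.ext (by (delta Cfsg.Agent.H234.SN.CG.gap4 Cfsg.Agent.H234.SN.CG.ga Cfsg.Agent.H234.SN.CG.gap5; set_option synthInstance.maxSize 20000 in open scoped Cfsg.Agent.Lib.MatDec in decide +kernel))
  have h6 : ga ^ 6 = gap6 := by rw [pow_succ, h5]; exact Units.ext (by decide +kernel)
  have h7 : ga ^ 7 = gap7 := by rw [pow_succ, h6]; exact Units.ext (by (delta Cfsg.Agent.H234.SN.CG.gap6 Cfsg.Agent.H234.SN.CG.ga Cfsg.Agent.H234.SN.CG.gap7; set_option synthInstance.maxSize 20000 in open scoped Cfsg.Agent.Lib.MatDec in decide +kernel))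
  have h8 : ga ^ 8 = gap8 := by rw [pow_succ, h7]; exact Units.ext (by (delta Cfsg.Agent.H234.SN.CG.gap7 Cfsg.Agent.H234.SN.CG.ga Cfsg.Agent.H234.SN.CG.gap8; set_option synthInstance.maxSize 20000 in open scoped Cfsg.Agent.Lib.MatDec in decide +kernel))
  rw [pow_succ, h8]
  exact Units.ext (by decide +kernel)

theorem al_ne : al ≠ 1 := by
  intro h
  have h1 := congrArg Units.val h
  revert h1
  decide

/-- **not solvable** -/
theorem not_solvable : ¬ Group.IsSolvable (Subgroup.closure ({g, k * g * k⁻¹} : Set (Matrix (Fin 6) (Fin 6) (ZMod 3))ˣ)) := by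
  have hg : g ∈ Subgroup.closure ({g, k * g * k⁻¹} : Set (Matrix (Fin 6) (Fin 6) (ZMod 3))ˣ) := Subgroup.subset_closure (Or.inl rfl)
  have hy' : y ∈ Subgroup.closure ({g, k * g * k⁻¹} : Set (Matrix (Fin 6) (Fin 6) (ZMod 3))ˣ) := by
    rw [← hy]
    exact Subgroup.subset_closure (Or.inr rfl)
  exact not_solvable_of_orders (p := 14) (q := 5) (r := 9) (by decide) (by decide) (by decide) al_pow be_pow
    (by rw [hga]; exact ga_pow) al_ne (al_mem hg hy') (be_mem hg hy')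

theorem exists_k {F V : Type*} [Field F] [CharP F 3] [AddCommGroup V] [Module F V] {Q : QuadraticForm F V}
    {b : Fin 6 → V} {R : Submodule F V} {δ : F} (h : Fr Q b R δ G) :
    ∃ l ∈ E Q, (l, k) ∈ RelT b R := by
  exact h.exists_siegel ![2, 0, 2, 0, 0, 0] ![0, 0, 0, 0, 0, 2] (by decide +kernel) (by decide +kernel) k1 (by decide +kernel)

theorem contra {F V : Type*} [Field F] [CharP F 3] [AddCommGroup V] [Module F V] {Q : QuadraticForm F V}
    {b : Fin 6 → V} {R : Submodule F V} {δ : F} (h : Fr Q b R δ G)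
    {f : V ≃ₗ[F] V} (hh : (f, g) ∈ RelT b R)
    (hP : ∀ l ∈ E Q, Group.IsSolvable (Subgroup.closure {f, l * f * l⁻¹})) : False := by
  obtain ⟨l, hl, hlk⟩ := exists_k h
  exact not_solvable (solvable_of_frame (h.ind hG) hh hlk (hP l hl))

end CG

/-! ### case CH -/

namespace CH

/-- Gram matrix -/
def G : Matrix (Fin 6) (Fin 6) (ZMod 3) := !![0, 0, 0, 0, 2, 0; 0, 0, 0, 1, 0, 0; 0, 0, 0, 0, 0, 1; 0, 1, 0, 0, 0, 0; 2, 0, 0, 0, 0, 0; 0, 0, 1, 0, 0, 0]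

def G' : Matrix (Fin 6) (Fin 6) (ZMod 3) := !![0, 0, 0, 0, 2, 0; 0, 0, 0, 1, 0, 0; 0, 0, 0, 0, 0, 1; 0, 1, 0, 0, 0, 0; 2, 0, 0, 0, 0, 0; 0, 0, 1, 0, 0, 0]

theorem hG : G * G' = 1 := by decide +kernel

/-- the isometry -/
def g : (Matrix (Fin 6) (Fin 6) (ZMod 3))ˣ :=
  ⟨!![1, 0, 0, 0, 0, 0; 1, 1, 0, 0, 0, 0; 0, 0, 1, 0, 0, 0; 0, 0, 0, 2, 0, 0; 0, 0, 0, 2, 2, 0; 0, 0, 0, 0, 0, 2], !![1, 0, 0, 0, 0, 0; 2, 1, 0, 0, 0, 0; 0, 0, 1, 0, 0, 0; 0, 0, 0, 2, 0, 0; 0, 0, 0, 1, 2, 0; 0, 0, 0, 0, 0, 2], by decide +kernel, by decide +kernel⟩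

def k1 : (Matrix (Fin 6) (Fin 6) (ZMod 3))ˣ :=
  ⟨!![1, 2, 2, 0, 2, 1; 0, 1, 0, 0, 0, 0; 0, 1, 1, 0, 1, 0; 0, 1, 1, 1, 1, 2; 0, 0, 0, 0, 1, 0; 0, 2, 0, 0, 2, 1], !![1, 2, 1, 0, 2, 2; 0, 1, 0, 0, 0, 0; 0, 2, 1, 0, 2, 0; 0, 1, 2, 1, 1, 1; 0, 0, 0, 0, 1, 0; 0, 1, 0, 0, 1, 1], by decide +kernel, by decide +kernel⟩

def k : (Matrix (Fin 6) (Fin 6) (ZMod 3))ˣ := k1

def y : (Matrix (Fin 6) (Fin 6) (ZMod 3))ˣ :=
  ⟨!![0, 0, 1, 1, 2, 0; 1, 0, 1, 0, 2, 2; 1, 1, 0, 2, 2, 1; 1, 1, 1, 1, 2, 1; 0, 2, 1, 2, 1, 2; 2, 0, 1, 1, 2, 1], !![2, 2, 2, 2, 1, 2; 2, 2, 2, 0, 1, 1; 2, 2, 2, 1, 0, 2; 2, 2, 0, 0, 0, 2; 0, 1, 2, 1, 0, 1; 1, 2, 2, 2, 1, 0], by decide +kernel, by decide +kernel⟩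

theorem hy : k * g * k⁻¹ = y := by
  rw [mul_inv_eq_iff_eq_mul]
  exact Units.ext (by (delta Cfsg.Agent.H234.SN.CH.k Cfsg.Agent.H234.SN.CH.g Cfsg.Agent.H234.SN.CH.y Cfsg.Agent.H234.SN.CH.k1; set_option synthInstance.maxSize 20000 in open scoped Cfsg.Agent.Lib.MatDec in decide +kernel))

def al1 : (Matrix (Fin 6) (Fin 6) (ZMod 3))ˣ :=
  ⟨!![1, 0, 0, 0, 0, 0; 1, 1, 0, 0, 0, 0; 0, 0, 1, 0, 0, 0; 0, 0, 0, 2, 0, 0; 0, 0, 0, 2, 2, 0; 0, 0, 0, 0, 0, 2], !![1, 0, 0, 0, 0, 0; 2, 1, 0, 0, 0, 0; 0, 0, 1, 0, 0, 0; 0, 0, 0, 2, 0, 0; 0, 0, 0, 1, 2, 0; 0, 0, 0, 0, 0, 2], by decide +kernel, by decide +kernel⟩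

theorem al1_mem {H : Subgroup (Matrix (Fin 6) (Fin 6) (ZMod 3))ˣ} (hg : g ∈ H) (hy : y ∈ H) : al1 ∈ H := by
  rw [show al1 = g from Units.ext (by decide +kernel)]
  exact hg

def al : (Matrix (Fin 6) (Fin 6) (ZMod 3))ˣ :=
  ⟨!![1, 0, 0, 0, 0, 0; 2, 1, 0, 0, 0, 0; 0, 0, 1, 0, 0, 0; 0, 0, 0, 1, 0, 0; 0, 0, 0, 2, 1, 0; 0, 0, 0, 0, 0, 1], !![1, 0, 0, 0, 0, 0; 1, 1, 0, 0, 0, 0; 0, 0, 1, 0, 0, 0; 0, 0, 0, 1, 0, 0; 0, 0, 0, 1, 1, 0; 0, 0, 0, 0, 0, 1], by decide +kernel, by decide +kernel⟩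

theorem al_mem {H : Subgroup (Matrix (Fin 6) (Fin 6) (ZMod 3))ˣ} (hg : g ∈ H) (hy : y ∈ H) : al ∈ H := by
  rw [show al = al1 * g from Units.ext (by decide +kernel)]
  exact mul_mem (al1_mem hg hy) hg

def be1 : (Matrix (Fin 6) (Fin 6) (ZMod 3))ˣ :=
  ⟨!![1, 0, 0, 0, 0, 0; 1, 1, 0, 0, 0, 0; 0, 0, 1, 0, 0, 0; 0, 0, 0, 2, 0, 0; 0, 0, 0, 2, 2, 0; 0, 0, 0, 0, 0, 2], !![1, 0, 0, 0, 0, 0; 2, 1, 0, 0, 0, 0; 0, 0, 1, 0, 0, 0; 0, 0, 0, 2, 0, 0; 0, 0, 0, 1, 2, 0; 0, 0, 0, 0, 0, 2], by decide +kernel, by decide +kernel⟩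

theorem be1_mem {H : Subgroup (Matrix (Fin 6) (Fin 6) (ZMod 3))ˣ} (hg : g ∈ H) (hy : y ∈ H) : be1 ∈ H := by
  rw [show be1 = g from Units.ext (by decide +kernel)]
  exact hg

def be : (Matrix (Fin 6) (Fin 6) (ZMod 3))ˣ :=
  ⟨!![0, 0, 1, 1, 2, 0; 1, 0, 2, 1, 1, 2; 1, 1, 0, 2, 2, 1; 2, 2, 2, 2, 1, 2; 2, 0, 1, 0, 0, 0; 1, 0, 2, 2, 1, 2], !![0, 2, 2, 2, 2, 1; 0, 2, 2, 1, 2, 2; 0, 2, 2, 2, 0, 1; 0, 2, 0, 0, 0, 1; 2, 1, 2, 2, 0, 2; 2, 2, 2, 2, 2, 0], by decide +kernel, by (set_option synthInstance.maxSize 20000 in open scoped Cfsg.Agent.Lib.MatDec in decide +kernel)⟩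

theorem be_mem {H : Subgroup (Matrix (Fin 6) (Fin 6) (ZMod 3))ˣ} (hg : g ∈ H) (hy : y ∈ H) : be ∈ H := by
  rw [show be = be1 * y from Units.ext (by (delta Cfsg.Agent.H234.SN.CH.be Cfsg.Agent.H234.SN.CH.be1 Cfsg.Agent.H234.SN.CH.y; set_option synthInstance.maxSize 20000 in open scoped Cfsg.Agent.Lib.MatDec in decide +kernel))]
  exact mul_mem (be1_mem hg hy) hy

def ga : (Matrix (Fin 6) (Fin 6) (ZMod 3))ˣ :=
  ⟨!![0, 0, 1, 1, 2, 0; 1, 0, 1, 0, 2, 2; 1, 1, 0, 2, 2, 1; 2, 2, 2, 2, 1, 2; 0, 1, 2, 1, 2, 1; 1, 0, 2, 2, 1, 2], !![2, 2, 2, 1, 2, 1; 2, 2, 2, 0, 2, 2; 2, 2, 2, 2, 0, 1; 2, 2, 0, 0, 0, 1; 0, 1, 2, 2, 0, 2; 1, 2, 2, 1, 2, 0], by decide +kernel, by (set_option synthInstance.maxSize 20000 in open scoped Cfsg.Agent.Lib.MatDec in decide +kernel)⟩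

theorem hga : al * be = ga := Units.ext (by (delta Cfsg.Agent.H234.SN.CH.al Cfsg.Agent.H234.SN.CH.be Cfsg.Agent.H234.SN.CH.ga; set_option synthInstance.maxSize 20000 in open scoped Cfsg.Agent.Lib.MatDec in decide +kernel))

def alp2 : (Matrix (Fin 6) (Fin 6) (ZMod 3))ˣ :=
  ⟨!![1, 0, 0, 0, 0, 0; 1, 1, 0, 0, 0, 0; 0, 0, 1, 0, 0, 0; 0, 0, 0, 1, 0, 0; 0, 0, 0, 1, 1, 0; 0, 0, 0, 0, 0, 1], !![1, 0, 0, 0, 0, 0; 2, 1, 0, 0, 0, 0; 0, 0, 1, 0, 0, 0; 0, 0, 0, 1, 0, 0; 0, 0, 0, 2, 1, 0; 0, 0, 0, 0, 0, 1], by (set_option synthInstance.maxSize 20000 in open scoped Cfsg.Agent.Lib.MatDec in decide +kernel), by (set_option synthInstance.maxSize 20000 in open scoped Cfsg.Agent.Lib.MatDec in decide +kernel)⟩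

theorem al_pow : al ^ 3 = 1 := by
  have h1 : al ^ 1 = al := pow_one _
  have h2 : al ^ 2 = alp2 := by rw [pow_succ, h1]; exact Units.ext (by decide +kernel)
  rw [pow_succ, h2]
  exact Units.ext (by decide +kernel)

def bep2 : (Matrix (Fin 6) (Fin 6) (ZMod 3))ˣ :=
  ⟨!![1, 0, 1, 1, 0, 0; 2, 1, 2, 2, 0, 2; 1, 1, 2, 2, 0, 2; 0, 0, 0, 1, 2, 2; 1, 1, 2, 1, 0, 1; 1, 0, 1, 1, 1, 1], !![0, 1, 2, 0, 0, 0; 2, 1, 1, 2, 2, 2; 2, 2, 1, 2, 0, 2; 2, 0, 0, 1, 0, 1; 1, 0, 2, 1, 1, 2; 1, 0, 1, 2, 2, 2], by decide +kernel, by decide +kernel⟩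

def bep3 : (Matrix (Fin 6) (Fin 6) (ZMod 3))ˣ :=
  ⟨!![0, 0, 0, 2, 2, 0; 0, 0, 0, 0, 1, 0; 0, 0, 2, 2, 2, 0; 2, 2, 2, 0, 0, 0; 0, 1, 1, 1, 0, 2; 0, 0, 0, 1, 0, 2], !![0, 0, 0, 2, 2, 1; 2, 0, 1, 0, 1, 2; 1, 0, 2, 0, 0, 0; 2, 2, 0, 0, 0, 0; 0, 1, 0, 0, 0, 0; 2, 2, 0, 0, 0, 2], by decide +kernel, by decide +kernel⟩

def bep4 : (Matrix (Fin 6) (Fin 6) (ZMod 3))ˣ :=
  ⟨!![2, 1, 0, 1, 2, 1; 2, 0, 1, 0, 0, 0; 1, 0, 0, 2, 0, 0; 1, 2, 0, 2, 1, 0; 0, 0, 2, 0, 0, 0; 1, 2, 0, 0, 0, 0], !![0, 2, 0, 0, 2, 0; 0, 2, 0, 0, 2, 2; 0, 0, 0, 0, 2, 0; 0, 2, 2, 0, 2, 0; 0, 2, 2, 1, 2, 2; 1, 0, 0, 1, 0, 0], by decide +kernel, by (set_option synthInstance.maxSize 20000 in open scoped Cfsg.Agent.Lib.MatDec in decide +kernel)⟩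

def bep5 : (Matrix (Fin 6) (Fin 6) (ZMod 3))ˣ :=
  ⟨!![2, 2, 1, 1, 1, 0; 1, 1, 2, 1, 0, 1; 1, 1, 2, 2, 1, 1; 2, 1, 1, 1, 0, 2; 2, 2, 0, 1, 1, 2; 2, 0, 2, 0, 1, 1], !![1, 0, 2, 0, 1, 2; 2, 1, 0, 1, 2, 2; 1, 2, 1, 1, 0, 1; 1, 1, 0, 1, 1, 1; 2, 1, 1, 2, 2, 2; 0, 1, 2, 2, 2, 2], by decide +kernel, by decide +kernel⟩

def bep6 : (Matrix (Fin 6) (Fin 6) (ZMod 3))ˣ :=
  ⟨!![1, 0, 0, 2, 0, 1; 0, 1, 1, 1, 0, 2; 1, 0, 1, 0, 1, 1; 0, 0, 1, 2, 1, 0; 2, 2, 1, 1, 0, 1; 2, 2, 2, 2, 0, 1], !![0, 2, 0, 0, 0, 2; 2, 2, 2, 1, 1, 0; 2, 0, 1, 2, 2, 1; 1, 0, 2, 1, 0, 0; 2, 0, 1, 0, 1, 2; 2, 1, 2, 1, 0, 1], by decide +kernel, by decide +kernel⟩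

def bep7 : (Matrix (Fin 6) (Fin 6) (ZMod 3))ˣ :=
  ⟨!![2, 1, 1, 1, 2, 0; 0, 0, 2, 0, 0, 0; 1, 1, 1, 2, 2, 0; 1, 2, 2, 0, 1, 2; 0, 0, 1, 1, 1, 0; 0, 0, 0, 2, 1, 0], !![1, 2, 2, 0, 2, 1; 2, 0, 2, 0, 2, 2; 0, 2, 0, 0, 0, 0; 0, 2, 0, 0, 2, 1; 0, 2, 0, 0, 2, 2; 2, 2, 0, 2, 2, 1], by decide +kernel, by decide +kernel⟩

def bep8 : (Matrix (Fin 6) (Fin 6) (ZMod 3))ˣ :=
  ⟨!![2, 0, 2, 1, 2, 2; 2, 2, 0, 1, 1, 2; 1, 2, 0, 2, 1, 1; 2, 2, 1, 2, 1, 1; 2, 0, 0, 1, 0, 0; 0, 1, 2, 1, 2, 1], !![0, 2, 1, 2, 2, 2; 2, 2, 1, 1, 2, 2; 0, 1, 1, 2, 1, 1; 0, 2, 1, 2, 0, 2; 2, 1, 0, 1, 2, 2; 0, 1, 2, 0, 1, 0], by decide +kernel, by decide +kernel⟩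

def bep9 : (Matrix (Fin 6) (Fin 6) (ZMod 3))ˣ :=
  ⟨!![1, 1, 1, 0, 2, 2; 2, 2, 1, 1, 0, 1; 0, 1, 0, 0, 1, 1; 1, 2, 1, 0, 2, 2; 2, 2, 1, 1, 2, 2; 1, 1, 2, 0, 1, 2], !![2, 1, 2, 0, 2, 2; 2, 0, 0, 1, 0, 0; 1, 2, 2, 1, 1, 1; 1, 2, 1, 2, 2, 1; 2, 2, 2, 1, 1, 0; 2, 1, 2, 1, 2, 0], by decide +kernel, by decide +kernel⟩

def bep10 : (Matrix (Fin 6) (Fin 6) (ZMod 3))ˣ :=
  ⟨!![2, 1, 0, 2, 1, 1; 0, 0, 1, 1, 1, 0; 1, 0, 2, 0, 2, 1; 0, 1, 2, 0, 2, 0; 2, 0, 2, 0, 2, 2; 1, 2, 2, 1, 0, 2], !![2, 1, 0, 2, 1, 1; 0, 0, 1, 1, 1, 0; 1, 0, 2, 0, 2, 1; 0, 1, 2, 0, 2, 0; 2, 0, 2, 0, 2, 2; 1, 2, 2, 1, 0, 2], by decide +kernel, by decide +kernel⟩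

def bep11 : (Matrix (Fin 6) (Fin 6) (ZMod 3))ˣ :=
  ⟨!![2, 1, 2, 0, 2, 2; 2, 0, 0, 1, 0, 0; 1, 2, 2, 1, 1, 1; 1, 2, 1, 2, 2, 1; 2, 2, 2, 1, 1, 0; 2, 1, 2, 1, 2, 0], !![1, 1, 1, 0, 2, 2; 2, 2, 1, 1, 0, 1; 0, 1, 0, 0, 1, 1; 1, 2, 1, 0, 2, 2; 2, 2, 1, 1, 2, 2; 1, 1, 2, 0, 1, 2], by decide +kernel, by decide +kernel⟩

def bep12 : (Matrix (Fin 6) (Fin 6) (ZMod 3))ˣ :=
  ⟨!![0, 2, 1, 2, 2, 2; 2, 2, 1, 1, 2, 2; 0, 1, 1, 2, 1, 1; 0, 2, 1, 2, 0, 2; 2, 1, 0, 1, 2, 2; 0, 1, 2, 0, 1, 0], !![2, 0, 2, 1, 2, 2; 2, 2, 0, 1, 1, 2; 1, 2, 0, 2, 1, 1; 2, 2, 1, 2, 1, 1; 2, 0, 0, 1, 0, 0; 0, 1, 2, 1, 2, 1], by decide +kernel, by (set_option synthInstance.maxSize 20000 in open scoped Cfsg.Agent.Lib.MatDec in decide +kernel)⟩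

def bep13 : (Matrix (Fin 6) (Fin 6) (ZMod 3))ˣ :=
  ⟨!![1, 2, 2, 0, 2, 1; 2, 0, 2, 0, 2, 2; 0, 2, 0, 0, 0, 0; 0, 2, 0, 0, 2, 1; 0, 2, 0, 0, 2, 2; 2, 2, 0, 2, 2, 1], !![2, 1, 1, 1, 2, 0; 0, 0, 2, 0, 0, 0; 1, 1, 1, 2, 2, 0; 1, 2, 2, 0, 1, 2; 0, 0, 1, 1, 1, 0; 0, 0, 0, 2, 1, 0], by decide +kernel, by decide +kernel⟩

def bep14 : (Matrix (Fin 6) (Fin 6) (ZMod 3))ˣ :=
  ⟨!![0, 2, 0, 0, 0, 2; 2, 2, 2, 1, 1, 0; 2, 0, 1, 2, 2, 1; 1, 0, 2, 1, 0, 0; 2, 0, 1, 0, 1, 2; 2, 1, 2, 1, 0, 1], !![1, 0, 0, 2, 0, 1; 0, 1, 1, 1, 0, 2; 1, 0, 1, 0, 1, 1; 0, 0, 1, 2, 1, 0; 2, 2, 1, 1, 0, 1; 2, 2, 2, 2, 0, 1], by decide +kernel, by decide +kernel⟩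

def bep15 : (Matrix (Fin 6) (Fin 6) (ZMod 3))ˣ :=
  ⟨!![1, 0, 2, 0, 1, 2; 2, 1, 0, 1, 2, 2; 1, 2, 1, 1, 0, 1; 1, 1, 0, 1, 1, 1; 2, 1, 1, 2, 2, 2; 0, 1, 2, 2, 2, 2], !![2, 2, 1, 1, 1, 0; 1, 1, 2, 1, 0, 1; 1, 1, 2, 2, 1, 1; 2, 1, 1, 1, 0, 2; 2, 2, 0, 1, 1, 2; 2, 0, 2, 0, 1, 1], by decide +kernel, by decide +kernel⟩

def bep16 : (Matrix (Fin 6) (Fin 6) (ZMod 3))ˣ :=
  ⟨!![0, 2, 0, 0, 2, 0; 0, 2, 0, 0, 2, 2; 0, 0, 0, 0, 2, 0; 0, 2, 2, 0, 2, 0; 0, 2, 2, 1, 2, 2; 1, 0, 0, 1, 0, 0], !![2, 1, 0, 1, 2, 1; 2, 0, 1, 0, 0, 0; 1, 0, 0, 2, 0, 0; 1, 2, 0, 2, 1, 0; 0, 0, 2, 0, 0, 0; 1, 2, 0, 0, 0, 0], by decide +kernel, by decide +kernel⟩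

def bep17 : (Matrix (Fin 6) (Fin 6) (ZMod 3))ˣ :=
  ⟨!![0, 0, 0, 2, 2, 1; 2, 0, 1, 0, 1, 2; 1, 0, 2, 0, 0, 0; 2, 2, 0, 0, 0, 0; 0, 1, 0, 0, 0, 0; 2, 2, 0, 0, 0, 2], !![0, 0, 0, 2, 2, 0; 0, 0, 0, 0, 1, 0; 0, 0, 2, 2, 2, 0; 2, 2, 2, 0, 0, 0; 0, 1, 1, 1, 0, 2; 0, 0, 0, 1, 0, 2], by decide +kernel, by decide +kernel⟩

def bep18 : (Matrix (Fin 6) (Fin 6) (ZMod 3))ˣ :=
  ⟨!![0, 1, 2, 0, 0, 0; 2, 1, 1, 2, 2, 2; 2, 2, 1, 2, 0, 2; 2, 0, 0, 1, 0, 1; 1, 0, 2, 1, 1, 2; 1, 0, 1, 2, 2, 2], !![1, 0, 1, 1, 0, 0; 2, 1, 2, 2, 0, 2; 1, 1, 2, 2, 0, 2; 0, 0, 0, 1, 2, 2; 1, 1, 2, 1, 0, 1; 1, 0, 1, 1, 1, 1], by decide +kernel, by decide +kernel⟩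

def bep19 : (Matrix (Fin 6) (Fin 6) (ZMod 3))ˣ :=
  ⟨!![0, 2, 2, 2, 2, 1; 0, 2, 2, 1, 2, 2; 0, 2, 2, 2, 0, 1; 0, 2, 0, 0, 0, 1; 2, 1, 2, 2, 0, 2; 2, 2, 2, 2, 2, 0], !![0, 0, 1, 1, 2, 0; 1, 0, 2, 1, 1, 2; 1, 1, 0, 2, 2, 1; 2, 2, 2, 2, 1, 2; 2, 0, 1, 0, 0, 0; 1, 0, 2, 2, 1, 2], by decide +kernel, by decide +kernel⟩

theorem be_pow : be ^ 20 = 1 := by
  have h1 : be ^ 1 = be := pow_one _
  have h2 : be ^ 2 = bep2 := by rw [pow_succ, h1]; exact Units.ext (by decide +kernel)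
  have h3 : be ^ 3 = bep3 := by rw [pow_succ, h2]; exact Units.ext (by (delta Cfsg.Agent.H234.SN.CH.bep2 Cfsg.Agent.H234.SN.CH.be Cfsg.Agent.H234.SN.CH.bep3; set_option synthInstance.maxSize 20000 in open scoped Cfsg.Agent.Lib.MatDec in decide +kernel))
  have h4 : be ^ 4 = bep4 := by rw [pow_succ, h3]; exact Units.ext (by (delta Cfsg.Agent.H234.SN.CH.bep3 Cfsg.Agent.H234.SN.CH.be Cfsg.Agent.H234.SN.CH.bep4; set_option synthInstance.maxSize 20000 in open scoped Cfsg.Agent.Lib.MatDec in decide +kernel))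
  have h5 : be ^ 5 = bep5 := by rw [pow_succ, h4]; exact Units.ext (by (delta Cfsg.Agent.H234.SN.CH.bep4 Cfsg.Agent.H234.SN.CH.be Cfsg.Agent.H234.SN.CH.bep5; set_option synthInstance.maxSize 20000 in open scoped Cfsg.Agent.Lib.MatDec in decide +kernel))
  have h6 : be ^ 6 = bep6 := by rw [pow_succ, h5]; exact Units.ext (by (delta Cfsg.Agent.H234.SN.CH.bep5 Cfsg.Agent.H234.SN.CH.be Cfsg.Agent.H234.SN.CH.bep6; set_option synthInstance.maxSize 20000 in open scoped Cfsg.Agent.Lib.MatDec in decide +kernel))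
  have h7 : be ^ 7 = bep7 := by rw [pow_succ, h6]; exact Units.ext (by (delta Cfsg.Agent.H234.SN.CH.bep6 Cfsg.Agent.H234.SN.CH.be Cfsg.Agent.H234.SN.CH.bep7; set_option synthInstance.maxSize 20000 in open scoped Cfsg.Agent.Lib.MatDec in decide +kernel))
  have h8 : be ^ 8 = bep8 := by rw [pow_succ, h7]; exact Units.ext (by (delta Cfsg.Agent.H234.SN.CH.bep7 Cfsg.Agent.H234.SN.CH.be Cfsg.Agent.H234.SN.CH.bep8; set_option synthInstance.maxSize 20000 in open scoped Cfsg.Agent.Lib.MatDec in decide +kernel))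
  have h9 : be ^ 9 = bep9 := by rw [pow_succ, h8]; exact Units.ext (by (delta Cfsg.Agent.H234.SN.CH.bep8 Cfsg.Agent.H234.SN.CH.be Cfsg.Agent.H234.SN.CH.bep9; set_option synthInstance.maxSize 20000 in open scoped Cfsg.Agent.Lib.MatDec in decide +kernel))
  have h10 : be ^ 10 = bep10 := by rw [pow_succ, h9]; exact Units.ext (by (delta Cfsg.Agent.H234.SN.CH.bep9 Cfsg.Agent.H234.SN.CH.be Cfsg.Agent.H234.SN.CH.bep10; set_option synthInstance.maxSize 20000 in open scoped Cfsg.Agent.Lib.MatDec in decide +kernel))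
  have h11 : be ^ 11 = bep11 := by rw [pow_succ, h10]; exact Units.ext (by (delta Cfsg.Agent.H234.SN.CH.bep10 Cfsg.Agent.H234.SN.CH.be Cfsg.Agent.H234.SN.CH.bep11; set_option synthInstance.maxSize 20000 in open scoped Cfsg.Agent.Lib.MatDec in decide +kernel))
  have h12 : be ^ 12 = bep12 := by rw [pow_succ, h11]; exact Units.ext (by (delta Cfsg.Agent.H234.SN.CH.bep11 Cfsg.Agent.H234.SN.CH.be Cfsg.Agent.H234.SN.CH.bep12; set_option synthInstance.maxSize 20000 in open scoped Cfsg.Agent.Lib.MatDec in decide +kernel))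
  have h13 : be ^ 13 = bep13 := by rw [pow_succ, h12]; exact Units.ext (by (delta Cfsg.Agent.H234.SN.CH.bep12 Cfsg.Agent.H234.SN.CH.be Cfsg.Agent.H234.SN.CH.bep13; set_option synthInstance.maxSize 20000 in open scoped Cfsg.Agent.Lib.MatDec in decide +kernel))
  have h14 : be ^ 14 = bep14 := by rw [pow_succ, h13]; exact Units.ext (by (delta Cfsg.Agent.H234.SN.CH.bep13 Cfsg.Agent.H234.SN.CH.be Cfsg.Agent.H234.SN.CH.bep14; set_option synthInstance.maxSize 20000 in open scoped Cfsg.Agent.Lib.MatDec in decide +kernel))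
  have h15 : be ^ 15 = bep15 := by rw [pow_succ, h14]; exact Units.ext (by (delta Cfsg.Agent.H234.SN.CH.bep14 Cfsg.Agent.H234.SN.CH.be Cfsg.Agent.H234.SN.CH.bep15; set_option synthInstance.maxSize 20000 in open scoped Cfsg.Agent.Lib.MatDec in decide +kernel))
  have h16 : be ^ 16 = bep16 := by rw [pow_succ, h15]; exact Units.ext (by (delta Cfsg.Agent.H234.SN.CH.bep15 Cfsg.Agent.H234.SN.CH.be Cfsg.Agent.H234.SN.CH.bep16; set_option synthInstance.maxSize 20000 in open scoped Cfsg.Agent.Lib.MatDec in decide +kernel))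
  have h17 : be ^ 17 = bep17 := by rw [pow_succ, h16]; exact Units.ext (by (delta Cfsg.Agent.H234.SN.CH.bep16 Cfsg.Agent.H234.SN.CH.be Cfsg.Agent.H234.SN.CH.bep17; set_option synthInstance.maxSize 20000 in open scoped Cfsg.Agent.Lib.MatDec in decide +kernel))
  have h18 : be ^ 18 = bep18 := by rw [pow_succ, h17]; exact Units.ext (by (delta Cfsg.Agent.H234.SN.CH.bep17 Cfsg.Agent.H234.SN.CH.be Cfsg.Agent.H234.SN.CH.bep18; set_option synthInstance.maxSize 20000 in open scoped Cfsg.Agent.Lib.MatDec in decide +kernel))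
  have h19 : be ^ 19 = bep19 := by rw [pow_succ, h18]; exact Units.ext (by (delta Cfsg.Agent.H234.SN.CH.bep18 Cfsg.Agent.H234.SN.CH.be Cfsg.Agent.H234.SN.CH.bep19; set_option synthInstance.maxSize 20000 in open scoped Cfsg.Agent.Lib.MatDec in decide +kernel))
  rw [pow_succ, h19]
  exact Units.ext (by decide +kernel)

def gap2 : (Matrix (Fin 6) (Fin 6) (ZMod 3))ˣ :=
  ⟨!![0, 2, 0, 0, 1, 2; 0, 0, 0, 0, 1, 1; 0, 0, 0, 0, 2, 1; 1, 1, 2, 0, 0, 0; 0, 0, 0, 1, 0, 1; 2, 1, 2, 2, 0, 2], !![0, 0, 0, 2, 1, 1; 2, 0, 2, 0, 0, 0; 2, 0, 2, 1, 1, 1; 0, 1, 1, 0, 1, 0; 0, 2, 1, 0, 0, 0; 0, 2, 2, 0, 0, 0], by decide +kernel, by decide +kernel⟩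

def gap3 : (Matrix (Fin 6) (Fin 6) (ZMod 3))ˣ :=
  ⟨!![1, 1, 2, 2, 2, 0; 1, 1, 1, 0, 0, 0; 1, 2, 0, 1, 2, 1; 0, 2, 2, 2, 2, 1; 0, 2, 1, 1, 2, 1; 0, 0, 2, 2, 2, 0], !![2, 1, 1, 0, 2, 1; 2, 2, 2, 0, 1, 1; 2, 1, 0, 0, 0, 1; 1, 2, 0, 1, 2, 2; 0, 0, 0, 2, 1, 2; 2, 2, 2, 1, 1, 0], by decide +kernel, by decide +kernel⟩

def gap4 : (Matrix (Fin 6) (Fin 6) (ZMod 3))ˣ :=
  ⟨!![1, 2, 1, 2, 2, 1; 2, 1, 2, 0, 0, 0; 2, 1, 2, 1, 0, 1; 0, 2, 0, 0, 0, 2; 0, 2, 1, 2, 0, 2; 0, 2, 2, 1, 1, 2], !![0, 0, 2, 0, 2, 0; 1, 0, 1, 0, 1, 1; 1, 2, 2, 0, 2, 1; 1, 2, 2, 1, 1, 1; 0, 0, 0, 1, 1, 1; 2, 0, 2, 2, 2, 2], by decide +kernel, by decide +kernel⟩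

def gap5 : (Matrix (Fin 6) (Fin 6) (ZMod 3))ˣ :=
  ⟨!![2, 1, 1, 2, 0, 1; 0, 2, 0, 0, 1, 1; 0, 1, 1, 1, 0, 2; 1, 0, 0, 1, 0, 2; 0, 2, 1, 1, 1, 1; 2, 2, 1, 2, 1, 1], !![1, 0, 2, 2, 0, 0; 2, 1, 2, 0, 1, 1; 2, 2, 1, 1, 2, 2; 1, 0, 2, 2, 2, 1; 0, 2, 1, 0, 2, 0; 2, 0, 1, 0, 2, 1], by decide +kernel, by decide +kernel⟩

def gap6 : (Matrix (Fin 6) (Fin 6) (ZMod 3))ˣ :=
  ⟨!![1, 2, 0, 1, 2, 0; 0, 1, 0, 0, 1, 1; 0, 0, 1, 2, 1, 0; 1, 2, 1, 1, 2, 0; 0, 1, 2, 1, 1, 1; 2, 0, 0, 2, 0, 0], !![1, 1, 0, 2, 2, 2; 2, 1, 2, 0, 2, 2; 2, 0, 0, 1, 0, 0; 2, 2, 0, 1, 1, 0; 0, 2, 1, 0, 1, 0; 1, 1, 0, 0, 0, 1], by decide +kernel, by decide +kernel⟩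

def gap7 : (Matrix (Fin 6) (Fin 6) (ZMod 3))ˣ :=
  ⟨!![1, 1, 0, 2, 2, 2; 2, 1, 2, 0, 2, 2; 2, 0, 0, 1, 0, 0; 2, 2, 0, 1, 1, 0; 0, 2, 1, 0, 1, 0; 1, 1, 0, 0, 0, 1], !![1, 2, 0, 1, 2, 0; 0, 1, 0, 0, 1, 1; 0, 0, 1, 2, 1, 0; 1, 2, 1, 1, 2, 0; 0, 1, 2, 1, 1, 1; 2, 0, 0, 2, 0, 0], by decide +kernel, by (set_option synthInstance.maxSize 20000 in open scoped Cfsg.Agent.Lib.MatDec in decide +kernel)⟩

def gap8 : (Matrix (Fin 6) (Fin 6) (ZMod 3))ˣ :=
  ⟨!![1, 0, 2, 2, 0, 0; 2, 1, 2, 0, 1, 1; 2, 2, 1, 1, 2, 2; 1, 0, 2, 2, 2, 1; 0, 2, 1, 0, 2, 0; 2, 0, 1, 0, 2, 1], !![2, 1, 1, 2, 0, 1; 0, 2, 0, 0, 1, 1; 0, 1, 1, 1, 0, 2; 1, 0, 0, 1, 0, 2; 0, 2, 1, 1, 1, 1; 2, 2, 1, 2, 1, 1], by decide +kernel, by decide +kernel⟩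

def gap9 : (Matrix (Fin 6) (Fin 6) (ZMod 3))ˣ :=
  ⟨!![0, 0, 2, 0, 2, 0; 1, 0, 1, 0, 1, 1; 1, 2, 2, 0, 2, 1; 1, 2, 2, 1, 1, 1; 0, 0, 0, 1, 1, 1; 2, 0, 2, 2, 2, 2], !![1, 2, 1, 2, 2, 1; 2, 1, 2, 0, 0, 0; 2, 1, 2, 1, 0, 1; 0, 2, 0, 0, 0, 2; 0, 2, 1, 2, 0, 2; 0, 2, 2, 1, 1, 2], by decide +kernel, by decide +kernel⟩

def gap10 : (Matrix (Fin 6) (Fin 6) (ZMod 3))ˣ :=
  ⟨!![2, 1, 1, 0, 2, 1; 2, 2, 2, 0, 1, 1; 2, 1, 0, 0, 0, 1; 1, 2, 0, 1, 2, 2; 0, 0, 0, 2, 1, 2; 2, 2, 2, 1, 1, 0], !![1, 1, 2, 2, 2, 0; 1, 1, 1, 0, 0, 0; 1, 2, 0, 1, 2, 1; 0, 2, 2, 2, 2, 1; 0, 2, 1, 1, 2, 1; 0, 0, 2, 2, 2, 0], by decide +kernel, by decide +kernel⟩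

def gap11 : (Matrix (Fin 6) (Fin 6) (ZMod 3))ˣ :=
  ⟨!![0, 0, 0, 2, 1, 1; 2, 0, 2, 0, 0, 0; 2, 0, 2, 1, 1, 1; 0, 1, 1, 0, 1, 0; 0, 2, 1, 0, 0, 0; 0, 2, 2, 0, 0, 0], !![0, 2, 0, 0, 1, 2; 0, 0, 0, 0, 1, 1; 0, 0, 0, 0, 2, 1; 1, 1, 2, 0, 0, 0; 0, 0, 0, 1, 0, 1; 2, 1, 2, 2, 0, 2], by decide +kernel, by decide +kernel⟩

def gap12 : (Matrix (Fin 6) (Fin 6) (ZMod 3))ˣ :=
  ⟨!![2, 2, 2, 1, 2, 1; 2, 2, 2, 0, 2, 2; 2, 2, 2, 2, 0, 1; 2, 2, 0, 0, 0, 1; 0, 1, 2, 2, 0, 2; 1, 2, 2, 1, 2, 0], !![0, 0, 1, 1, 2, 0; 1, 0, 1, 0, 2, 2; 1, 1, 0, 2, 2, 1; 2, 2, 2, 2, 1, 2; 0, 1, 2, 1, 2, 1; 1, 0, 2, 2, 1, 2], by decide +kernel, by decide +kernel⟩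

theorem ga_pow : ga ^ 13 = 1 := by
  have h1 : ga ^ 1 = ga := pow_one _
  have h2 : ga ^ 2 = gap2 := by rw [pow_succ, h1]; exact Units.ext (by (delta Cfsg.Agent.H234.SN.CH.ga Cfsg.Agent.H234.SN.CH.gap2; set_option synthInstance.maxSize 20000 in open scoped Cfsg.Agent.Lib.MatDec in decide +kernel))
  have h3 : ga ^ 3 = gap3 := by rw [pow_succ, h2]; exact Units.ext (by (delta Cfsg.Agent.H234.SN.CH.gap2 Cfsg.Agent.H234.SN.CH.ga Cfsg.Agent.H234.SN.CH.gap3; set_option synthInstance.maxSize 20000 in open scoped Cfsg.Agent.Lib.MatDec in decide +kernel))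
  have h4 : ga ^ 4 = gap4 := by rw [pow_succ, h3]; exact Units.ext (by (delta Cfsg.Agent.H234.SN.CH.gap3 Cfsg.Agent.H234.SN.CH.ga Cfsg.Agent.H234.SN.CH.gap4; set_option synthInstance.maxSize 20000 in open scoped Cfsg.Agent.Lib.MatDec in decide +kernel))
  have h5 : ga ^ 5 = gap5 := by rw [pow_succ, h4]; exact Units.ext (by (delta Cfsg.Agent.H234.SN.CH.gap4 Cfsg.Agent.H234.SN.CH.ga Cfsg.Agent.H234.SN.CH.gap5; set_option synthInstance.maxSize 20000 in open scoped Cfsg.Agent.Lib.MatDec in decide +kernel))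
  have h6 : ga ^ 6 = gap6 := by rw [pow_succ, h5]; exact Units.ext (by (delta Cfsg.Agent.H234.SN.CH.gap5 Cfsg.Agent.H234.SN.CH.ga Cfsg.Agent.H234.SN.CH.gap6; set_option synthInstance.maxSize 20000 in open scoped Cfsg.Agent.Lib.MatDec in decide +kernel))
  have h7 : ga ^ 7 = gap7 := by rw [pow_succ, h6]; exact Units.ext (by (delta Cfsg.Agent.H234.SN.CH.gap6 Cfsg.Agent.H234.SN.CH.ga Cfsg.Agent.H234.SN.CH.gap7; set_option synthInstance.maxSize 20000 in open scoped Cfsg.Agent.Lib.MatDec in decide +kernel))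
  have h8 : ga ^ 8 = gap8 := by rw [pow_succ, h7]; exact Units.ext (by (delta Cfsg.Agent.H234.SN.CH.gap7 Cfsg.Agent.H234.SN.CH.ga Cfsg.Agent.H234.SN.CH.gap8; set_option synthInstance.maxSize 20000 in open scoped Cfsg.Agent.Lib.MatDec in decide +kernel))
  have h9 : ga ^ 9 = gap9 := by rw [pow_succ, h8]; exact Units.ext (by (delta Cfsg.Agent.H234.SN.CH.gap8 Cfsg.Agent.H234.SN.CH.ga Cfsg.Agent.H234.SN.CH.gap9; set_option synthInstance.maxSize 20000 in open scoped Cfsg.Agent.Lib.MatDec in decide +kernel))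
  have h10 : ga ^ 10 = gap10 := by rw [pow_succ, h9]; exact Units.ext (by (delta Cfsg.Agent.H234.SN.CH.gap9 Cfsg.Agent.H234.SN.CH.ga Cfsg.Agent.H234.SN.CH.gap10; set_option synthInstance.maxSize 20000 in open scoped Cfsg.Agent.Lib.MatDec in decide +kernel))
  have h11 : ga ^ 11 = gap11 := by rw [pow_succ, h10]; exact Units.ext (by (delta Cfsg.Agent.H234.SN.CH.gap10 Cfsg.Agent.H234.SN.CH.ga Cfsg.Agent.H234.SN.CH.gap11; set_option synthInstance.maxSize 20000 in open scoped Cfsg.Agent.Lib.MatDec in decide +kernel))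
  have h12 : ga ^ 12 = gap12 := by rw [pow_succ, h11]; exact Units.ext (by (delta Cfsg.Agent.H234.SN.CH.gap11 Cfsg.Agent.H234.SN.CH.ga Cfsg.Agent.H234.SN.CH.gap12; set_option synthInstance.maxSize 20000 in open scoped Cfsg.Agent.Lib.MatDec in decide +kernel))
  rw [pow_succ, h12]
  exact Units.ext (by (delta Cfsg.Agent.H234.SN.CH.gap12 Cfsg.Agent.H234.SN.CH.ga; set_option synthInstance.maxSize 20000 in open scoped Cfsg.Agent.Lib.MatDec in decide +kernel))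

theorem al_ne : al ≠ 1 := by
  intro h
  have h1 := congrArg Units.val h
  revert h1
  decide

/-- **not solvable** -/
theorem not_solvable : ¬ Group.IsSolvable (Subgroup.closure ({g, k * g * k⁻¹} : Set (Matrix (Fin 6) (Fin 6) (ZMod 3))ˣ)) := by
  have hg : g ∈ Subgroup.closure ({g, k * g * k⁻¹} : Set (Matrix (Fin 6) (Fin 6) (ZMod 3))ˣ) := Subgroup.subset_closure (Or.inl rfl)
  have hy' : y ∈ Subgroup.closure ({g, k * g * k⁻¹} : Set (Matrix (Fin 6) (Fin 6) (ZMod 3))ˣ) := by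
    rw [← hy]
    exact Subgroup.subset_closure (Or.inr rfl)
  exact not_solvable_of_orders (p := 3) (q := 20) (r := 13) (by decide) (by decide) (by decide) al_pow be_pow
    (by rw [hga]; exact ga_pow) al_ne (al_mem hg hy') (be_mem hg hy')

theorem exists_k {F V : Type*} [Field F] [CharP F 3] [AddCommGroup V] [Module F V] {Q : QuadraticForm F V}
    {b : Fin 6 → V} {R : Submodule F V} {δ : F} (h : Fr Q b R δ G) :
    ∃ l ∈ E Q, (l, k) ∈ RelT b R := by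
  exact h.exists_siegel ![1, 0, 0, 2, 0, 0] ![0, 0, 2, 0, 0, 1] (by decide +kernel) (by decide +kernel) k1 (by decide +kernel)

theorem contra {F V : Type*} [Field F] [CharP F 3] [AddCommGroup V] [Module F V] {Q : QuadraticForm F V}
    {b : Fin 6 → V} {R : Submodule F V} {δ : F} (h : Fr Q b R δ G)
    {f : V ≃ₗ[F] V} (hh : (f, g) ∈ RelT b R)
    (hP : ∀ l ∈ E Q, Group.IsSolvable (Subgroup.closure {f, l * f * l⁻¹})) : False := by
  obtain ⟨l, hl, hlk⟩ := exists_k h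
  exact not_solvable (solvable_of_frame (h.ind hG) hh hlk (hP l hl))

end CH

end Cfsg.Agent.H234.SN
end

-- part: H234/SN/Geo
section
/-!
# Isometries of order three over the field with three elements (helper234, S3831 E4)

* `pw` : orthogonal complements of frames inside a nondegenerate subspace;
* `sq_zero` : `(g - 1) ^ 2 = 0` if `g ^ 3 = 1`, dimension at least seven, and `PSg`;
* `dep_of_polar` : rank two.
-/

set_option autoImplicit false
set_option linter.unusedSectionVars false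

namespace Cfsg.Agent.H234.SN

open QuadraticMap Module Matrix
open Cfsg.Agent.LieClassical.OrthCore

variable {F V : Type*} [Field F] [Fintype F] [CharP F 3] [AddCommGroup V] [Module F V] {Q : QuadraticForm F V}

/-- two conjugates under `E Q` generate a solvable group -/
def PSg (Q : QuadraticForm F V) (g : V ≃ₗ[F] V) : Prop :=
  ∀ l ∈ E Q, Group.IsSolvable (Subgroup.closure {g, l * g * l⁻¹})

theorem sq_one (hF : Fintype.card F = 3) {a : F} (ha : a ≠ 0) : a * a = 1 := by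
  have h := FiniteField.pow_card_sub_one_eq_one a ha
  rw [hF] at h
  rw [← pow_two]
  exact h

/-- `g - 1` -/
def nn (g : V ≃ₗ[F] V) : V →ₗ[F] V := g.toLinearMap - LinearMap.id

theorem nn_apply (g : V ≃ₗ[F] V) (v : V) : nn g v = g v - v := rfl

theorem apply_eq (g : V ≃ₗ[F] V) (v : V) : g v = v + nn g v := by
  rw [nn_apply]
  abel

theorem three_smul (v : V) : (3 : F) • v = 0 := by
  rw [three_eq_zero F, zero_smul]

theorem nn_three {g : V ≃ₗ[F] V} (h3 : ∀ v, g (g (g v)) = v) (v : V) : nn g (nn g (nn g v)) = 0 := by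
  simp only [nn_apply, map_sub, h3]
  have e : v - g (g v) - (g (g v) - g v) - (g (g v) - g v - (g v - v)) = -((3 : F) • g (g v)) + (3 : F) • g v := by
    module
  rw [e, three_smul, three_smul, neg_zero, add_zero]

/-- the basic relation -/
theorem polar_nn {g : V ≃ₗ[F] V} (hg : g ∈ O Q) (x y : V) :
    polar Q (nn g x) y + polar Q x (nn g y) + polar Q (nn g x) (nn g y) = 0 := by
  have h := polar_map hg x y
  rw [apply_eq g x, apply_eq g y, polar_add_left, polar_add_right, polar_add_right] at h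
  linear_combination h

/-- nondegenerate subspaces -/
def Nd (Q : QuadraticForm F V) (W : Submodule F V) : Prop := ∀ x ∈ W, (∀ y ∈ W, polar Q x y = 0) → x = 0

/-- the complement of a family of vectors in a subspace -/
def pw (Q : QuadraticForm F V) {n : ℕ} (W : Submodule F V) (b : Fin n → V) : Submodule F V where
  carrier := {x | x ∈ W ∧ ∀ j, polar Q (b j) x = 0}
  zero_mem' := ⟨W.zero_mem, fun j => polar_zero_right Q _⟩
  add_mem' := by
    rintro x y ⟨h1, h2⟩ ⟨h3, h4⟩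
    exact ⟨W.add_mem h1 h3, fun j => by rw [polar_add_right, h2, h4, add_zero]⟩
  smul_mem' := by
    rintro c x ⟨h1, h2⟩
    exact ⟨W.smul_mem c h1, fun j => by rw [polar_smul_right, h2, smul_zero]⟩

theorem polar_sum_right' {ι : Type*} (s : Finset ι) (f : ι → V) (y : V) :
    polar Q y (∑ i ∈ s, f i) = ∑ i ∈ s, polar Q y (f i) := by
  rw [polar_comm, polar_sum_left]
  exact Finset.sum_congr rfl fun i _ => polar_comm _ _ _

theorem nd_pw {n : ℕ} {W : Submodule F V} (hW : Nd Q W) {b : Fin n → V} (hb : ∀ j, b j ∈ W)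
    {R : Submodule F V} {δ : F} {G G' : Matrix (Fin n) (Fin n) (ZMod 3)} (h : Fr Q b R δ G) (hG : G * G' = 1) :
    Nd Q (pw Q W b) := by
  rintro x ⟨hxW, hxb⟩ hx
  apply hW x hxW
  intro z hz
  set c : Fin n → F := fun j => δ * ∑ l, ph F (G' j l) * polar Q (b l) z with hc
  set s : V := ∑ j, c j • b j with hs
  have hsW : s ∈ W := W.sum_mem fun j _ => W.smul_mem _ (hb j)
  have hbs : ∀ k, polar Q (b k) s = polar Q (b k) z := by
    intro k
    rw [hs, polar_sum_right']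
    have h1 : ∀ j, polar Q (b k) (c j • b j) = ∑ l, ph F (G k j * G' j l) * polar Q (b l) z := by
      intro j
      rw [polar_smul_right, h.gram, smul_eq_mul, hc]
      simp only [map_mul]
      have e : δ * (∑ l, ph F (G' j l) * polar Q (b l) z) * (δ * ph F (G k j)) =
          ph F (G k j) * ∑ l, ph F (G' j l) * polar Q (b l) z := by
        linear_combination (ph F (G k j) * ∑ l, ph F (G' j l) * polar Q (b l) z) * h.dd
      rw [e, Finset.mul_sum]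
      refine Finset.sum_congr rfl fun l _ => ?_
      ring
    simp only [h1]
    rw [Finset.sum_comm]
    have h2 : ∀ l, ∑ j, ph F (G k j * G' j l) * polar Q (b l) z = ph F ((G * G') k l) * polar Q (b l) z := by
      intro l
      rw [← Finset.sum_mul, ← map_sum, Matrix.mul_apply]
    simp only [h2, hG]
    rw [Finset.sum_eq_single k]
    · rw [Matrix.one_apply_eq, map_one, one_mul]
    · intro l _ hl
      rw [Matrix.one_apply_ne (Ne.symm hl), map_zero, zero_mul]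
    · intro hk
      exact absurd (Finset.mem_univ k) hk
  have hzs : z - s ∈ pw Q W b := ⟨W.sub_mem hz hsW, fun j => by rw [polar_sub_right, hbs, sub_self]⟩
  have h3 := hx _ hzs
  rw [polar_sub_right] at h3
  have h4 : polar Q x s = 0 := by
    rw [hs, polar_sum_right']
    exact Finset.sum_eq_zero fun j _ => by rw [polar_smul_right, polar_comm, hxb, smul_zero]
  rw [h4, sub_zero] at h3
  exact h3

theorem finrank_pw [FiniteDimensional F V] {n : ℕ} (W : Submodule F V) (b : Fin n → V) :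
    finrank F W ≤ finrank F (pw Q W b) + n := by
  let f : W →ₗ[F] (Fin n → F) := LinearMap.pi fun j => (polarBilin Q (b j)).comp W.subtype
  have h2 := LinearMap.finrank_range_add_finrank_ker f
  have h3 : finrank F (LinearMap.range f) ≤ finrank F (Fin n → F) := Submodule.finrank_le _
  rw [finrank_fin_fun] at h3
  let e : LinearMap.ker f →ₗ[F] pw Q W b :=
    { toFun := fun x => ⟨x.1.1, x.1.2, fun j => congrFun (LinearMap.mem_ker.1 x.2) j⟩
      map_add' := fun _ _ => rfl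
      map_smul' := fun _ _ => rfl }
  have h4 : finrank F (LinearMap.ker f) ≤ finrank F (pw Q W b) := by
    apply LinearMap.finrank_le_finrank_of_injective (f := e)
    intro x y hxy
    exact Subtype.ext (Subtype.ext (congrArg (fun z : pw Q W b => (z : V)) hxy))
  omega

theorem nd_top (hQ : Nondeg Q) : Nd Q (⊤ : Submodule F V) := fun x _ h => hQ x fun y => h y Submodule.mem_top

/-- a nonsingular vector -/
theorem Nd.exists_ns {W : Submodule F V} (hW : Nd Q W) (h0 : W ≠ ⊥) : ∃ x ∈ W, polar Q x x ≠ 0 := by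
  by_contra hcon
  push Not at hcon
  obtain ⟨x, hx, hx0⟩ := (Submodule.ne_bot_iff _).1 h0
  apply hx0
  apply hW x hx
  intro y hy
  have h1 := hcon (x + y) (W.add_mem hx hy)
  rw [polar_add_left, polar_add_right, polar_add_right, hcon x hx, hcon y hy, polar_comm Q y x] at h1
  linear_combination -h1 + (polar Q x y) * three_eq_zero F

/-- invariant subspaces: complements of invariant families -/
theorem pw_inv {n : ℕ} {g : V ≃ₗ[F] V} (hg : g ∈ O Q) {W : Submodule F V} (hW : ∀ x ∈ W, nn g x ∈ W)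
    (b : Fin n → V) (k : ℕ) (hk : ∀ j, ((nn g) ^ k) (b j) = 0)
    (hb : ∀ j, nn g (b j) ∈ Submodule.span F (Set.range b)) :
    ∀ x ∈ pw Q W b, nn g x ∈ pw Q W b := by
  rintro x ⟨hxW, hx⟩
  refine ⟨hW x hxW, ?_⟩
  set S := Submodule.span F (Set.range b) with hS
  have hSx : ∀ y ∈ S, polar Q y x = 0 := by
    intro y hy
    induction hy using Submodule.span_induction with
    | mem y hy =>
      obtain ⟨j, rfl⟩ := hy
      exact hx j
    | zero => exact polar_zero_left Q x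
    | add y z _ _ h1 h2 => rw [polar_add_left, h1, h2, add_zero]
    | smul c y _ h1 => rw [polar_smul_left, h1, smul_zero]
  have hSN : ∀ y ∈ S, nn g y ∈ S := by
    intro y hy
    induction hy using Submodule.span_induction with
    | mem y hy =>
      obtain ⟨j, rfl⟩ := hy
      exact hb j
    | zero => rw [map_zero]; exact S.zero_mem
    | add y z _ _ h1 h2 => rw [map_add]; exact S.add_mem h1 h2
    | smul c y _ h1 => rw [map_smul]; exact S.smul_mem _ h1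
  have key : ∀ m, ∀ y ∈ S, ((nn g) ^ m) y = 0 → polar Q y (nn g x) = 0 := by
    intro m
    induction m with
    | zero =>
      intro y _ hy
      rw [pow_zero] at hy
      have : y = 0 := hy
      rw [this, polar_zero_left]
    | succ m ih =>
      intro y hyS hy
      have h1 : polar Q (nn g y) (nn g x) = 0 := by
        refine ih (nn g y) (hSN y hyS) ?_
        have e : ((nn g) ^ m) (nn g y) = ((nn g) ^ (m + 1)) y := by rw [pow_succ]; rfl
        rw [e, hy]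
      have h2 := polar_nn hg y x
      rw [h1, hSx _ (hSN y hyS)] at h2
      linear_combination h2
  exact fun j => key k (b j) (Submodule.subset_span ⟨j, rfl⟩) (hk j)

/-! ### `(g - 1) ^ 2 = 0` -/

section Sq

variable {g : V ≃ₗ[F] V} (hg : g ∈ O Q) (h3 : ∀ v, nn g (nn g (nn g v)) = 0)

include hg h3 in
theorem rel_three (v : V) : polar Q (nn g (nn g v)) (nn g (nn g v)) = 0 ∧ polar Q (nn g v) (nn g (nn g v)) = 0 ∧
    polar Q v (nn g (nn g v)) = -polar Q (nn g v) (nn g v) ∧ polar Q v (nn g v) = polar Q (nn g v) (nn g v) := by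
  have r1 := polar_nn hg (nn g v) (nn g (nn g v))
  rw [h3, polar_zero_right, polar_zero_right, add_zero, add_zero] at r1
  have r2 := polar_nn hg (nn g v) (nn g v)
  rw [r1, polar_comm Q (nn g (nn g v)) (nn g v), add_zero] at r2
  have r3 : polar Q (nn g v) (nn g (nn g v)) = 0 := by
    linear_combination -r2 + polar Q (nn g v) (nn g (nn g v)) * three_eq_zero F
  have r4 := polar_nn hg v (nn g v)
  rw [r3, add_zero] at r4
  have r5 := polar_nn hg v v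
  rw [polar_comm Q (nn g v) v] at r5
  refine ⟨r1, r3, by linear_combination r4, ?_⟩
  linear_combination -r5 + polar Q v (nn g v) * three_eq_zero F

include hg h3 in
/-- the chain of a vector with `polar (N v) (N v) = δ` -/
theorem frame_three {v : V} {δ : F} (hδ : δ * δ = 1) (h0 : polar Q v v = 0) (h1 : polar Q (nn g v) (nn g v) = δ) :
    Fr Q ![v, nn g v, nn g (nn g v)] (⊥ : Submodule F V) δ !![0, 1, 2; 1, 1, 0; 2, 0, 0] := by
  obtain ⟨r1, r2, r3, r4⟩ := rel_three hg h3 v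
  rw [h1] at r3 r4
  have two : (2 : F) = -1 := by linear_combination three_eq_zero F
  have p2 : ph F 2 = -1 := by rw [map_ofNat, two]
  refine ⟨hδ, ?_, ?_⟩
  · intro i j
    (revert i j; simp only [r1, r2, r3, r4, h0, h1, p2, polar_comm Q (nn g v) v, polar_comm Q (nn g (nn g v)) v, polar_comm Q (nn g (nn g v)) (nn g v), _root_.Fin.forall_fin_succ, _root_.Nat.succ_eq_add_one, Nat.reduceAdd, _root_.Matrix.of_apply, _root_.Matrix.cons_val', _root_.Matrix.cons_val_fin_one, Fin.isValue, _root_.Matrix.cons_val_zero, _root_.Matrix.cons_val_succ, _root_.forall_const, _root_.map_zero, _root_.MulZeroClass.mul_zero, _root_.map_one, _root_.mul_one, _root_.mul_neg, _root_.and_self, _root_.implies_true])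
  · intro i r hr
    rw [Submodule.mem_bot] at hr
    rw [hr, polar_zero_right]

include hg h3 in
theorem polar_nn_two (x y : V) : polar Q (nn g (nn g x)) y = polar Q x (nn g (nn g y)) ∧
    polar Q (nn g x) (nn g y) = -polar Q (nn g (nn g x)) y := by
  have r1 := polar_nn hg (nn g x) y
  have r2 := polar_nn hg x (nn g y)
  have r3 : polar Q (nn g (nn g x)) (nn g y) = 0 := by
    have := polar_nn hg (nn g (nn g x)) y
    rw [h3, polar_zero_left, polar_zero_left, zero_add, add_zero] at this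
    exact this
  have r4 : polar Q (nn g x) (nn g (nn g y)) = 0 := by
    have := polar_nn hg x (nn g (nn g y))
    rw [h3, polar_zero_right, polar_zero_right, add_zero, add_zero] at this
    exact this
  rw [r3, add_zero] at r1
  rw [r4, add_zero] at r2
  exact ⟨by linear_combination r1 - r2, by linear_combination r1⟩

include hg h3 in
theorem sq_zero_on {W : Submodule F V} (hW : Nd Q W) (hinv : ∀ x ∈ W, nn g x ∈ W)
    (h : ∀ v ∈ W, polar Q (nn g (nn g v)) v = 0) : ∀ v ∈ W, nn g (nn g v) = 0 := by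
  intro x hx
  apply hW _ (hinv _ (hinv _ hx))
  intro y hy
  have h1 := h (x + y) (W.add_mem hx hy)
  rw [map_add, map_add, polar_add_left, polar_add_right, polar_add_right, h x hx, h y hy,
    (polar_nn_two hg h3 y x).1, polar_comm Q y] at h1
  linear_combination -h1 + polar Q (nn g (nn g x)) y * three_eq_zero F

include hg h3 in
theorem exists_ker_ns {W : Submodule F V} (hW : Nd Q W) (hinv : ∀ x ∈ W, nn g x ∈ W) (h0 : W ≠ ⊥) :
    ∃ y ∈ W, nn g (nn g y) = 0 ∧ polar Q y y ≠ 0 := by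
  by_cases h : ∃ v ∈ W, polar Q (nn g (nn g v)) v ≠ 0
  · obtain ⟨v, hv, h1⟩ := h
    refine ⟨nn g v, hinv v hv, h3 v, ?_⟩
    rw [(polar_nn_two hg h3 v v).2]
    exact neg_ne_zero.2 h1
  · push Not at h
    obtain ⟨y, hy, h1⟩ := hW.exists_ns h0
    exact ⟨y, hy, sq_zero_on hg h3 hW hinv h y hy, h1⟩

include hg h3 in
/-- normalisation of a vector -/
theorem exists_norm (hF : Fintype.card F = 3) {v : V} (hv : polar Q (nn g (nn g v)) v ≠ 0) :
    ∃ μ : F, polar Q (v + μ • nn g (nn g v)) (v + μ • nn g (nn g v)) = 0 ∧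
      nn g (v + μ • nn g (nn g v)) = nn g v := by
  obtain ⟨r1, r2, r3, r4⟩ := rel_three hg h3 v
  have h1 : polar Q v (nn g (nn g v)) ≠ 0 := by rwa [polar_comm]
  have h2 := sq_one hF h1
  refine ⟨polar Q v v * polar Q v (nn g (nn g v)), ?_, ?_⟩
  · rw [polar_add_left, polar_add_right, polar_add_right, polar_smul_left, polar_smul_left, polar_smul_right,
      polar_smul_right, r1, polar_comm Q (nn g (nn g v)) v]
    simp only [smul_eq_mul]
    linear_combination (2 * polar Q v v) * h2 + polar Q v v * three_eq_zero F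
  · rw [map_add, map_smul, h3, smul_zero, add_zero]

theorem fr_single {x : V} {δ : F} (hδ : δ * δ = 1) (h : polar Q x x = δ) :
    Fr Q ![x] (⊥ : Submodule F V) δ !![1] := by
  refine ⟨hδ, ?_, ?_⟩
  · intro i j
    fin_cases i
    fin_cases j
    simp [h]
  · intro i r hr
    rw [Submodule.mem_bot] at hr
    rw [hr, polar_zero_right]

theorem pw_ne_bot [FiniteDimensional F V] {n : ℕ} {W : Submodule F V} {b : Fin n → V} (h : n + 1 ≤ finrank F W) :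
    pw Q W b ≠ ⊥ := by
  intro h1
  have h2 := finrank_pw (Q := Q) W b
  rw [h1, finrank_bot] at h2
  omega

include hg h3 in
theorem chain_inv {W : Submodule F V} (hinv : ∀ x ∈ W, nn g x ∈ W) (v : V) :
    ∀ x ∈ pw Q W ![v, nn g v, nn g (nn g v)], nn g x ∈ pw Q W ![v, nn g v, nn g (nn g v)] := by
  refine pw_inv hg hinv _ 3 (fun j => ?_) fun j => ?_
  · have e : ∀ y, ((nn g) ^ 3) y = nn g (nn g (nn g y)) := fun y => by
      rw [pow_succ, pow_succ, pow_one]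
      rfl
    rw [e, h3]
  · fin_cases j
    · exact Submodule.subset_span ⟨1, rfl⟩
    · exact Submodule.subset_span ⟨2, rfl⟩
    · change nn g (nn g (nn g v)) ∈ _
      rw [h3]
      exact Submodule.zero_mem _

include hg h3 in
theorem exists_pair [FiniteDimensional F V] (hF : Fintype.card F = 3) {W : Submodule F V} (hW : Nd Q W)
    (hinv : ∀ x ∈ W, nn g x ∈ W) (h4 : 4 ≤ finrank F W) :
    ∃ x ∈ W, ∃ y ∈ W, nn g (nn g x) = 0 ∧ nn g (nn g y) = 0 ∧ polar Q x y = 0 ∧ polar Q x x ≠ 0 ∧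
      polar Q y y ≠ 0 := by
  by_cases h : ∃ v ∈ W, polar Q (nn g (nn g v)) v ≠ 0
  · obtain ⟨v, hv, h1⟩ := h
    obtain ⟨μ, h5, h6⟩ := exists_norm hg h3 hF h1
    set v' := v + μ • nn g (nn g v) with hv'
    have hv'W : v' ∈ W := W.add_mem hv (W.smul_mem _ (hinv _ (hinv _ hv)))
    have h7 : polar Q (nn g v') (nn g v') ≠ 0 := by
      rw [h6, (polar_nn_two hg h3 v v).2]
      exact neg_ne_zero.2 h1
    have hfr := frame_three hg h3 (sq_one hF h7) h5 rfl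
    have hnd := nd_pw hW (b := ![v', nn g v', nn g (nn g v')]) (fun j => by
      fin_cases j
      · exact hv'W
      · exact hinv _ hv'W
      · exact hinv _ (hinv _ hv'W)) hfr (G' := !![0, 0, 2; 0, 1, 1; 2, 1, 1]) (by decide)
    obtain ⟨y, hy, hy1, hy2⟩ := exists_ker_ns hg h3 hnd (chain_inv hg h3 hinv v') (pw_ne_bot (by omega))
    exact ⟨nn g v', hinv _ hv'W, y, hy.1, h3 v', hy1, hy.2 1, h7, hy2⟩
  · push Not at h
    obtain ⟨x, hx, h1⟩ := hW.exists_ns (by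
      rintro rfl
      rw [finrank_bot] at h4
      omega)
    have hfr := fr_single (sq_one hF h1) (rfl : polar Q x x = polar Q x x)
    have hnd := nd_pw hW (b := ![x]) (fun j => by fin_cases j; exact hx) hfr (G' := !![1]) (by decide)
    obtain ⟨y, hy, hy2⟩ := hnd.exists_ns (pw_ne_bot (by omega))
    exact ⟨x, hx, y, hy.1, sq_zero_on hg h3 hW hinv h x hx, sq_zero_on hg h3 hW hinv h y hy.1, hy.2 0, h1, hy2⟩

end Sq

theorem eq_or_neg {a δ : F} (hF : Fintype.card F = 3) (ha : a ≠ 0) (hδ : δ * δ = 1) : a = δ ∨ a = -δ := by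
  have h := sq_one hF ha
  have h1 : (a - δ) * (a + δ) = 0 := by linear_combination h - hδ
  rcases mul_eq_zero.1 h1 with h2 | h2
  · exact Or.inl (sub_eq_zero.1 h2)
  · exact Or.inr (eq_neg_of_add_eq_zero_left h2)

/-- **`(g - 1) ^ 2 = 0`** -/
theorem sq_zero [FiniteDimensional F V] (hF : Fintype.card F = 3) (hQ : Nondeg Q) (h7 : 7 ≤ finrank F V)
    {g : V ≃ₗ[F] V} (hg : g ∈ O Q) (h3 : ∀ v, nn g (nn g (nn g v)) = 0) (hP : PSg Q g) (v : V) :
    nn g (nn g v) = 0 := by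
  by_contra hv0
  have hex : ∃ v ∈ (⊤ : Submodule F V), polar Q (nn g (nn g v)) v ≠ 0 := by
    by_contra hcon
    push Not at hcon
    exact hv0 (sq_zero_on hg h3 (nd_top hQ) (fun _ _ => Submodule.mem_top) hcon v Submodule.mem_top)
  obtain ⟨v1, -, h1⟩ := hex
  obtain ⟨μ, h5, h6⟩ := exists_norm hg h3 hF h1
  set v' := v1 + μ • nn g (nn g v1) with hv'
  have h8 : polar Q (nn g v') (nn g v') ≠ 0 := by
    rw [h6, (polar_nn_two hg h3 v1 v1).2]
    exact neg_ne_zero.2 h1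
  set δ := polar Q (nn g v') (nn g v') with hδd
  have hδ : δ * δ = 1 := sq_one hF h8
  have hfr := frame_three hg h3 hδ h5 hδd.symm
  have hnd := nd_pw (nd_top hQ) (b := ![v', nn g v', nn g (nn g v')]) (fun j => Submodule.mem_top) hfr
    (G' := !![0, 0, 2; 0, 1, 1; 2, 1, 1]) (by decide)
  have hfin : finrank F (⊤ : Submodule F V) = finrank F V := finrank_top F V
  have h9 := finrank_pw (Q := Q) (⊤ : Submodule F V) ![v', nn g v', nn g (nn g v')]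
  obtain ⟨x, hx, y, hy, hx2, hy2, hxy, hxx, hyy⟩ := exists_pair hg h3 hF hnd
    (chain_inv hg h3 (fun _ _ => Submodule.mem_top) v') (by omega)
  obtain ⟨c, hc, hc2, hcc⟩ : ∃ c ∈ pw Q ⊤ ![v', nn g v', nn g (nn g v')], nn g (nn g c) = 0 ∧ polar Q c c = δ := by
    rcases eq_or_neg hF hxx hδ with h10 | h10
    · exact ⟨x, hx, hx2, h10⟩
    rcases eq_or_neg hF hyy hδ with h11 | h11
    · exact ⟨y, hy, hy2, h11⟩
    refine ⟨x + y, Submodule.add_mem _ hx hy, by rw [map_add, map_add, hx2, hy2, add_zero], ?_⟩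
    rw [polar_add_left, polar_add_right, polar_add_right, polar_comm Q y x, hxy, h10, h11]
    linear_combination (-δ) * three_eq_zero F
  have hNc : nn g c ∈ pw Q ⊤ ![v', nn g v', nn g (nn g v')] :=
    chain_inv hg h3 (fun _ _ => Submodule.mem_top) v' c hc
  have s1 : polar Q (nn g c) (nn g c) = 0 := by
    rw [(polar_nn_two hg h3 c c).2, hc2, polar_zero_left, neg_zero]
  have s2 : polar Q c (nn g c) = 0 := by
    have := (rel_three hg h3 c).2.2.2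
    rw [this, s1]
  have p2 : ph F 2 = -1 := by
    rw [map_ofNat]
    linear_combination three_eq_zero F
  obtain ⟨r1, r2, r3, r4⟩ := rel_three hg h3 v'
  rw [← hδd] at r3 r4
  have c0 : polar Q v' c = 0 := hc.2 0
  have c1 : polar Q (nn g v') c = 0 := hc.2 1
  have c2 : polar Q (nn g (nn g v')) c = 0 := hc.2 2
  have d0 : polar Q v' (nn g c) = 0 := hNc.2 0
  have d1 : polar Q (nn g v') (nn g c) = 0 := hNc.2 1
  have d2 : polar Q (nn g (nn g v')) (nn g c) = 0 := hNc.2 2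
  have hframe : Fr Q ![v', nn g v', nn g (nn g v'), c] (Submodule.span F {nn g c}) δ CA.G := by
    refine ⟨hδ, ?_, ?_⟩
    · intro i j
      (revert i j; simp only [CA.G, r1, r2, r3, r4, h5, ← hδd, p2, polar_comm Q (nn g v') v', polar_comm Q (nn g (nn g v')) v', polar_comm Q (nn g (nn g v')) (nn g v'), c0, c1, c2, hcc, polar_comm Q c, _root_.Fin.forall_fin_succ, _root_.Nat.succ_eq_add_one, Nat.reduceAdd, _root_.Matrix.of_apply, _root_.Matrix.cons_val', _root_.Matrix.cons_val_fin_one, Fin.isValue, _root_.Matrix.cons_val_zero, _root_.Matrix.cons_val_succ, _root_.forall_const, _root_.map_zero, _root_.MulZeroClass.mul_zero, _root_.map_one, _root_.mul_one, _root_.mul_neg, _root_.and_self, _root_.implies_true])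
    · intro i r hr
      obtain ⟨a, rfl⟩ := Submodule.mem_span_singleton.1 hr
      rw [polar_smul_right]
      (revert i; simp only [d0, d1, d2, s2, _root_.Fin.forall_fin_succ, _root_.Nat.succ_eq_add_one, Nat.reduceAdd, _root_.smul_eq_mul, _root_.mul_eq_zero, Fin.isValue, _root_.Matrix.cons_val_zero, _root_.or_true, _root_.Matrix.cons_val_succ, _root_.Matrix.cons_val_fin_one, _root_.implies_true, _root_.and_self])
  have hgNc : g (nn g c) = nn g c := by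
    rw [apply_eq, hc2, add_zero]
  have hmem : (g, CA.g) ∈ RelT ![v', nn g v', nn g (nn g v'), c] (Submodule.span F {nn g c}) := by
    refine mem_RelT_of (fun j => ?_) fun r => ?_
    · fin_cases j
      · simp only [CA.g, Fin.sum_univ_succ, apply_eq g v', _root_.Nat.succ_eq_add_one, _root_.Nat.reduceAdd, _root_.Fin.zero_eta, _root_.Fin.isValue, _root_.Matrix.cons_val_zero, _root_.Cfsg.Agent.H234.SN.CA.g, _root_.Matrix.of_apply, _root_.Matrix.cons_val', _root_.Matrix.cons_val_fin_one, _root_.Fin.sum_univ_succ, _root_.map_one, _root_.one_smul, _root_.Matrix.cons_val_succ, _root_.map_zero, _root_.zero_smul, _root_.Finset.univ_unique, _root_.Fin.default_eq_zero, _root_.Finset.sum_const_zero, _root_.add_zero, _root_.sub_self, _root_.ZeroMemClass.zero_mem]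
      · simp only [CA.g, Fin.sum_univ_succ, apply_eq g (nn g v'), _root_.Nat.succ_eq_add_one, _root_.Nat.reduceAdd, _root_.Fin.mk_one, _root_.Fin.isValue, _root_.Matrix.cons_val_one, _root_.Matrix.cons_val_zero, _root_.Cfsg.Agent.H234.SN.CA.g, _root_.Matrix.of_apply, _root_.Matrix.cons_val', _root_.Matrix.cons_val_fin_one, _root_.Fin.sum_univ_succ, _root_.map_zero, _root_.zero_smul, _root_.Matrix.cons_val_succ, _root_.map_one, _root_.one_smul, _root_.Finset.univ_unique, _root_.Fin.default_eq_zero, _root_.Finset.sum_const_zero, _root_.add_zero, _root_.zero_add, _root_.sub_self, _root_.ZeroMemClass.zero_mem]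
      · simp [CA.g, Fin.sum_univ_succ, apply_eq g (nn g (nn g v')), h3]
      · simp [CA.g, Fin.sum_univ_succ, apply_eq g c]
    · rw [Submodule.mem_span_singleton, Submodule.mem_span_singleton]
      constructor
      · rintro ⟨a, ha⟩
        exact ⟨a, g.injective (by rw [map_smul, hgNc, ha])⟩
      · rintro ⟨a, rfl⟩
        exact ⟨a, by rw [map_smul, hgNc]⟩
  exact CA.contra hframe hmem hP

end Cfsg.Agent.H234.SN
end

-- part: H234/SN/LongRoot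
section
/-!
# Long root elements (helper234, S3831 E4)

* `exists_targets`;
* `LR` : `g = 1 + N` with `N ^ 2 = 0`, `N` of rank two; `lr_of_order_three`.
-/

set_option autoImplicit false
set_option linter.unusedSectionVars false

namespace Cfsg.Agent.H234.SN

open QuadraticMap Module Matrix
open Cfsg.Agent.LieClassical.OrthCore

variable {F V : Type*} [Field F] [Fintype F] [CharP F 3] [AddCommGroup V] [Module F V] {Q : QuadraticForm F V}

theorem exists_targets (hQ : Nondeg Q) {m : ℕ} {w : Fin m → V} (hw : LinearIndependent F w) (t : Fin m → F) :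
    ∃ z : V, ∀ j, polar Q z (w j) = t j := by
  let f : V →ₗ[F] (Fin m → F) := LinearMap.pi fun j => polarBilin Q (w j)
  have htop : LinearMap.range f = ⊤ := by
    by_contra hne
    obtain ⟨φ, hφ, hle⟩ := Submodule.exists_le_ker_of_lt_top _ (lt_of_le_of_ne le_top hne)
    apply hφ
    have h1 : ∀ s : Fin m → F, φ s = ∑ j, s j * φ (Pi.single j 1) := by
      intro s
      conv_lhs => rw [← Finset.univ_sum_single s, map_sum]
      refine Finset.sum_congr rfl fun j _ => ?_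
      have e : Pi.single j (s j) = s j • (Pi.single j 1 : Fin m → F) := by
        rw [← Pi.single_smul, smul_eq_mul, mul_one]
      rw [e, map_smul, smul_eq_mul]
    have h2 : ∑ j, φ (Pi.single j 1) • w j = 0 := by
      apply hQ
      intro z
      rw [polar_sum_left]
      have h3 : φ (f z) = 0 := hle ⟨z, rfl⟩
      rw [h1] at h3
      rw [← h3]
      refine Finset.sum_congr rfl fun j _ => ?_
      rw [polar_smul_left, smul_eq_mul, mul_comm]
      rfl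
    have h3 := Fintype.linearIndependent_iff.1 hw _ h2
    apply LinearMap.ext
    intro s
    rw [h1]
    exact Finset.sum_eq_zero fun j _ => by rw [h3, mul_zero]
  have hmem : t ∈ LinearMap.range f := by rw [htop]; exact Submodule.mem_top
  obtain ⟨z, hz⟩ := hmem
  refine ⟨z, fun j => ?_⟩
  rw [polar_comm, ← hz]
  rfl

theorem ind_of_li {m : ℕ} {b : Fin m → V} (hb : LinearIndependent F b) (a : Fin m → ZMod 3)
    (h : comb (F := F) b a ∈ (⊥ : Submodule F V)) : a = 0 := by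
  rw [Submodule.mem_bot] at h
  funext i
  exact (map_eq_zero_iff _ (ph_injective F)).1 (Fintype.linearIndependent_iff.1 hb _ h i)

/-- long root elements: `g = 1 + N`, `N ^ 2 = 0`, rank two -/
structure LR (Q : QuadraticForm F V) (g : V ≃ₗ[F] V) : Prop where
  sq : ∀ v, nn g (nn g v) = 0
  skew : ∀ x y, polar Q (nn g x) y = -polar Q x (nn g y)
  sing : ∀ x y, polar Q (nn g x) (nn g y) = 0
  dep : ∀ v w, polar Q (nn g v) w = 0 → ∃ a b : F, (a ≠ 0 ∨ b ≠ 0) ∧ a • nn g v + b • nn g w = 0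

theorem polar_of_sq {g : V ≃ₗ[F] V} (hg : g ∈ O Q) (h2 : ∀ v, nn g (nn g v) = 0) (x y : V) :
    polar Q (nn g x) (nn g y) = 0 ∧ polar Q (nn g x) y = -polar Q x (nn g y) := by
  have h1 := (polar_nn_two hg (fun v => by rw [h2]) x y).2
  rw [h2, polar_zero_left, neg_zero] at h1
  have h3 := polar_nn hg x y
  rw [h1, add_zero] at h3
  exact ⟨h1, by linear_combination h3⟩

theorem self_zero {g : V ≃ₗ[F] V} (h : ∀ x y, polar Q (nn g x) y = -polar Q x (nn g y)) (x : V) :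
    polar Q (nn g x) x = 0 := by
  have h1 := h x x
  rw [polar_comm Q x] at h1
  linear_combination -h1 + polar Q (nn g x) x * three_eq_zero F

/-- **rank two** -/
theorem dep_of_polar (hQ : Nondeg Q)
    {g : V ≃ₗ[F] V} (hg : g ∈ O Q) (h2 : ∀ v, nn g (nn g v) = 0) (hP : PSg Q g) {v w : V}
    (hvw : polar Q (nn g v) w = 0) : ∃ a b : F, (a ≠ 0 ∨ b ≠ 0) ∧ a • nn g v + b • nn g w = 0 := by
  by_contra hcon
  push Not at hcon
  have hli2 : ∀ a b : F, a • nn g v + b • nn g w = 0 → a = 0 ∧ b = 0 := by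
    intro a b hab
    by_contra h
    rw [not_and_or] at h
    exact hcon a b h hab
  have hli : LinearIndependent F ![nn g v, nn g w] := by
    rw [LinearIndependent.pair_iff]
    exact hli2
  have hs : ∀ x y, polar Q (nn g x) (nn g y) = 0 := fun x y => (polar_of_sq hg h2 x y).1
  have hk : ∀ x y, polar Q (nn g x) y = -polar Q x (nn g y) := fun x y => (polar_of_sq hg h2 x y).2
  obtain ⟨z1, hz1⟩ := exists_targets hQ hli ![-polar Q v v, -polar Q v w]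
  obtain ⟨z2, hz2⟩ := exists_targets hQ hli ![-polar Q v w, -polar Q w w]
  have a11 : polar Q (nn g z1) v = polar Q v v := by
    rw [hk, (show polar Q z1 (nn g v) = -polar Q v v from hz1 0), neg_neg]
  have a12 : polar Q (nn g z1) w = polar Q v w := by
    rw [hk, (show polar Q z1 (nn g w) = -polar Q v w from hz1 1), neg_neg]
  have a21 : polar Q (nn g z2) v = polar Q v w := by
    rw [hk, (show polar Q z2 (nn g v) = -polar Q v w from hz2 0), neg_neg]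
  have a22 : polar Q (nn g z2) w = polar Q w w := by
    rw [hk, (show polar Q z2 (nn g w) = -polar Q w w from hz2 1), neg_neg]
  set v1 := v + nn g z1 with hv1
  set v2 := w + nn g z2 with hv2
  have n1 : nn g v1 = nn g v := by rw [hv1, map_add, h2, add_zero]
  have n2 : nn g v2 = nn g w := by rw [hv2, map_add, h2, add_zero]
  have t := three_eq_zero F
  have b11 : polar Q v1 v1 = 0 := by
    rw [hv1, polar_add_left, polar_add_right, polar_add_right, hs, polar_comm Q v (nn g z1), a11]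
    linear_combination polar Q v v * t
  have b22 : polar Q v2 v2 = 0 := by
    rw [hv2, polar_add_left, polar_add_right, polar_add_right, hs, polar_comm Q w (nn g z2), a22]
    linear_combination polar Q w w * t
  have b12 : polar Q v1 v2 = 0 := by
    rw [hv1, hv2, polar_add_left, polar_add_right, polar_add_right, hs, polar_comm Q v (nn g z2), a21, a12]
    linear_combination polar Q v w * t
  have c11 : polar Q v1 (nn g v) = 0 := by rw [polar_comm, ← n1, self_zero hk]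
  have c22 : polar Q v2 (nn g w) = 0 := by rw [polar_comm, ← n2, self_zero hk]
  have c21 : polar Q v2 (nn g v) = 0 := by
    rw [polar_comm, hv2, polar_add_right, hvw, hs, add_zero]
  have c12 : polar Q v1 (nn g w) = 0 := by
    have h5 := hk v1 v2
    rw [n1, n2, polar_comm Q (nn g v), c21] at h5
    linear_combination h5
  have hb : ∀ i j, polar Q (![v1, nn g v, v2, nn g w] i) (![v1, nn g v, v2, nn g w] j) = 0 := by
    intro i j
    (revert i j; simp only [b11, b22, b12, c11, c22, c12, c21, hs, polar_comm Q v2 v1, polar_comm Q (nn g v) v1, polar_comm Q (nn g v) v2, polar_comm Q (nn g w) v1, polar_comm Q (nn g w) v2, _root_.Fin.forall_fin_succ, _root_.Nat.succ_eq_add_one, Nat.reduceAdd, Fin.isValue, _root_.Matrix.cons_val_zero, _root_.Matrix.cons_val_succ, _root_.Matrix.cons_val_fin_one, _root_.forall_const, _root_.and_self, _root_.implies_true])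
  have hbi : LinearIndependent F ![v1, nn g v, v2, nn g w] := by
    rw [Fintype.linearIndependent_iff]
    intro c hc
    rw [Fin.sum_univ_four] at hc
    simp only [Matrix.cons_val_zero, Matrix.cons_val_one, Matrix.cons_val] at hc
    have h5 := congrArg (nn g) hc
    simp only [map_add, map_smul, h2, n1, n2, smul_zero, add_zero, map_zero] at h5
    obtain ⟨c0, c2⟩ := hli2 _ _ h5
    rw [c0, c2, zero_smul, zero_smul, zero_add, add_zero] at hc
    obtain ⟨c1, c3⟩ := hli2 _ _ hc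
    intro i
    fin_cases i
    · exact c0
    · exact c1
    · exact c2
    · exact c3
  have hmem : (g, CB.g) ∈ RelT ![v1, nn g v, v2, nn g w] (⊥ : Submodule F V) := by
    refine mem_RelT_of (fun j => ?_) fun r => ?_
    · rw [Submodule.mem_bot]
      fin_cases j
      · simp only [CB.g, Fin.sum_univ_succ, apply_eq g v1, n1, _root_.Nat.succ_eq_add_one, _root_.Nat.reduceAdd, _root_.Fin.zero_eta, _root_.Fin.isValue, _root_.Matrix.cons_val_zero, _root_.Cfsg.Agent.H234.SN.CB.g, _root_.Matrix.of_apply, _root_.Matrix.cons_val', _root_.Matrix.cons_val_fin_one, _root_.Fin.sum_univ_succ, _root_.map_one, _root_.one_smul, _root_.Matrix.cons_val_succ, _root_.map_zero, _root_.zero_smul, _root_.Finset.univ_unique, _root_.Fin.default_eq_zero, _root_.Finset.sum_const_zero, _root_.add_zero, _root_.sub_self]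
      · simp only [CB.g, Fin.sum_univ_succ, apply_eq g (nn g v), h2, _root_.Nat.succ_eq_add_one, _root_.Nat.reduceAdd, _root_.Fin.mk_one, _root_.Fin.isValue, _root_.Matrix.cons_val_one, _root_.Matrix.cons_val_zero, _root_.add_zero, _root_.Cfsg.Agent.H234.SN.CB.g, _root_.Matrix.of_apply, _root_.Matrix.cons_val', _root_.Matrix.cons_val_fin_one, _root_.Fin.sum_univ_succ, _root_.map_zero, _root_.zero_smul, _root_.Matrix.cons_val_succ, _root_.map_one, _root_.one_smul, _root_.Finset.univ_unique, _root_.Fin.default_eq_zero, _root_.Finset.sum_const_zero, _root_.zero_add, _root_.sub_self]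
      · simp [CB.g, Fin.sum_univ_succ, apply_eq g v2, n2]
      · simp only [CB.g, Fin.sum_univ_succ, apply_eq g (nn g w), h2, _root_.Nat.succ_eq_add_one, _root_.Nat.reduceAdd, _root_.Fin.reduceFinMk, _root_.Matrix.cons_val, _root_.add_zero, _root_.Cfsg.Agent.H234.SN.CB.g, _root_.Fin.isValue, _root_.Matrix.of_apply, _root_.Matrix.cons_val', _root_.Matrix.cons_val_fin_one, _root_.Fin.sum_univ_succ, _root_.Matrix.cons_val_zero, _root_.map_zero, _root_.zero_smul, _root_.Matrix.cons_val_succ, _root_.Finset.univ_unique, _root_.Fin.default_eq_zero, _root_.map_one, _root_.one_smul, _root_.Finset.sum_const, _root_.Finset.card_singleton, _root_.zero_add, _root_.sub_self]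
    · rw [Submodule.mem_bot, Submodule.mem_bot]
      exact LinearEquiv.map_eq_zero_iff _
  exact CB.contra hb (exists_targets hQ hbi) (ind_of_li hbi) hmem hP

/-- **elements of order three: long root elements** -/
theorem lr_of_order_three [FiniteDimensional F V] (hF : Fintype.card F = 3) (hQ : Nondeg Q)
    (h7 : 7 ≤ finrank F V) {g : V ≃ₗ[F] V} (hg : g ∈ O Q) (h3 : ∀ v, g (g (g v)) = v) (hP : PSg Q g) : LR Q g := by
  have h2 := sq_zero hF hQ h7 hg (nn_three h3) hP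
  exact ⟨h2, fun x y => (polar_of_sq hg h2 x y).2, fun x y => (polar_of_sq hg h2 x y).1,
    fun v w h => dep_of_polar hQ hg h2 hP h⟩

/-- the image is spanned by `N p`, `N q` if `polar (N p) q ≠ 0` -/
theorem LR.image (hF : Fintype.card F = 3) {g : V ≃ₗ[F] V} (h : LR Q g) {p q : V} (hpq : polar Q (nn g p) q ≠ 0)
    (y : V) : ∃ a b : F, nn g y = a • nn g p + b • nn g q := by
  set c := polar Q (nn g p) q with hc
  have hcc := sq_one hF hpq
  have h1 : polar Q (nn g p) (y - (c * polar Q (nn g p) y) • q) = 0 := by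
    rw [polar_sub_right, polar_smul_right, ← hc, smul_eq_mul]
    linear_combination -(polar Q (nn g p) y) * hcc
  obtain ⟨a, b, hab, h2⟩ := h.dep _ _ h1
  have hNp : nn g p ≠ 0 := by
    intro h3
    rw [h3, polar_zero_left] at hc
    exact hpq hc
  have hb : b ≠ 0 := by
    rintro rfl
    rw [zero_smul, add_zero] at h2
    rcases smul_eq_zero.1 h2 with h3 | h3
    · exact (hab.resolve_right (fun h => h rfl)) h3
    · exact hNp h3
  have hbb := sq_one hF hb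
  rw [map_sub, map_smul] at h2
  refine ⟨-(a * b), c * polar Q (nn g p) y, ?_⟩
  have h4 : b • (a • nn g p + b • (nn g y - (c * polar Q (nn g p) y) • nn g q)) = 0 := by rw [h2, smul_zero]
  have h5 : b • (a • nn g p + b • (nn g y - (c * polar Q (nn g p) y) • nn g q)) =
      (a * b) • nn g p + (b * b) • (nn g y - (c * polar Q (nn g p) y) • nn g q) := by module
  rw [h5, hbb, one_smul] at h4
  have h6 : nn g y = ((a * b) • nn g p + (nn g y - (c * polar Q (nn g p) y) • nn g q)) +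
      (-(a * b)) • nn g p + (c * polar Q (nn g p) y) • nn g q := by module
  rw [h4, zero_add] at h6
  exact h6

end Cfsg.Agent.H234.SN
end

-- part: H234/SN/Nine
section
/-!
# Isometries of order nine over the field with three elements (helper234, S3831 E4)
-/

set_option autoImplicit false
set_option linter.unusedSectionVars false

namespace Cfsg.Agent.H234.SN

open QuadraticMap Module Matrix
open Cfsg.Agent.LieClassical.OrthCore

variable {F V : Type*} [Field F] [Fintype F] [CharP F 3] [AddCommGroup V] [Module F V] {Q : QuadraticForm F V}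

theorem two_eq (F : Type*) [Field F] [CharP F 3] : (2 : F) = -1 := by
  linear_combination three_eq_zero F

theorem nn_cube (g : V ≃ₗ[F] V) (v : V) : nn (g ^ 3) v = nn g (nn g (nn g v)) := by
  have e : (g ^ 3) v = g (g (g v)) := by rw [pow_succ, pow_two]; rfl
  simp only [nn_apply, map_sub, e]
  have e2 : g (g (g v)) - g (g v) - (g (g v) - g v) - (g (g v) - g v - (g v - v)) =
      g (g (g v)) - v - (3 : F) • g (g v) + (3 : F) • g v := by module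
  rw [e2, three_smul, three_smul, sub_zero, add_zero]

theorem PSg.pow {g : V ≃ₗ[F] V} (h : PSg Q g) (n : ℕ) : PSg Q (g ^ n) := by
  intro l hl
  refine sol_of_le ?_ (h l hl)
  rw [Subgroup.closure_le]
  have h1 : g ∈ Subgroup.closure {g, l * g * l⁻¹} := Subgroup.subset_closure (Or.inl rfl)
  have h2 : l * g * l⁻¹ ∈ Subgroup.closure {g, l * g * l⁻¹} := Subgroup.subset_closure (Or.inr rfl)
  rintro x (rfl | rfl)
  · exact pow_mem h1 n
  · have e : l * g ^ n * l⁻¹ = (l * g * l⁻¹) ^ n := by rw [conj_pow]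
    rw [e]
    exact pow_mem h2 n

/-! ### `N ^ 5 = 0` -/

section Five

variable {g : V ≃ₗ[F] V} (hg : g ∈ O Q) (hL : LR Q (g ^ 3))

include hg hL in
theorem nn_five (x : V) : nn g (nn g (nn g (nn g (nn g x)))) = 0 := by
  set N := nn g with hN
  have hD : ∀ v, nn (g ^ 3) v = N (N (N v)) := nn_cube g
  have h6 : ∀ v, N (N (N (N (N (N v))))) = 0 := fun v => by
    have := hL.sq v
    rwa [hD, hD] at this
  by_contra hx
  -- the alternating form `polar (D x) y`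
  have alt : ∀ v, polar Q (N (N (N v))) v = 0 := fun v => by
    rw [← hD]; exact self_zero hL.skew v
  have skew : ∀ v w, polar Q (N (N (N v))) w = -polar Q (N (N (N w))) v := fun v w => by
    rw [← hD v, ← hD w, hL.skew, polar_comm Q v]
  have inv : ∀ v w, polar Q (N (N (N (N v)))) w + polar Q (N (N (N v))) (N w) +
      polar Q (N (N (N (N v)))) (N w) = 0 := fun v w => polar_nn hg (N (N (N v))) w
  -- `t = β(N²x, N x)`
  have e1 : polar Q (N (N (N (N (N x))))) (N x) = -polar Q (N (N (N (N (N x))))) x := by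
    have i1 := inv (N x) x
    have a1 := alt (N x)
    linear_combination i1 - a1
  have hdep := hL.dep (N (N x)) (x + N x) (by
    rw [hD, polar_add_right, e1, add_neg_cancel])
  obtain ⟨a, b, hab, h1⟩ := hdep
  rw [hD, hD] at h1
  have h2 : a • N (N (N (N (N x)))) + b • N (N (N x)) + b • N (N (N (N x))) = 0 := by
    rw [← h1]
    simp only [map_add]
    module
  have h3 := congrArg (fun z => N (N z)) h2
  simp only [map_add, map_smul, h6, map_zero, smul_zero, zero_add, add_zero] at h3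
  rcases smul_eq_zero.1 h3 with h4 | h4
  · rw [h4, zero_smul, zero_smul, add_zero, add_zero] at h2
    rcases smul_eq_zero.1 h2 with h5 | h5
    · rcases hab with h7 | h7
      · exact h7 h5
      · exact h7 h4
    · exact hx h5
  · exact hx h4

end Five

/-! ### Case `J_5` -/

section JFive

variable {g : V ≃ₗ[F] V} (hg : g ∈ O Q) (h5 : ∀ v, nn g (nn g (nn g (nn g (nn g v)))) = 0)

include hg h5 in
theorem rel_five (v : V) {N : V →ₗ[F] V} (hN : N = nn g) {δ : F} (hδ : polar Q (N (N (N (N v)))) v = δ) :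
    polar Q (N (N (N (N v)))) (N v) = 0 ∧ polar Q (N (N (N (N v)))) (N (N v)) = 0 ∧
    polar Q (N (N (N (N v)))) (N (N (N v))) = 0 ∧ polar Q (N (N (N (N v)))) (N (N (N (N v)))) = 0 ∧
    polar Q (N (N (N v))) v = 0 ∧ polar Q (N (N (N v))) (N v) = -δ ∧ polar Q (N (N (N v))) (N (N v)) = 0 ∧
    polar Q (N (N (N v))) (N (N (N v))) = 0 ∧
    polar Q (N (N v)) (N (N v)) = δ ∧ polar Q (N (N v)) (N v) = δ ∧
    polar Q (N (N v)) v = -polar Q (N v) (N v) - δ ∧ polar Q (N v) v = polar Q (N v) (N v) := by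
  subst hN
  set N := nn g with hN
  have t := three_eq_zero F
  have r : ∀ x y, polar Q (N x) y + polar Q x (N y) + polar Q (N x) (N y) = 0 := polar_nn hg
  set c0 := v
  set c1 := N v with hc1
  set c2 := N c1 with hc2
  set c3 := N c2 with hc3
  set c4 := N c3 with hc4
  have c5 : N c4 = 0 := h5 v
  have a41 : polar Q c4 c1 = 0 := by
    have := r c4 c0
    rw [c5, polar_zero_left, polar_zero_left, zero_add, add_zero] at this
    exact this
  have a42 : polar Q c4 c2 = 0 := by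
    have := r c4 c1
    rw [c5, polar_zero_left, polar_zero_left, zero_add, add_zero] at this
    exact this
  have a43 : polar Q c4 c3 = 0 := by
    have := r c4 c2
    rw [c5, polar_zero_left, polar_zero_left, zero_add, add_zero] at this
    exact this
  have a44 : polar Q c4 c4 = 0 := by
    have := r c4 c3
    rw [c5, polar_zero_left, polar_zero_left, zero_add, add_zero] at this
    exact this
  have a31 : polar Q c3 c1 = -δ := by
    have := r c3 c0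
    linear_combination this - a41 - hδ
  have a32 : polar Q c3 c2 = 0 := by
    have := r c3 c1
    linear_combination this - a41 - a42
  have a33 : polar Q c3 c3 = 0 := by
    have := r c3 c2
    linear_combination this - a42 - a43
  have a22 : polar Q c2 c2 = δ := by
    have := r c2 c1
    linear_combination this - a31 - a32
  have a21 : polar Q c2 c1 = δ := by
    have h1 := r c1 c1
    rw [← hc2, polar_comm Q c1 c2] at h1
    linear_combination -h1 + a22 + polar Q c2 c1 * t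
  have a30 : polar Q c3 c0 = 0 := by
    have := r c2 c0
    linear_combination this - a21 - a31
  have a20 : polar Q c2 c0 = -polar Q c1 c1 - δ := by
    have := r c1 c0
    linear_combination this - a21
  have a10 : polar Q c1 c0 = polar Q c1 c1 := by
    have h1 := r c0 c0
    rw [← hc1, polar_comm Q c0 c1] at h1
    linear_combination -h1 + polar Q c1 c0 * t
  exact ⟨a41, a42, a43, a44, a30, a31, a32, a33, a22, a21, a20, a10⟩

include hg h5 in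
/-- no block of size five -/
theorem no_five (hF : Fintype.card F = 3) (hQ : Nondeg Q) (hP : PSg Q g) (v0 : V) :
    nn g (nn g (nn g (nn g v0))) = 0 := by
  set N := nn g with hN
  have t := three_eq_zero F
  have r : ∀ x y, polar Q (N x) y + polar Q x (N y) + polar Q (N x) (N y) = 0 := polar_nn hg
  by_contra hv0
  -- the form `polar (N⁴ x) y` is symmetric
  have sym : ∀ x y, polar Q (N (N (N (N x)))) y = polar Q (N (N (N (N y)))) x := by
    intro x y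
    have z1 : ∀ x y, polar Q (N (N (N (N x)))) (N y) = 0 := fun x y => by
      have := r (N (N (N (N x)))) y
      rw [h5, polar_zero_left, polar_zero_left, zero_add, add_zero] at this
      exact this
    have z2 : ∀ x y, polar Q (N x) (N (N (N (N y)))) = 0 := fun x y => by rw [polar_comm]; exact z1 y x
    have r30 := r (N (N (N x))) y
    have r31 := r (N (N (N x))) (N y)
    have r32 := r (N (N (N x))) (N (N y))
    have r21 := r (N (N x)) (N y)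
    have r22 := r (N (N x)) (N (N y))
    have r12 := r (N x) (N (N y))
    have r03 := r x (N (N (N y)))
    have r13 := r (N x) (N (N (N y)))
    have r23 := r (N (N x)) (N (N (N y)))
    rw [polar_comm Q (N (N (N (N y)))) x]
    have y1 := z1 x y
    have y2 := z1 x (N y)
    have y3 := z1 x (N (N y))
    have w1 := z2 x y
    have w2 := z2 (N x) y
    have w3 := z2 (N (N x)) y
    linear_combination r30 - r21 + r12 - r03 - r13 + r31 - 2 * y1 + 2 * w1 + w2 - y2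
  obtain ⟨v, hv⟩ : ∃ v, polar Q (N (N (N (N v)))) v ≠ 0 := by
    by_contra hcon
    push Not at hcon
    apply hv0
    apply hQ
    intro y
    have h1 := hcon (v0 + y)
    simp only [map_add, polar_add_left, polar_add_right, hcon, sym y v0] at h1
    linear_combination -h1 + polar Q (N (N (N (N v0)))) y * t
  -- normalisation
  set δ := polar Q (N (N (N (N v)))) v with hδd
  have hδ : δ * δ = 1 := sq_one hF hv
  obtain ⟨a41, a42, a43, a44, a30, a31, a32, a33, a22, a21, a20, a10⟩ := rel_five hg h5 v hN hδd.symm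
  obtain ⟨v1, hv1, hv11⟩ : ∃ v1, polar Q (N (N (N (N v1)))) v1 = δ ∧ polar Q (N v1) (N v1) = 0 := by
    refine ⟨v + (-(polar Q (N v) (N v) * δ)) • N (N v), ?_, ?_⟩
    · simp only [map_add, map_smul, h5, smul_zero, add_zero, polar_add_right, polar_smul_right, a42]
      exact hδd.symm
    · simp only [map_add, map_smul, polar_add_right, polar_smul_right, polar_add_left, polar_smul_left,
        a31, a33, polar_comm Q (N v) (N (N (N v))), smul_eq_mul]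
      linear_combination (2 * polar Q (N v) (N v)) * hδ + polar Q (N v) (N v) * t
  obtain ⟨b41, b42, b43, b44, b30, b31, b32, b33, b22, b21, b20, b10⟩ := rel_five hg h5 v1 hN hv1
  obtain ⟨w, hw1, hw2, hw3⟩ : ∃ w, polar Q (N (N (N (N w)))) w = δ ∧ polar Q (N w) (N w) = 0 ∧ polar Q w w = 0 := by
    refine ⟨v1 + (polar Q v1 v1 * δ) • N (N (N (N v1))), ?_, ?_, ?_⟩
    · simp only [map_add, map_smul, h5, smul_zero, add_zero, polar_add_right, polar_smul_right, b44, hv1]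
    · simp only [map_add, map_smul, h5, smul_zero, add_zero, hv11]
    · simp only [polar_add_right, polar_smul_right, polar_add_left, polar_smul_left,
        b44, polar_comm Q v1 (N (N (N (N v1)))), hv1, smul_eq_mul]
      linear_combination (2 * polar Q v1 v1) * hδ + polar Q v1 v1 * t
  obtain ⟨c41, c42, c43, c44, c30, c31, c32, c33, c22, c21, c20, c10⟩ := rel_five hg h5 w hN hw1
  rw [hw2] at c20 c10
  have p2 : ph F 2 = -1 := by rw [map_ofNat, two_eq]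
  have hframe : Fr Q ![w, N w, N (N w), N (N (N w)), N (N (N (N w)))] (⊥ : Submodule F V) δ CC.G := by
    refine ⟨hδ, ?_, ?_⟩
    · intro i j
      (revert i j; simp only [CC.G, p2, hw1, hw2, hw3, c41, c42, c43, c44, c30, c31, c32, c33, c22, c21, c20, c10, polar_comm Q w, polar_comm Q (N w) (N (N w)), polar_comm Q (N w) (N (N (N w))), polar_comm Q (N w) (N (N (N (N w)))), polar_comm Q (N (N w)) (N (N (N w))), polar_comm Q (N (N w)) (N (N (N (N w)))), polar_comm Q (N (N (N w))) (N (N (N (N w)))), _root_.Fin.forall_fin_succ, _root_.Nat.succ_eq_add_one, Nat.reduceAdd, _root_.Matrix.of_apply, _root_.Matrix.cons_val', _root_.Matrix.cons_val_fin_one, Fin.isValue, _root_.Matrix.cons_val_zero, _root_.Matrix.cons_val_succ, _root_.forall_const, _root_.map_zero, _root_.MulZeroClass.mul_zero, _root_.neg_zero, _root_.zero_sub, _root_.mul_neg, _root_.mul_one, _root_.map_one, _root_.and_self, _root_.implies_true])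
    · intro i r hr
      rw [Submodule.mem_bot] at hr
      rw [hr, polar_zero_right]
  have hap : ∀ v, g v = v + N v := apply_eq g
  have hmem : (g, CC.g) ∈ RelT ![w, N w, N (N w), N (N (N w)), N (N (N (N w)))] (⊥ : Submodule F V) := by
    refine mem_RelT_of (fun j => ?_) fun r => ?_
    · rw [Submodule.mem_bot]
      (revert j; simp only [CC.g, Fin.sum_univ_succ, hap, h5, _root_.Fin.forall_fin_succ, _root_.Nat.succ_eq_add_one, Nat.reduceAdd, _root_.Matrix.of_apply, _root_.Matrix.cons_val', _root_.Matrix.cons_val_fin_one, Fin.isValue, _root_.Matrix.cons_val_zero, _root_.Matrix.cons_val_succ, _root_.Finset.univ_unique, _root_.Fin.default_eq_zero, _root_.Finset.sum_const, _root_.Finset.card_singleton, _root_.one_smul, _root_.map_one, _root_.map_zero, _root_.zero_smul, _root_.add_zero, _root_.sub_self, _root_.zero_add, _root_.implies_true, _root_.and_self])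
    · rw [Submodule.mem_bot, Submodule.mem_bot]
      exact LinearEquiv.map_eq_zero_iff _
  exact CC.contra hframe hmem hP

end JFive

/-! ### Case `J_4` twice -/

section JFour

variable {g : V ≃ₗ[F] V} (hg : g ∈ O Q) (h4 : ∀ v, nn g (nn g (nn g (nn g v))) = 0)

include hg h4 in
theorem rel_four (x y : V) {N : V →ₗ[F] V} (hN : N = nn g) {ε : F} (hε : polar Q (N (N (N x))) y = ε) :
    polar Q (N (N (N x))) (N y) = 0 ∧ polar Q (N (N (N x))) (N (N y)) = 0 ∧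
    polar Q (N (N (N x))) (N (N (N y))) = 0 ∧ polar Q (N (N x)) (N y) = -ε ∧ polar Q (N (N x)) (N (N y)) = 0 ∧
    polar Q (N (N x)) (N (N (N y))) = 0 ∧ polar Q (N x) (N (N y)) = ε ∧ polar Q (N x) (N (N (N y))) = 0 ∧
    polar Q x (N (N (N y))) = -ε := by
  subst hN
  set N := nn g with hN
  have r : ∀ x y, polar Q (N x) y + polar Q x (N y) + polar Q (N x) (N y) = 0 := polar_nn hg
  have u : ∀ x y, polar Q (N (N (N x))) (N y) = 0 := fun x y => by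
    have := r (N (N (N x))) y
    rw [h4, polar_zero_left, polar_zero_left, zero_add, add_zero] at this
    exact this
  have u' : ∀ x y, polar Q (N x) (N (N (N y))) = 0 := fun x y => by rw [polar_comm]; exact u y x
  have a31 := u x y
  have a32 := u x (N y)
  have a33 := u x (N (N y))
  have a13 := u' x y
  have a23 := u' (N x) y
  have a21 : polar Q (N (N x)) (N y) = -ε := by
    have := r (N (N x)) y
    linear_combination this - hε - a31
  have a22 : polar Q (N (N x)) (N (N y)) = 0 := by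
    have := r (N (N x)) (N y)
    linear_combination this - a31 - a32
  have a12 : polar Q (N x) (N (N y)) = ε := by
    have := r (N x) (N y)
    linear_combination this - a21 - a22
  have a03 : polar Q x (N (N (N y))) = -ε := by
    have := r x (N (N y))
    linear_combination this - a12 - a13
  exact ⟨a31, a32, a33, a21, a22, a23, a12, a13, a03⟩

include hg h4 in
theorem no_four (hF : Fintype.card F = 3) (hQ : Nondeg Q) (hP : PSg Q g) (v0 : V) :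
    nn g (nn g (nn g v0)) = 0 := by
  set N := nn g with hN
  have t := three_eq_zero F
  have r : ∀ x y, polar Q (N x) y + polar Q x (N y) + polar Q (N x) (N y) = 0 := polar_nn hg
  by_contra hv0
  obtain ⟨q0, hq0⟩ := hQ.exists_polar_ne hv0
  -- the form is alternating
  have sk : ∀ x y, polar Q (N (N (N x))) y = -polar Q (N (N (N y))) x := fun x y => by
    have h := (rel_four hg h4 y x hN rfl).2.2.2.2.2.2.2.2
    rw [polar_comm Q y] at h
    exact h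
  have alt : ∀ x, polar Q (N (N (N x))) x = 0 := fun x => by
    have := sk x x
    linear_combination -this + polar Q (N (N (N x))) x * t
  obtain ⟨q, hq⟩ : ∃ q, polar Q (N (N (N v0))) q = 1 := by
    refine ⟨polar Q (N (N (N v0))) q0 • q0, ?_⟩
    rw [polar_smul_right, smul_eq_mul]
    exact sq_one hF hq0
  obtain ⟨a31, a32, a33, a21, a22, a23, a12, a13, a03⟩ := rel_four hg h4 v0 q hN hq
  obtain ⟨b31, b32, b33, b21, b22, b23, b12, b13, b03⟩ := rel_four hg h4 q q hN (alt q)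
  -- first correction
  set x1 := v0 + polar Q (N v0) (N v0) • N q with hx1
  have k1 : N (N (N x1)) = N (N (N v0)) := by
    rw [hx1]
    simp only [map_add, map_smul, h4, smul_zero, add_zero]
  have k2 : polar Q (N x1) (N x1) = 0 := by
    rw [hx1]
    simp only [map_add, map_smul, polar_add_right, polar_smul_right, polar_add_left, polar_smul_left, a12, b22,
      polar_comm Q (N (N q)) (N v0), smul_eq_mul]
    linear_combination polar Q (N v0) (N v0) * t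
  have k3 : polar Q x1 (N (N (N q))) = -1 := by
    rw [hx1]
    simp only [polar_add_left, polar_smul_left, a03, b13, smul_zero, add_zero]
  have k4 : polar Q (N (N (N q))) (N (N (N q))) = 0 := b33
  set w := x1 + (-(polar Q x1 x1)) • N (N (N q)) with hw
  have l0 : polar Q w w = 0 := by
    rw [hw]
    simp only [polar_add_right, polar_smul_right, polar_add_left, polar_smul_left, k3, k4,
      polar_comm Q (N (N (N q))) x1, smul_eq_mul]
    linear_combination polar Q x1 x1 * t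
  have l1 : N w = N x1 := by
    rw [hw]
    simp only [map_add, map_smul, h4, smul_zero, add_zero]
  have l3 : N (N (N w)) = N (N (N v0)) := by rw [l1, k1]
  have l2 : polar Q (N w) (N w) = 0 := by rw [l1, k2]
  obtain ⟨c31, c32, c33, c21, c22, c23, c12, c13, c03⟩ := rel_four hg h4 w w hN (alt w)
  have c30 := alt w
  rw [neg_zero] at c21 c03
  have c20 : polar Q (N (N w)) w = 0 := by
    have := r (N w) w
    linear_combination this - l2 - c21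
  have c10 : polar Q (N w) w = 0 := by
    have h1 := r w w
    rw [polar_comm Q w (N w)] at h1
    linear_combination -h1 + polar Q (N w) w * t + l2
  have hb : ∀ i j, polar Q (![w, N w, N (N w), N (N (N w))] i) (![w, N w, N (N w), N (N (N w))] j) = 0 := by
    intro i j
    (revert i j; simp only [l0, l2, c30, c31, c32, c33, c21, c22, c20, c10, polar_comm Q w, polar_comm Q (N w) (N (N w)), polar_comm Q (N w) (N (N (N w))), polar_comm Q (N (N w)) (N (N (N w))), _root_.Fin.forall_fin_succ, _root_.Nat.succ_eq_add_one, Nat.reduceAdd, Fin.isValue, _root_.Matrix.cons_val_zero, _root_.Matrix.cons_val_succ, _root_.Matrix.cons_val_fin_one, _root_.forall_const, _root_.and_self, _root_.implies_true])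
  have hw3 : N (N (N w)) ≠ 0 := by rw [l3]; exact hv0
  have hbi : LinearIndependent F ![w, N w, N (N w), N (N (N w))] := by
    rw [Fintype.linearIndependent_iff]
    intro c hc
    rw [Fin.sum_univ_four] at hc
    simp only [Matrix.cons_val_zero, Matrix.cons_val_one, Matrix.cons_val] at hc
    have e0 : c 0 = 0 := by
      have h5 := congrArg (fun z => N (N (N z))) hc
      simp only [map_add, map_smul, h4, map_zero, smul_zero, add_zero] at h5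
      exact (smul_eq_zero.1 h5).resolve_right hw3
    rw [e0, zero_smul, zero_add] at hc
    have e1 : c 1 = 0 := by
      have h5 := congrArg (fun z => N (N z)) hc
      simp only [map_add, map_smul, h4, map_zero, smul_zero, add_zero] at h5
      exact (smul_eq_zero.1 h5).resolve_right hw3
    rw [e1, zero_smul, zero_add] at hc
    have e2 : c 2 = 0 := by
      have h5 := congrArg (fun z => N z) hc
      simp only [map_add, map_smul, h4, map_zero, smul_zero, add_zero] at h5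
      exact (smul_eq_zero.1 h5).resolve_right hw3
    rw [e2, zero_smul, zero_add] at hc
    have e3 : c 3 = 0 := (smul_eq_zero.1 hc).resolve_right hw3
    intro i
    fin_cases i
    · exact e0
    · exact e1
    · exact e2
    · exact e3
  have hap : ∀ v, g v = v + N v := apply_eq g
  have hmem : (g, CF.g) ∈ RelT ![w, N w, N (N w), N (N (N w))] (⊥ : Submodule F V) := by
    refine mem_RelT_of (fun j => ?_) fun r => ?_
    · rw [Submodule.mem_bot]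
      (revert j; simp only [CF.g, Fin.sum_univ_succ, hap, h4, _root_.Fin.forall_fin_succ, _root_.Nat.succ_eq_add_one, Nat.reduceAdd, _root_.Matrix.of_apply, _root_.Matrix.cons_val', _root_.Matrix.cons_val_fin_one, Fin.isValue, _root_.Matrix.cons_val_zero, _root_.Matrix.cons_val_succ, _root_.Finset.univ_unique, _root_.Fin.default_eq_zero, _root_.Finset.sum_const, _root_.Finset.card_singleton, _root_.one_smul, _root_.map_one, _root_.map_zero, _root_.zero_smul, _root_.add_zero, _root_.sub_self, _root_.zero_add, _root_.implies_true, _root_.and_self])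
    · rw [Submodule.mem_bot, Submodule.mem_bot]
      exact LinearEquiv.map_eq_zero_iff _
  exact CF.contra hb (exists_targets hQ hbi) (ind_of_li hbi) hmem hP

end JFour

/-- **order nine** -/
theorem no_nine [FiniteDimensional F V] (hF : Fintype.card F = 3) (hQ : Nondeg Q) (h7 : 7 ≤ finrank F V)
    {g : V ≃ₗ[F] V} (hg : g ∈ O Q) (h9 : g ^ 9 = 1) (hP : PSg Q g) : g ^ 3 = 1 := by
  have h27 : ∀ v, (g ^ 3) ((g ^ 3) ((g ^ 3) v)) = v := by
    intro v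
    have e : (g ^ 3) ((g ^ 3) ((g ^ 3) v)) = (g ^ 9) v := by
      have : g ^ 9 = g ^ 3 * (g ^ 3 * g ^ 3) := by rw [← pow_add, ← pow_add]
      rw [this]
      rfl
    rw [e, h9]
    rfl
  have hL := lr_of_order_three hF hQ h7 (pow_mem hg 3) h27 (hP.pow 3)
  have h5 := nn_five hg hL
  have h4 := no_five hg h5 hF hQ hP
  have h3 := no_four hg h4 hF hQ hP
  apply LinearEquiv.ext
  intro v
  have h1 : nn (g ^ 3) v = 0 := by rw [nn_cube]; exact h3 v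
  rw [nn_apply, sub_eq_zero] at h1
  exact h1

end Cfsg.Agent.H234.SN
end

-- part: H234/SN/Six
section
/-!
# Similitudes of order six over the field with three elements (helper234, S3831 E4)

`U` a long root element, `T` a similitude commuting with `U`, `T ^ 2 = λ`, `PSg Q (U * T)`.
-/

set_option autoImplicit false
set_option linter.unusedSectionVars false

namespace Cfsg.Agent.H234.SN

open QuadraticMap Module Matrix
open Cfsg.Agent.LieClassical.OrthCore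

variable {F V : Type*} [Field F] [Fintype F] [CharP F 3] [AddCommGroup V] [Module F V] {Q : QuadraticForm F V}

theorem zero_of_two (F : Type*) {V : Type*} [Field F] [CharP F 3] [AddCommGroup V] [Module F V] {x : V} (h : x = -x) : x = 0 := by
  have h1 : (2 : F) • x = 0 := by
    rw [two_smul]
    nth_rewrite 2 [h]
    exact add_neg_cancel x
  rcases smul_eq_zero.1 h1 with h2 | h2
  · exfalso
    rw [two_eq] at h2
    exact one_ne_zero (neg_eq_zero.1 h2)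
  · exact h2

theorem szero_of_two {x : F} (h : x = -x) : x = 0 := by
  linear_combination (-1 : F) * h + x * three_eq_zero F

section Pair

variable {U T : V ≃ₗ[F] V}

theorem exists_pq (hQ : Nondeg Q) (h0 : ∃ p, nn U p ≠ 0) : ∃ p q, nn U p ≠ 0 ∧ polar Q (nn U p) q = 1 := by
  obtain ⟨p, hp⟩ := h0
  obtain ⟨q, hq⟩ := hQ.exists_polar_eq hp 1
  exact ⟨p, q, hp, hq⟩

/-- `T = 1` on the image of `N` -/
theorem false_of_one (hF : Fintype.card F = 3) (hQ : Nondeg Q) (hL : LR Q U)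
    (hT : ∀ x y, polar Q (T x) (T y) = polar Q x y) (hTT : ∀ v, T (T v) = v) (hc : ∀ v, nn U (T v) = T (nn U v))
    (h0 : ∃ p, nn U p ≠ 0) (h1 : ∀ y, T (nn U y) = nn U y) (hne : ∃ z, T z ≠ z) (hP : PSg Q (U * T)) : False := by
  set N := nn U with hN
  have t := three_eq_zero F
  have tw := two_eq F
  obtain ⟨p0, q0, hp0, hq0⟩ := exists_pq hQ h0
  rw [← hN] at hp0 hq0
  -- fixed vectors
  set p := -(p0 + T p0) with hp
  have hNp : N p = N p0 := by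
    rw [hp, map_neg, map_add, hc, h1]
    have e : -(N p0 + N p0) = N p0 - (3 : F) • N p0 := by module
    rw [e, three_smul, sub_zero]
  have hTp : T p = p := by
    rw [hp, map_neg, map_add, hTT, add_comm]
  set q := -(q0 + T q0) with hq
  have hTq : T q = q := by
    rw [hq, map_neg, map_add, hTT, add_comm]
  have hpq : polar Q (N p0) q = 1 := by
    have e : polar Q (N p0) (T q0) = 1 := by
      rw [← h1 p0, hT, hq0]
    rw [hq, polar_neg_right, polar_add_right, hq0, e]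
    linear_combination -t
  -- the vector `d`
  obtain ⟨z, hz⟩ := hne
  set d0 := z - T z with hd0
  have hd0n : d0 ≠ 0 := fun h => hz (sub_eq_zero.1 h).symm
  have hTd0 : T d0 = -d0 := by rw [hd0, map_sub, hTT, neg_sub]
  obtain ⟨y0, hy0⟩ := hQ.exists_polar_ne hd0n
  set y1 := y0 - T y0 with hy1
  have hTy1 : T y1 = -y1 := by rw [hy1, map_sub, hTT, neg_sub]
  have hdy : polar Q d0 y1 ≠ 0 := by
    have e : polar Q d0 (T y0) = -polar Q d0 y0 := by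
      rw [← hT d0 (T y0), hTd0, hTT, polar_neg_left]
    rw [hy1, polar_sub_right, e, sub_neg_eq_add, ← two_mul, tw]
    rw [neg_mul, one_mul]
    exact neg_ne_zero.2 hy0
  obtain ⟨d, hTd, hdd⟩ : ∃ d, T d = -d ∧ polar Q d d ≠ 0 := by
    by_cases h2 : polar Q d0 d0 = 0
    · by_cases h3 : polar Q y1 y1 = 0
      · refine ⟨d0 + y1, by rw [map_add, hTd0, hTy1, neg_add], ?_⟩
        rw [polar_add_left, polar_add_right, polar_add_right, h2, h3, polar_comm Q y1, zero_add, add_zero, ← two_mul, tw,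
          neg_mul, one_mul]
        exact neg_ne_zero.2 hdy
      · exact ⟨y1, hTy1, h3⟩
    · exact ⟨d0, hTd0, h2⟩
  set δ := polar Q d d with hδd
  have hδ : δ * δ = 1 := sq_one hF hdd
  have hNd : N d = 0 := by
    apply zero_of_two F
    have h3 := h1 d
    rw [← hc, hTd, map_neg] at h3
    exact h3.symm
  have horth : ∀ x, T x = x → polar Q x d = 0 := by
    intro x hx
    apply szero_of_two
    have h3 := hT x d
    rw [hx, hTd, polar_neg_right] at h3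
    exact h3.symm
  -- corrections
  have hpN : ∀ x, polar Q x (N x) = 0 := fun x => by rw [polar_comm]; exact self_zero hL.skew x
  obtain ⟨q1, hq1⟩ : ∃ q1, q1 = δ • q := ⟨_, rfl⟩
  have hTq1 : T q1 = q1 := by rw [hq1, map_smul, hTq]
  have e1 : polar Q (N p) q1 = δ := by rw [hNp, hq1, polar_smul_right, hpq, smul_eq_mul, mul_one]
  have e2 : polar Q p (N q1) = -δ := by
    have := hL.skew p q1
    rw [← hN, e1] at this
    linear_combination this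
  obtain ⟨P, hPd⟩ : ∃ P, P = p + (-(polar Q p q1 * δ)) • N p + (-(polar Q p p * δ)) • N q1 := ⟨_, rfl⟩
  obtain ⟨R, hRd⟩ : ∃ R, R = q1 + (polar Q q1 q1 * δ) • N p := ⟨_, rfl⟩
  have NP : N P = N p := by
    rw [hPd]
    simp only [map_add, map_smul, hN, hL.sq, smul_zero, add_zero]
  have NR : N R = N q1 := by
    rw [hRd]
    simp only [map_add, map_smul, hN, hL.sq, smul_zero, add_zero]
  have TP : T P = P := by
    rw [hPd]
    simp only [map_add, map_smul, h1, hTp]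
  have TR : T R = R := by
    rw [hRd]
    simp only [map_add, map_smul, h1, hTq1]
  have hs : ∀ x y, polar Q (N x) (N y) = 0 := hL.sing
  have bPP : polar Q P P = 0 := by
    rw [hPd]
    simp only [polar_add_left, polar_add_right, polar_smul_left, polar_smul_right, hs, hpN, e2,
      polar_comm Q (N p) p, polar_comm Q (N q1) p, smul_eq_mul]
    linear_combination (2 * polar Q p p) * hδ + polar Q p p * t
  have bRR : polar Q R R = 0 := by
    rw [hRd]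
    simp only [polar_add_left, polar_add_right, polar_smul_left, polar_smul_right, hs,
      polar_comm Q q1 (N p), e1, smul_eq_mul]
    linear_combination (2 * polar Q q1 q1) * hδ + polar Q q1 q1 * t
  have bPR : polar Q P R = 0 := by
    rw [hPd, hRd]
    simp only [polar_add_left, polar_add_right, polar_smul_left, polar_smul_right, hs, hpN, e1,
      polar_comm Q (N q1) q1, smul_eq_mul]
    linear_combination (-polar Q p q1) * hδ
  have c1 : polar Q (N P) R = δ := by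
    rw [NP, hRd, polar_add_right, polar_smul_right, hs, smul_zero, add_zero, e1]
  have c2 : polar Q P (N R) = -δ := by
    have := hL.skew P R
    rw [← hN, c1] at this
    linear_combination this
  have dP := horth P TP
  have dR := horth R TR
  have dNP := horth (N P) (h1 P)
  have dNR := horth (N R) (h1 R)
  have p2 : ph F 2 = -1 := by rw [map_ofNat, tw]
  have hframe : Fr Q ![P, R, N P, N R, d] (⊥ : Submodule F V) δ CD.G := by
    refine ⟨hδ, ?_, ?_⟩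
    · intro i j
      (revert i j; simp only [CD.G, p2, bPP, bRR, bPR, c1, c2, dP, dR, dNP, dNR, hs, hpN, ← hδd, polar_comm Q R P, polar_comm Q (N P) P, polar_comm Q (N R) P, polar_comm Q (N R) R, polar_comm Q R (N P), polar_comm Q d, _root_.Fin.forall_fin_succ, _root_.Nat.succ_eq_add_one, Nat.reduceAdd, _root_.Matrix.of_apply, _root_.Matrix.cons_val', _root_.Matrix.cons_val_fin_one, Fin.isValue, _root_.Matrix.cons_val_zero, _root_.Matrix.cons_val_succ, _root_.forall_const, _root_.map_zero, _root_.MulZeroClass.mul_zero, _root_.mul_neg, _root_.mul_one, _root_.and_self, _root_.map_one, _root_.implies_true])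
    · intro i r hr
      rw [Submodule.mem_bot] at hr
      rw [hr, polar_zero_right]
  have hap : ∀ v, (U * T) v = T v + N (T v) := fun v => apply_eq U (T v)
  have hNN : ∀ v, N (N v) = 0 := hL.sq
  have hmem : (U * T, CD.g) ∈ RelT ![P, R, N P, N R, d] (⊥ : Submodule F V) := by
    refine mem_RelT_of (fun j => ?_) fun r => ?_
    · rw [Submodule.mem_bot]
      (revert j; simp only [CD.g, Fin.sum_univ_succ, hap, hNN, TP, TR, h1, hTd, hNd, p2, _root_.Fin.forall_fin_succ, _root_.Nat.succ_eq_add_one, Nat.reduceAdd, _root_.Matrix.of_apply, _root_.Matrix.cons_val', _root_.Matrix.cons_val_fin_one, Fin.isValue, _root_.Matrix.cons_val_zero, _root_.Matrix.cons_val_succ, _root_.Finset.univ_unique, _root_.Fin.default_eq_zero, _root_.Finset.sum_const, _root_.Finset.card_singleton, _root_.one_smul, _root_.map_one, _root_.map_zero, _root_.zero_smul, _root_.add_zero, _root_.zero_add, _root_.sub_self, _root_.map_neg,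 _root_.neg_zero, _root_.neg_smul, _root_.implies_true, _root_.and_self])
    · rw [Submodule.mem_bot, Submodule.mem_bot]
      exact LinearEquiv.map_eq_zero_iff _
  exact CD.contra hframe hmem hP

/-- the case `T ^ 2 = 1`, `T` an isometry -/
theorem false_of_isom (hF : Fintype.card F = 3) (hQ : Nondeg Q) (hL : LR Q U)
    (hT : ∀ x y, polar Q (T x) (T y) = polar Q x y) (hTT : ∀ v, T (T v) = v) (hc : ∀ v, nn U (T v) = T (nn U v))
    (h0 : ∃ p, nn U p ≠ 0) (hne : ∃ z, T z ≠ z) (hne' : ∃ z, T z ≠ -z) {T' : V ≃ₗ[F] V} (hT' : ∀ v, T' v = -T v)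
    (hP : PSg Q (U * T)) (hP' : PSg Q (U * T')) : False := by
  set N := nn U with hN
  have tw := two_eq F
  by_cases hA : ∀ y, T (N y) = N y
  · exact false_of_one hF hQ hL hT hTT hc h0 hA hne hP
  by_cases hB : ∀ y, T (N y) = -N y
  · refine false_of_one hF hQ hL (T := T') ?_ ?_ ?_ h0 ?_ ?_ hP'
    · intro x y
      rw [hT', hT', polar_neg_left, polar_neg_right, neg_neg, hT]
    · intro v
      rw [hT', hT', map_neg, neg_neg, hTT]
    · intro v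
      rw [hT', hT', map_neg, ← hN, hc]
    · intro y
      rw [hT', ← hN, hB, neg_neg]
    · obtain ⟨z, hz⟩ := hne'
      refine ⟨z, fun h => hz ?_⟩
      rw [hT'] at h
      exact neg_eq_iff_eq_neg.1 h
  exfalso
  push Not at hA hB
  obtain ⟨p, hp⟩ := hA
  obtain ⟨q, hq⟩ := hB
  set x := q + T q with hx
  set y := p - T p with hy
  have hTx : T x = x := by rw [hx, map_add, hTT, add_comm]
  have hTy : T y = -y := by rw [hy, map_sub, hTT, neg_sub]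
  have hNx : N x ≠ 0 := by
    rw [hx, map_add, hc]
    intro h
    exact hq (eq_neg_of_add_eq_zero_right h)
  have hNy : N y ≠ 0 := by
    rw [hy, map_sub, hc]
    intro h
    exact hp (sub_eq_zero.1 h).symm
  have hTNx : T (N x) = N x := by rw [← hc, hTx]
  have hTNy : T (N y) = -N y := by rw [← hc, hTy, map_neg]
  have h1 : polar Q (N x) y = 0 := by
    apply szero_of_two
    have h3 := hT (N x) y
    rw [hTNx, hTy, polar_neg_right] at h3
    exact h3.symm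
  obtain ⟨a, b, hab, h2⟩ := hL.dep x y h1
  rw [← hN] at h2
  have h3 := congrArg T h2
  rw [map_add, map_smul, map_smul, hTNx, hTNy, map_zero] at h3
  have h4 : (2 : F) • (a • N x) = 0 := by
    have e : (2 : F) • (a • N x) = (a • N x + b • N y) + (a • N x + b • -N y) := by module
    rw [e, h2, h3, add_zero]
  have h5 : a • N x = 0 := by
    rcases smul_eq_zero.1 h4 with h6 | h6
    · exfalso
      rw [tw] at h6
      exact one_ne_zero (neg_eq_zero.1 h6)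
    · exact h6
  have ha : a = 0 := (smul_eq_zero.1 h5).resolve_right hNx
  rw [h5, zero_add] at h2
  have hb : b = 0 := (smul_eq_zero.1 h2).resolve_right hNy
  rcases hab with h | h
  · exact h ha
  · exact h hb

/-- `T ^ 2 = -1`: `polar (N p) (T p)` is not zero -/
theorem polar_T_ne (hF : Fintype.card F = 3) (hL : LR Q U)
    (hTT : ∀ v, T (T v) = -v) (hc : ∀ v, nn U (T v) = T (nn U v)) {p : V}
    (hp : nn U p ≠ 0) : polar Q (nn U p) (T p) ≠ 0 := by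
  intro h
  obtain ⟨a, b, hab, h1⟩ := hL.dep p (T p) h
  rw [hc] at h1
  have h2 := congrArg T h1
  rw [map_add, map_smul, map_smul, hTT, map_zero] at h2
  have h3 : (a * a + b * b) • nn U p = 0 := by
    have e : (a * a + b * b) • nn U p = a • (a • nn U p + b • T (nn U p)) - b • (a • T (nn U p) + b • -nn U p) := by
      module
    rw [e, h1, h2, smul_zero, smul_zero, sub_zero]
  have h4 := (smul_eq_zero.1 h3).resolve_right hp
  have t := three_eq_zero F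
  by_cases ha : a = 0
  · have hb : b ≠ 0 := hab.resolve_left (fun h => h ha)
    rw [ha, mul_zero, zero_add, sq_one hF hb] at h4
    exact one_ne_zero h4
  · by_cases hb : b = 0
    · rw [hb, mul_zero, add_zero, sq_one hF ha] at h4
      exact one_ne_zero h4
    · rw [sq_one hF ha, sq_one hF hb] at h4
      have h5 : (1 : F) = 0 := by linear_combination t - h4
      exact one_ne_zero h5

/-- the case `T ^ 2 = -1`, `T` an isometry -/
theorem false_of_unitary [FiniteDimensional F V] (hF : Fintype.card F = 3) (hQ : Nondeg Q) (h7 : 7 ≤ finrank F V)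
    (hL : LR Q U) (hT : ∀ x y, polar Q (T x) (T y) = polar Q x y) (hTT : ∀ v, T (T v) = -v)
    (hc : ∀ v, nn U (T v) = T (nn U v)) (h0 : ∃ p, nn U p ≠ 0) (hP : PSg Q (U * T)) : False := by
  set N := nn U with hN
  have t := three_eq_zero F
  have tw := two_eq F
  obtain ⟨p0, hp0⟩ := h0
  obtain ⟨ε, hε0⟩ : ∃ ε, ε = polar Q (N p0) (T p0) := ⟨_, rfl⟩
  have hε : ε * ε = 1 := sq_one hF (by rw [hε0]; exact polar_T_ne hF hL hTT hc hp0)
  have hs : ∀ x y, polar Q (N x) (N y) = 0 := hL.sing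
  have hNN : ∀ v, N (N v) = 0 := hL.sq
  have hpN : ∀ x, polar Q x (N x) = 0 := fun x => by rw [polar_comm]; exact self_zero hL.skew x
  have hxT : ∀ x, polar Q x (T x) = 0 := by
    intro x
    apply szero_of_two
    have h3 := hT x (T x)
    rw [hTT, polar_neg_right, polar_comm Q (T x)] at h3
    exact h3.symm
  obtain ⟨p, hpd⟩ : ∃ p, p = p0 + (-(polar Q p0 p0 * ε)) • T (N p0) := ⟨_, rfl⟩
  have hNT : ∀ x, N (T (N x)) = 0 := fun x => by rw [hc, hNN, map_zero]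
  have hNp : N p = N p0 := by
    rw [hpd, map_add, map_smul, hNT, smul_zero, add_zero]
  have e1 : polar Q p0 (T (N p0)) = -ε := by
    have h1 := hL.skew p0 (T p0)
    rw [← hN, hc, ← hε0] at h1
    linear_combination h1
  have bpp : polar Q p p = 0 := by
    rw [hpd]
    simp only [polar_add_left, polar_add_right, polar_smul_left, polar_smul_right, hT, hs,
      polar_comm Q (T (N p0)) p0, e1, smul_eq_mul]
    linear_combination (2 * polar Q p0 p0) * hε + polar Q p0 p0 * t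
  have hpε : polar Q (N p) (T p) = ε := by
    rw [hNp, hpd, map_add, map_smul, hTT, polar_add_right, polar_smul_right, polar_neg_right, hs, neg_zero, smul_zero,
      add_zero, ← hε0]
  clear_value N
  have c1 : polar Q p (T (N p)) = -ε := by
    have h1 := hL.skew p (T p)
    rw [← hN, hc, hpε] at h1
    linear_combination h1
  have c2 : polar Q (T p) (T (N p)) = 0 := by rw [hT, hpN]
  have c3 : polar Q (T p) (N p) = ε := by rw [polar_comm, hpε]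
  have c4 : polar Q (T p) (T p) = 0 := by rw [hT, bpp]
  have c5 : polar Q (T (N p)) (T (N p)) = 0 := by rw [hT, hs]
  have c6 : polar Q (N p) (T (N p)) = 0 := hxT _
  have p2 : ph F 2 = -1 := by rw [map_ofNat, tw]
  have hfr : Fr Q ![p, T p, N p, T (N p)] (⊥ : Submodule F V) ε !![0, 0, 0, 2; 0, 0, 1, 0; 0, 1, 0, 0; 2, 0, 0, 0] := by
    refine ⟨hε, ?_, ?_⟩
    · intro i j
      (revert i j; simp only [p2, bpp, hpε, c1, c2, c3, c4, c5, c6, hxT, hpN, hs, polar_comm Q (T p) p, polar_comm Q (N p) p, polar_comm Q (T (N p)) p, polar_comm Q (T (N p)) (T p), polar_comm Q (T (N p)) (N p), _root_.Fin.forall_fin_succ, _root_.Nat.succ_eq_add_one, Nat.reduceAdd, _root_.Matrix.of_apply, _root_.Matrix.cons_val', _root_.Matrix.cons_val_fin_one, Fin.isValue, _root_.Matrix.cons_val_zero, _root_.Matrix.cons_val_succ, _root_.forall_const, _root_.map_zero, _root_.MulZeroClass.mul_zero, _root_.mul_neg, _root_.mul_one,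 _root_.and_self, _root_.map_one, _root_.implies_true])
    · intro i r hr
      rw [Submodule.mem_bot] at hr
      rw [hr, polar_zero_right]
  have hnd := nd_pw (nd_top hQ) (b := ![p, T p, N p, T (N p)]) (fun j => Submodule.mem_top) hfr
    (G' := !![0, 0, 0, 2; 0, 0, 1, 0; 0, 1, 0, 0; 2, 0, 0, 0]) (by decide +kernel)
  obtain ⟨x, hx, hxx⟩ := hnd.exists_ns (pw_ne_bot (by rw [finrank_top]; omega))
  have hinv : ∀ x ∈ pw Q ⊤ ![p, T p, N p, T (N p)], T x ∈ pw Q ⊤ ![p, T p, N p, T (N p)] := by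
    rintro x ⟨-, hx⟩
    have x0 : polar Q p x = 0 := hx 0
    have x1 : polar Q (T p) x = 0 := hx 1
    have x2 : polar Q (N p) x = 0 := hx 2
    have x3 : polar Q (T (N p)) x = 0 := hx 3
    refine ⟨Submodule.mem_top, fun j => ?_⟩
    fin_cases j
    · change polar Q p (T x) = 0
      rw [← hT, hTT, polar_neg_right, x1, neg_zero]
    · change polar Q (T p) (T x) = 0
      rw [hT, x0]
    · change polar Q (N p) (T x) = 0
      rw [← hT, hTT, polar_neg_right, x3, neg_zero]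
    · change polar Q (T (N p)) (T x) = 0
      rw [hT, x2]
  have hker : ∀ x ∈ pw Q ⊤ ![p, T p, N p, T (N p)], N x = 0 := by
    rintro x ⟨-, hx⟩
    have x2 : polar Q (N p) x = 0 := hx 2
    have x3 : polar Q (T (N p)) x = 0 := hx 3
    apply hQ
    intro y
    obtain ⟨a, b, hab⟩ := hL.image hF (p := p) (q := T p) (by
      rw [← hN, hpε]
      rintro rfl
      rw [mul_zero] at hε
      exact zero_ne_one hε) y
    have h1 := hL.skew x y
    rw [← hN] at h1 hab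
    rw [h1, hab, hc, polar_add_right, polar_smul_right, polar_smul_right, polar_comm Q x, polar_comm Q x, x2, x3,
      smul_zero, smul_zero, add_zero, neg_zero]
  obtain ⟨d, hd, hdd⟩ : ∃ d ∈ pw Q ⊤ ![p, T p, N p, T (N p)], polar Q d d = ε := by
    rcases eq_or_neg hF hxx hε with h1 | h1
    · exact ⟨x, hx, h1⟩
    · refine ⟨x + T x, Submodule.add_mem _ hx (hinv x hx), ?_⟩
      rw [polar_add_left, polar_add_right, polar_add_right, hT, hxT, polar_comm Q (T x) x, hxT, h1]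
      linear_combination (-ε) * t
  have hNd := hker d hd
  have hTd := hinv d hd
  have d0 : polar Q p d = 0 := hd.2 0
  have d1 : polar Q (T p) d = 0 := hd.2 1
  have d2 : polar Q (N p) d = 0 := hd.2 2
  have d3 : polar Q (T (N p)) d = 0 := hd.2 3
  have f0 : polar Q p (T d) = 0 := hTd.2 0
  have f1 : polar Q (T p) (T d) = 0 := hTd.2 1
  have f2 : polar Q (N p) (T d) = 0 := hTd.2 2
  have f3 : polar Q (T (N p)) (T d) = 0 := hTd.2 3
  have hframe : Fr Q ![p, T p, N p, T (N p), d, T d] (⊥ : Submodule F V) ε CG.G := by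
    refine ⟨hε, ?_, ?_⟩
    · intro i j
      (revert i j; simp only [CG.G, p2, bpp, hpε, c1, c2, c3, c4, c5, c6, hxT, hpN, hs, polar_comm Q (T p) p, polar_comm Q (N p) p, polar_comm Q (T (N p)) p, polar_comm Q (T (N p)) (T p), polar_comm Q (T (N p)) (N p), d0, d1, d2, d3, f0, f1, f2, f3, polar_comm Q d, polar_comm Q (T d), hdd, hT, _root_.Fin.forall_fin_succ, _root_.Nat.succ_eq_add_one, Nat.reduceAdd, _root_.Matrix.of_apply, _root_.Matrix.cons_val', _root_.Matrix.cons_val_fin_one, Fin.isValue, _root_.Matrix.cons_val_zero, _root_.Matrix.cons_val_succ, _root_.forall_const, _root_.map_zero, _root_.MulZeroClass.mul_zero, _root_.mul_neg, _root_.mul_one, _root_.and_self, _root_.map_one, _root_.implies_true])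
    · intro i r hr
      rw [Submodule.mem_bot] at hr
      rw [hr, polar_zero_right]
  have hap : ∀ v, (U * T) v = T v + N (T v) := fun v => by rw [hN]; exact apply_eq U (T v)
  have hNTd := hker _ hTd
  have hmem : (U * T, CG.g) ∈ RelT ![p, T p, N p, T (N p), d, T d] (⊥ : Submodule F V) := by
    refine mem_RelT_of (fun j => ?_) fun r => ?_
    · rw [Submodule.mem_bot]
      (revert j; simp only [CG.g, Fin.sum_univ_succ, hap, hNN, hc, hTT, hNd, p2, _root_.Fin.forall_fin_succ, _root_.Nat.succ_eq_add_one, Nat.reduceAdd, _root_.Matrix.of_apply, _root_.Matrix.cons_val', _root_.Matrix.cons_val_fin_one, Fin.isValue, _root_.Matrix.cons_val_zero, _root_.Matrix.cons_val_succ, _root_.Finset.univ_unique, _root_.Fin.default_eq_zero, _root_.Finset.sum_const, _root_.Finset.card_singleton, _root_.one_smul, _root_.map_zero, _root_.zero_smul, _root_.map_one, _root_.add_zero, _root_.zero_add, _root_.sub_self,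 _root_.neg_smul, _root_.implies_true, _root_.and_self])
    · rw [Submodule.mem_bot, Submodule.mem_bot]
      exact LinearEquiv.map_eq_zero_iff _
  exact CG.contra hframe hmem hP

/-- the case `T ^ 2 = 1`, `T` a proper similitude -/
theorem false_of_split [FiniteDimensional F V] (hF : Fintype.card F = 3) (hQ : Nondeg Q) (h7 : 7 ≤ finrank F V)
    (hL : LR Q U) (hT : ∀ x y, polar Q (T x) (T y) = -polar Q x y) (hTT : ∀ v, T (T v) = v)
    (hc : ∀ v, nn U (T v) = T (nn U v)) (h0 : ∃ p, nn U p ≠ 0) (hP : PSg Q (U * T)) : False := by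
  have t := three_eq_zero F
  have tw := two_eq F
  obtain ⟨p0, q0, hp0, hq0⟩ := exists_pq hQ h0
  set N := nn U with hN
  have hs : ∀ x y, polar Q (N x) (N y) = 0 := hL.sing
  have hNN : ∀ v, N (N v) = 0 := hL.sq
  have hpN : ∀ x, polar Q x (N x) = 0 := fun x => by rw [polar_comm]; exact self_zero hL.skew x
  have hpp : ∀ x y, T x = x → T y = y → polar Q x y = 0 := by
    intro x y hx hy
    apply szero_of_two
    have h3 := hT x y
    rw [hx, hy] at h3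
    exact h3
  have hmm : ∀ x y, T x = -x → T y = -y → polar Q x y = 0 := by
    intro x y hx hy
    apply szero_of_two
    have h3 := hT x y
    rw [hx, hy, polar_neg_left, polar_neg_right, neg_neg] at h3
    exact h3
  -- decomposition
  have hdec : ∀ x, ∃ a b : V, T a = a ∧ T b = -b ∧ x = a + b ∧ (∃ α β : F, a = α • x + β • T x) ∧
      (∃ α β : F, b = α • x + β • T x) := by
    intro x
    refine ⟨-(x + T x), -(x - T x), ?_, ?_, ?_, ⟨-1, -1, by module⟩, ⟨-1, 1, by module⟩⟩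
    · rw [map_neg, map_add, hTT, add_comm]
    · rw [map_neg, map_sub, hTT, neg_sub, neg_sub]
      abel
    · have e : -(x + T x) + -(x - T x) = x - (3 : F) • x := by module
      rw [e, three_smul, sub_zero]
  obtain ⟨p, q, hTp, hTq, hpq⟩ : ∃ p q, T p = p ∧ T q = -q ∧ polar Q (N p) q ≠ 0 := by
    obtain ⟨a, b, ha, hb, hab, -, -⟩ := hdec p0
    obtain ⟨c, d, hc', hd, hcd, -, -⟩ := hdec q0
    have hTNa : T (N a) = N a := by rw [← hc, ha]
    have hTNb : T (N b) = -N b := by rw [← hc, hb, map_neg]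
    rw [hab, hcd, map_add, polar_add_left, polar_add_right, polar_add_right, hpp _ _ hTNa hc', hmm _ _ hTNb hd,
      zero_add, add_zero] at hq0
    by_cases h1 : polar Q (N a) d = 0
    · rw [h1, zero_add] at hq0
      refine ⟨c, b, hc', hb, ?_⟩
      have h2 := hL.skew b c
      rw [← hN, hq0, polar_comm Q b] at h2
      intro h3
      rw [h3, neg_zero] at h2
      exact one_ne_zero h2
    · exact ⟨a, d, ha, hd, h1⟩
  obtain ⟨q1, hq1⟩ : ∃ q1, q1 = polar Q (N p) q • q := ⟨_, rfl⟩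
  have e1 : polar Q (N p) q1 = 1 := by
    rw [hq1, polar_smul_right, smul_eq_mul, sq_one hF hpq]
  have hTq1 : T q1 = -q1 := by rw [hq1, map_smul, hTq, smul_neg]
  have e2 : polar Q p (N q1) = -1 := by
    have := hL.skew p q1
    rw [← hN, e1] at this
    linear_combination this
  obtain ⟨r, hr⟩ : ∃ r, r = q1 + polar Q p q1 • N q1 := ⟨_, rfl⟩
  have hNr : N r = N q1 := by rw [hr, map_add, map_smul, hNN, smul_zero, add_zero]
  have hTr : T r = -r := by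
    rw [hr, map_add, map_smul, hTq1, ← hc, hTq1, map_neg]
    module
  have c0 : polar Q p r = 0 := by
    rw [hr, polar_add_right, polar_smul_right, e2, smul_eq_mul]
    ring
  have c1 : polar Q (N p) r = 1 := by
    rw [hr, polar_add_right, polar_smul_right, hs, smul_zero, add_zero, e1]
  have c2 : polar Q p (N r) = -1 := by rw [hNr, e2]
  have hTNp : T (N p) = N p := by rw [← hc, hTp]
  have hTNr : T (N r) = -N r := by rw [← hc, hTr, map_neg]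
  have c3 : polar Q p p = 0 := hpp p p hTp hTp
  have c4 : polar Q r r = 0 := hmm r r hTr hTr
  have p2 : ph F 2 = -1 := by rw [map_ofNat, tw]
  have hfr : Fr Q ![p, N p, r, N r] (⊥ : Submodule F V) (1 : F) !![0, 0, 0, 2; 0, 0, 1, 0; 0, 1, 0, 0; 2, 0, 0, 0] := by
    refine ⟨one_mul 1, ?_, ?_⟩
    · intro i j
      (revert i j; simp only [p2, c0, c1, c2, c3, c4, hpN, hs, polar_comm Q r p, polar_comm Q (N p) p, polar_comm Q (N r) p, polar_comm Q r (N p), polar_comm Q (N r) r, _root_.Fin.forall_fin_succ, _root_.Nat.succ_eq_add_one, Nat.reduceAdd, _root_.Matrix.of_apply, _root_.Matrix.cons_val', _root_.Matrix.cons_val_fin_one, _root_.one_mul, Fin.isValue, _root_.Matrix.cons_val_zero, _root_.Matrix.cons_val_succ, _root_.forall_const, _root_.map_zero, _root_.and_self, _root_.map_one, _root_.implies_true])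
    · intro i r hr
      rw [Submodule.mem_bot] at hr
      rw [hr, polar_zero_right]
  have hnd := nd_pw (nd_top hQ) (b := ![p, N p, r, N r]) (fun j => Submodule.mem_top) hfr
    (G' := !![0, 0, 0, 2; 0, 0, 1, 0; 0, 1, 0, 0; 2, 0, 0, 0]) (by decide +kernel)
  obtain ⟨x, hx, hxx⟩ := hnd.exists_ns (pw_ne_bot (by rw [finrank_top]; omega))
  have hinv : ∀ x ∈ pw Q ⊤ ![p, N p, r, N r], T x ∈ pw Q ⊤ ![p, N p, r, N r] := by
    rintro x ⟨-, hx⟩
    have x0 : polar Q p x = 0 := hx 0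
    have x1 : polar Q (N p) x = 0 := hx 1
    have x2 : polar Q r x = 0 := hx 2
    have x3 : polar Q (N r) x = 0 := hx 3
    refine ⟨Submodule.mem_top, fun j => ?_⟩
    fin_cases j
    · change polar Q p (T x) = 0
      have := hT p x
      rw [hTp, x0, neg_zero] at this
      exact this
    · change polar Q (N p) (T x) = 0
      have := hT (N p) x
      rw [hTNp, x1, neg_zero] at this
      exact this
    · change polar Q r (T x) = 0
      have := hT r x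
      rw [hTr, x2, neg_zero, polar_neg_left, neg_eq_zero] at this
      exact this
    · change polar Q (N r) (T x) = 0
      have := hT (N r) x
      rw [hTNr, x3, neg_zero, polar_neg_left, neg_eq_zero] at this
      exact this
  have hker : ∀ x ∈ pw Q ⊤ ![p, N p, r, N r], N x = 0 := by
    rintro x ⟨-, hx⟩
    have x1 : polar Q (N p) x = 0 := hx 1
    have x3 : polar Q (N r) x = 0 := hx 3
    apply hQ
    intro y
    obtain ⟨a, b, hab⟩ := hL.image hF (p := p) (q := r) (by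
      rw [← hN, c1]
      exact one_ne_zero) y
    have h1 := hL.skew x y
    rw [← hN] at h1 hab
    rw [h1, hab, polar_add_right, polar_smul_right, polar_smul_right, polar_comm Q x, polar_comm Q x, x1, x3,
      smul_zero, smul_zero, add_zero, neg_zero]
  obtain ⟨h, k0, hh, hk0, hxhk, ⟨α, β, hh2⟩, ⟨γ, η, hk2⟩⟩ := hdec x
  have hhW : h ∈ pw Q ⊤ ![p, N p, r, N r] := by
    rw [hh2]
    exact Submodule.add_mem _ (Submodule.smul_mem _ _ hx) (Submodule.smul_mem _ _ (hinv x hx))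
  have hkW : k0 ∈ pw Q ⊤ ![p, N p, r, N r] := by
    rw [hk2]
    exact Submodule.add_mem _ (Submodule.smul_mem _ _ hx) (Submodule.smul_mem _ _ (hinv x hx))
  have hhk : polar Q h k0 ≠ 0 := by
    intro h1
    apply hxx
    rw [hxhk, polar_add_left, polar_add_right, polar_add_right, hpp h h hh hh, hmm k0 k0 hk0 hk0,
      polar_comm Q k0 h, h1]
    ring
  obtain ⟨k, hkd⟩ : ∃ k, k = polar Q h k0 • k0 := ⟨_, rfl⟩
  have hTk : T k = -k := by rw [hkd, map_smul, hk0, smul_neg]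
  have hk1 : polar Q h k = 1 := by rw [hkd, polar_smul_right, smul_eq_mul, sq_one hF hhk]
  have hkW' : k ∈ pw Q ⊤ ![p, N p, r, N r] := by rw [hkd]; exact Submodule.smul_mem _ _ hkW
  have d0 : polar Q p h = 0 := hhW.2 0
  have d1 : polar Q (N p) h = 0 := hhW.2 1
  have d2 : polar Q r h = 0 := hhW.2 2
  have d3 : polar Q (N r) h = 0 := hhW.2 3
  have f0 : polar Q p k = 0 := hkW'.2 0
  have f1 : polar Q (N p) k = 0 := hkW'.2 1
  have f2 : polar Q r k = 0 := hkW'.2 2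
  have f3 : polar Q (N r) k = 0 := hkW'.2 3
  have f4 : polar Q h h = 0 := hpp h h hh hh
  have f5 : polar Q k k = 0 := hmm k k hTk hTk
  have hNh := hker h hhW
  have hNk := hker k hkW'
  have hframe : Fr Q ![p, N p, h, r, N r, k] (⊥ : Submodule F V) (1 : F) CH.G := by
    refine ⟨one_mul 1, ?_, ?_⟩
    · intro i j
      (revert i j; simp only [CH.G, p2, c0, c1, c2, c3, c4, hpN, hs, polar_comm Q r p, polar_comm Q (N p) p, polar_comm Q (N r) p, polar_comm Q r (N p), polar_comm Q (N r) r, d0, d1, d2, d3, f0, f1, f2, f3, f4, f5, hk1, polar_comm Q h p, polar_comm Q h (N p), polar_comm Q h r, polar_comm Q h (N r), polar_comm Q k p, polar_comm Q k (N p), polar_comm Q k r, polar_comm Q k (N r), polar_comm Q k h, _root_.Fin.forall_fin_succ, _root_.Nat.succ_eq_add_one, Nat.reduceAdd, _root_.Matrix.of_apply, _root_.Matrix.cons_val', _root_.Matrix.cons_val_fin_one, _root_.one_mul, Fin.isValue, _root_.Matrix.cons_val_zero,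 _root_.Matrix.cons_val_succ, _root_.forall_const, _root_.map_zero, _root_.and_self, _root_.map_one, _root_.implies_true])
    · intro i r hr
      rw [Submodule.mem_bot] at hr
      rw [hr, polar_zero_right]
  have hap : ∀ v, (U * T) v = T v + N (T v) := fun v => apply_eq U (T v)
  have hmem : (U * T, CH.g) ∈ RelT ![p, N p, h, r, N r, k] (⊥ : Submodule F V) := by
    refine mem_RelT_of (fun j => ?_) fun r => ?_
    · rw [Submodule.mem_bot]
      (revert j; simp only [CH.g, Fin.sum_univ_succ, hap, hNN, hTp, hTNp, hTr, hTNr, hh, hTk, hNh, hNk, p2, _root_.Fin.forall_fin_succ, _root_.Nat.succ_eq_add_one, Nat.reduceAdd, _root_.Matrix.of_apply, _root_.Matrix.cons_val', _root_.Matrix.cons_val_fin_one, Fin.isValue, _root_.Matrix.cons_val_zero, _root_.Matrix.cons_val_succ, _root_.Finset.univ_unique, _root_.Fin.default_eq_zero, _root_.Finset.sum_const, _root_.Finset.card_singleton, _root_.one_smul,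 _root_.map_one, _root_.map_zero, _root_.zero_smul, _root_.add_zero, _root_.sub_self, _root_.zero_add, _root_.map_neg, _root_.neg_smul, _root_.neg_zero, _root_.implies_true, _root_.and_self])
    · rw [Submodule.mem_bot, Submodule.mem_bot]
      exact LinearEquiv.map_eq_zero_iff _
  exact CH.contra hframe hmem hP

/-- the case `T ^ 2 = -1`, `T` a proper similitude, is impossible -/
theorem false_of_minus (hF : Fintype.card F = 3) 
    (hL : LR Q U) (hT : ∀ x y, polar Q (T x) (T y) = -polar Q x y) (hTT : ∀ v, T (T v) = -v)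
    (hc : ∀ v, nn U (T v) = T (nn U v)) (h0 : ∃ p, nn U p ≠ 0) : False := by
  obtain ⟨p, hp⟩ := h0
  have h1 := polar_T_ne hF hL hTT hc hp
  apply h1
  apply szero_of_two
  have h2 := hT (nn U p) (T p)
  rw [hTT, polar_neg_right, neg_inj, ← hc, hL.skew, ← polar_comm Q (nn U p)] at h2
  exact h2.symm

end Pair

end Cfsg.Agent.H234.SN
end

-- part: H234/SN/Omega
section
/-!
# Row E4 of S3831: `PΩ_n(3)`, `n ≥ 7` (helper234)

* `psg_of_ps` : from automorphisms to similitudes;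
* `false_of_psi69` : automorphisms of order six and nine of `E Q / Z(E Q)` induced by similitudes, dimension at least
  seven, `|F| = 3`;
* `lr_of_psi` : order three: long root elements;
* rows `r69_odd`, `r69_minus`, `r69_plus` (`m ≥ 5`), `no69_plus_four`.
-/

set_option autoImplicit false
set_option linter.unusedSectionVars false

namespace Cfsg.Agent.H234.SN

open QuadraticMap Module
open Cfsg.Agent.LieClassical.OrthCore Cfsg.Agent.LieClassical.OrthTrans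
  Cfsg.Agent.LieClassical.OrthSimple Cfsg.Agent.LieClassical.OrthFinite
open Cfsg.Agent.ClassicalGeometry.OrthAut1 Cfsg.Agent.ClassicalGeometry.OrthSemi
open Cfsg.Agent.H459.Rad

variable {F V : Type*} [Field F] [Fintype F] [CharP F 3] [AddCommGroup V] [Module F V] {Q : QuadraticForm F V}

/-! ### From automorphisms to similitudes -/

/-- linear automorphisms as permutations -/
def toP (F V : Type*) [Field F] [AddCommGroup V] [Module F V] : (V ≃ₗ[F] V) →* Equiv.Perm V where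
  toFun h := h.toEquiv
  map_one' := rfl
  map_mul' _ _ := rfl

theorem E_le_comap (Q : QuadraticForm F V) : E Q ≤ (Gam Q).comap (toP F V) := by
  intro h hh
  rw [Subgroup.mem_comap]
  refine ⟨RingEquiv.refl F, 1, one_ne_zero, fun u v => map_add h u v, fun a v => map_smul h a v, fun v => ?_⟩
  rw [one_mul]
  exact E_le_O (Q := Q) hh v

theorem psg_of_ps (hG : Good Q) {M : Gam Q} {g : V ≃ₗ[F] V} (hgM : ∀ v, M.1 v = g v) (hP : PS 2 (Psi Q M)) :
    PSg Q g := by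
  intro l hl
  have hg : g ∈ (Gam Q).comap (toP F V) := by
    rw [Subgroup.mem_comap]
    have : toP F V g = M.1 := by
      ext v
      exact (hgM v).symm
    rw [this]
    exact M.2
  let j : ↥((Gam Q).comap (toP F V)) →* Gam Q :=
    ((toP F V).comp ((Gam Q).comap (toP F V)).subtype).codRestrict (Gam Q) fun h => h.2
  let Θ : ↥((Gam Q).comap (toP F V)) →* MulAut (↥(E Q) ⧸ Subgroup.center ↥(E Q)) := (Psi Q).comp j
  let gΓ : ↥((Gam Q).comap (toP F V)) := ⟨g, hg⟩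
  let lΓ : ↥((Gam Q).comap (toP F V)) := ⟨l, E_le_comap Q hl⟩
  have hΘg : Θ gΓ = Psi Q M := by
    have : j gΓ = M := Subtype.ext (by
      ext v
      exact (hgM v).symm)
    change Psi Q (j gΓ) = _
    simp only [this]
  have hΘl : Θ lΓ = MulAut.conj (QuotientGroup.mk (⟨l, hl⟩ : E Q) : ↥(E Q) ⧸ Subgroup.center ↥(E Q)) := by
    ext y
    have hob_ := QuotientGroup.mk_surjective y
    obtain ⟨k, rfl⟩ := hob_
    change Psi Q (j lΓ) (QuotientGroup.mk k) = _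
    rw [Psi_mk]
    change _ = (QuotientGroup.mk (⟨l, hl⟩ : E Q) : ↥(E Q) ⧸ Subgroup.center ↥(E Q)) * (QuotientGroup.mk k) *
      (QuotientGroup.mk (⟨l, hl⟩ : E Q) : ↥(E Q) ⧸ Subgroup.center ↥(E Q))⁻¹
    rw [← QuotientGroup.mk_inv, ← QuotientGroup.mk_mul, ← QuotientGroup.mk_mul]
    congr 1
  set C : Subgroup ↥((Gam Q).comap (toP F V)) := Subgroup.closure {gΓ, lΓ * gΓ * lΓ⁻¹} with hC
  have h1 : C.map Θ = Subgroup.closure (Set.range fun i : Fin 2 => MulAut.conj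
      ((![1, QuotientGroup.mk (⟨l, hl⟩ : E Q)] : Fin 2 → ↥(E Q) ⧸ Subgroup.center ↥(E Q)) i) * Psi Q M *
      (MulAut.conj ((![1, QuotientGroup.mk (⟨l, hl⟩ : E Q)] : Fin 2 → ↥(E Q) ⧸ Subgroup.center ↥(E Q)) i))⁻¹) := by
    simp only [hC, MonoidHom.map_closure, Set.image_pair, map_mul, map_mul, map_inv, hΘg, hΘl]
    congr 1
    ext z
    constructor
    · rintro (rfl | rfl)
      · refine ⟨0, ?_⟩
        simp only [_root_.Fin.isValue, _root_.Matrix.cons_val_zero, _root_.map_one, _root_.one_mul, _root_.inv_one, _root_.mul_one]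
      · refine ⟨1, ?_⟩
        simp only [_root_.Fin.isValue, _root_.Matrix.cons_val_one, _root_.Matrix.cons_val_fin_one]
    · rintro ⟨i, rfl⟩
      fin_cases i
      · left
        simp only [_root_.Fin.zero_eta, _root_.Fin.isValue, _root_.Matrix.cons_val_zero, _root_.map_one, _root_.one_mul, _root_.inv_one, _root_.mul_one]
      · right
        simp only [_root_.Fin.mk_one, _root_.Fin.isValue, _root_.Matrix.cons_val_one, _root_.Matrix.cons_val_fin_one, _root_.Set.mem_singleton_iff]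
  have h2 : Group.IsSolvable ↥(C.map Θ) := by
    rw [h1]
    exact hP _
  have h3 : Group.IsSolvable C := by
    let f : C →* ↥(C.map Θ) := (Θ.comp C.subtype).codRestrict _ fun s => ⟨s, s.2, rfl⟩
    have hk : Group.IsSolvable f.ker := by
      refine Group.isSolvable_of_comm fun a b => ?_
      have hsc : ∀ z : f.ker, ∃ c : F, ∀ v, (z : C).1.1 v = c • v := by
        intro z
        have h4 : Θ (z : C).1 = 1 := congrArg Subtype.val (MonoidHom.mem_ker.1 z.2)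
        have h5 : j (z : C).1 ∈ (Psi Q).ker := MonoidHom.mem_ker.2 h4
        simp only [ker_Psi hG] at h5
        obtain ⟨c, hc⟩ := h5
        refine ⟨c, fun v => ?_⟩
        have h6 : (j (z : C).1).1 v = (scal Q c).1 v := by simp only [hc]
        exact h6
      have hob_ := hsc a
      obtain ⟨c, hc⟩ := hob_
      have hob_ := hsc b
      obtain ⟨d, hd⟩ := hob_
      apply Subtype.ext
      apply Subtype.ext
      apply Subtype.ext
      apply LinearEquiv.ext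
      intro v
      change (a : C).1.1 ((b : C).1.1 v) = (b : C).1.1 ((a : C).1.1 v)
      simp only [hc, hd, hd, hc, smul_smul, smul_smul, mul_comm]
    exact Group.isSolvable_of_ker_le_range f.ker.subtype f (by rw [Subgroup.range_subtype])
  have h4 : C.map ((Gam Q).comap (toP F V)).subtype = Subgroup.closure {g, l * g * l⁻¹} := by
    rw [hC, MonoidHom.map_closure, Set.image_pair]
    rfl
  rw [← h4]
  let ψ : C →* ↥(C.map ((Gam Q).comap (toP F V)).subtype) :=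
    ((((Gam Q).comap (toP F V)).subtype).comp C.subtype).codRestrict _ fun s => ⟨s, s.2, rfl⟩
  refine Group.isSolvable_of_surjective (f := ψ) ?_
  rintro ⟨_, ⟨s, hs', rfl⟩⟩
  exact ⟨⟨s, hs'⟩, rfl⟩

/-- over the field with three elements every semisimilitude is linear -/
theorem ringEquiv_refl (hF : Fintype.card F = 3) (σ : F ≃+* F) : σ = RingEquiv.refl F := by
  ext a
  by_cases h : a = 0
  · rw [h, map_zero, map_zero]
  · rcases eq_or_neg hF h (one_mul (1 : F)) with h1 | h1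
    · rw [h1, map_one, map_one]
    · rw [h1, map_neg, map_neg, map_one, map_one]

theorem exists_linear (hF : Fintype.card F = 3) (M : Gam Q) : ∃ (g : V ≃ₗ[F] V) (c : F), c ≠ 0 ∧
    (∀ v, M.1 v = g v) ∧ ∀ v, Q (g v) = c * Q v := by
  obtain ⟨σ, c, h⟩ := M.2
  have h1 := ringEquiv_refl hF σ
  subst h1
  refine ⟨{ toFun := M.1, invFun := M.1.symm, map_add' := h.add, map_smul' := fun t v => h.smul t v,
            left_inv := M.1.left_inv, right_inv := M.1.right_inv }, c, h.ne, fun v => rfl, fun v => h.form v⟩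

/-! ### Order six -/

theorem pow_apply_smul {g : V ≃ₗ[F] V} {n : ℕ} {c : F} (h : ∀ v, (g ^ n) v = c • v) (m : ℕ) (v : V) :
    (g ^ (n * m)) v = c ^ m • v := by
  induction m generalizing v with
  | zero => rw [mul_zero, pow_zero, pow_zero, one_smul]; rfl
  | succ m ih =>
    rw [Nat.mul_succ, pow_add]
    change (g ^ (n * m)) ((g ^ n) v) = _
    rw [h, map_smul, ih, smul_smul, pow_succ, mul_comm]

theorem polar_sim {g : V ≃ₗ[F] V} {c : F} (h : ∀ v, Q (g v) = c * Q v) (x y : V) :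
    polar Q (g x) (g y) = c * polar Q x y := by
  simp only [polar, ← map_add, h]
  ring

theorem sim_pow {g : V ≃ₗ[F] V} {c : F} (h : ∀ v, Q (g v) = c * Q v) (n : ℕ) (v : V) :
    Q ((g ^ n) v) = c ^ n * Q v := by
  induction n generalizing v with
  | zero => rw [pow_zero, pow_zero, one_mul]; rfl
  | succ n ih =>
    rw [pow_succ]
    change Q ((g ^ n) (g v)) = _
    rw [ih, h, pow_succ, mul_assoc]

theorem no_six [FiniteDimensional F V] (hF : Fintype.card F = 3) (hQ : Nondeg Q) (h7 : 7 ≤ finrank F V)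
    {g g' : V ≃ₗ[F] V} {c l : F} (hc : c ≠ 0) (hsim : ∀ v, Q (g v) = c * Q v) (hl : l ≠ 0)
    (h6 : ∀ v, (g ^ 6) v = l • v) (hn2 : ¬ ∃ μ : F, ∀ v, (g ^ 2) v = μ • v)
    (hn3 : ¬ ∃ μ : F, ∀ v, (g ^ 3) v = μ • v) (hg' : ∀ v, g' v = -g v) (hP : PSg Q g) (hP' : PSg Q g') : False := by
  have hcc := sq_one hF hc
  have hll := sq_one hF hl
  have h12 : ∀ v, (g ^ 4) ((g ^ 4) ((g ^ 4) v)) = v := by
    intro v
    have e : (g ^ 4) ((g ^ 4) ((g ^ 4) v)) = (g ^ 12) v := by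
      have : g ^ 12 = g ^ 4 * (g ^ 4 * g ^ 4) := by rw [← pow_add, ← pow_add]
      rw [this]
      rfl
    rw [e]
    have h1 := pow_apply_smul h6 2 v
    rw [pow_two, hll, one_smul] at h1
    exact h1
  have hU : g ^ 4 ∈ O Q := by
    intro v
    rw [sim_pow hsim, show c ^ 4 = (c * c) * (c * c) by ring, hcc, one_mul, one_mul]
  have hL := lr_of_order_three hF hQ h7 hU h12 (hP.pow 4)
  set T : V ≃ₗ[F] V := (g ^ 3)⁻¹ with hT
  have hgT : ∀ v, (g ^ 3) (T v) = v := fun v => (g ^ 3).apply_symm_apply v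
  have hUT : g ^ 4 * T = g := by rw [hT]; group
  have hTp : ∀ x y, polar Q (T x) (T y) = c * polar Q x y := by
    intro x y
    have h1 := polar_sim (sim_pow hsim 3) (T x) (T y)
    rw [hgT, hgT, show c ^ 3 = c * (c * c) by ring, hcc, mul_one] at h1
    rw [h1, ← mul_assoc, hcc, one_mul]
  have hTT : ∀ v, T (T v) = l • v := by
    intro v
    have h1 : (g ^ 6) (T (T v)) = v := by
      have : g ^ 6 = g ^ 3 * g ^ 3 := by rw [← pow_add]
      rw [this]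
      change (g ^ 3) ((g ^ 3) (T (T v))) = v
      rw [hgT, hgT]
    rw [h6] at h1
    have h2 := congrArg (fun z => l • z) h1
    simp only [smul_smul, hll, one_smul] at h2
    exact h2
  have hcomm : ∀ v, nn (g ^ 4) (T v) = T (nn (g ^ 4) v) := by
    intro v
    rw [nn_apply, nn_apply, map_sub]
    congr 1
    have : g ^ 4 * T = T * g ^ 4 := by rw [hT]; group
    exact congrArg (fun f : V ≃ₗ[F] V => f v) this
  have h0 : ∃ p, nn (g ^ 4) p ≠ 0 := by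
    by_contra hcon
    push Not at hcon
    apply hn2
    refine ⟨l, fun v => ?_⟩
    have h1 : (g ^ 4) v = v := sub_eq_zero.1 (hcon v)
    have h2 : (g ^ 6) v = (g ^ 2) ((g ^ 4) v) := by
      have : g ^ 6 = g ^ 2 * g ^ 4 := by rw [← pow_add]
      rw [this]
      rfl
    rw [h1, h6] at h2
    exact h2.symm
  have hP1 : PSg Q (g ^ 4 * T) := by rw [hUT]; exact hP
  rcases eq_or_neg hF hc (one_mul (1 : F)) with hc1 | hc1 <;>
    rcases eq_or_neg hF hl (one_mul (1 : F)) with hl1 | hl1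
  · subst hc1 hl1
    have hTT' : ∀ v, T (T v) = v := fun v => by rw [hTT, one_smul]
    refine false_of_isom hF hQ hL (fun x y => by rw [hTp, one_mul]) hTT' hcomm h0 ?_ ?_
      (T' := LinearEquiv.neg F * T) (fun v => rfl) hP1 ?_
    · by_contra hcon
      push Not at hcon
      exact hn3 ⟨1, fun v => by
        have h1 := hgT v
        rw [hcon v] at h1
        rw [h1, one_smul]⟩
    · by_contra hcon
      push Not at hcon
      exact hn3 ⟨-1, fun v => by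
        have h1 := hgT v
        rw [hcon v, map_neg] at h1
        rw [neg_smul, one_smul]
        exact neg_eq_iff_eq_neg.1 h1⟩
    · have e : g ^ 4 * (LinearEquiv.neg F * T) = g' := by
        apply LinearEquiv.ext
        intro v
        rw [hg']
        change (g ^ 4) (-(T v)) = -g v
        rw [map_neg]
        congr 1
        exact congrArg (fun f : V ≃ₗ[F] V => f v) hUT
      rw [e]
      exact hP'
  · subst hc1 hl1
    exact false_of_unitary hF hQ h7 hL (fun x y => by rw [hTp, one_mul]) (fun v => by rw [hTT, neg_smul, one_smul])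
      hcomm h0 hP1
  · subst hc1 hl1
    exact false_of_split hF hQ h7 hL (fun x y => by rw [hTp, neg_mul, one_mul]) (fun v => by rw [hTT, one_smul])
      hcomm h0 hP1
  · subst hc1 hl1
    exact false_of_minus hF hL (fun x y => by rw [hTp, neg_mul, one_mul]) (fun v => by rw [hTT, neg_smul, one_smul])
      hcomm h0

/-! ### Automorphisms induced by similitudes -/

theorem coe_pow (M : Gam Q) {g : V ≃ₗ[F] V} (h : ∀ v, M.1 v = g v) (n : ℕ) (v : V) :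
    (M ^ n).1 v = (g ^ n) v := by
  induction n generalizing v with
  | zero => rw [pow_zero, pow_zero]; rfl
  | succ n ih =>
    rw [pow_succ, pow_succ]
    change (M ^ n).1 (M.1 v) = (g ^ n) (g v)
    rw [h, ih]

theorem psi_pow_iff (hG : Good Q) (M : Gam Q) {g : V ≃ₗ[F] V} (h : ∀ v, M.1 v = g v) (n : ℕ) :
    Psi Q M ^ n = 1 ↔ ∃ μ : F, μ ≠ 0 ∧ ∀ v, (g ^ n) v = μ • v := by
  rw [← map_pow, ← MonoidHom.mem_ker, ker_Psi hG]
  constructor
  · rintro ⟨a, ha⟩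
    refine ⟨a, a.ne_zero, fun v => ?_⟩
    rw [← coe_pow M h, ← ha]
    rfl
  · rintro ⟨μ, hμ, hv⟩
    refine ⟨Units.mk0 μ hμ, ?_⟩
    apply Subtype.ext
    ext v
    rw [coe_pow M h, hv]
    rfl

theorem psg_neg (hG : Good Q) {M : Gam Q} {g g' : V ≃ₗ[F] V} (hgM : ∀ v, M.1 v = g v) (hg' : ∀ v, g' v = -g v)
    (hP : PS 2 (Psi Q M)) : PSg Q g' := by
  have h1 : Psi Q (scal Q (-1) * M) = Psi Q M := by
    rw [map_mul]
    have h2 : scal Q (-1) ∈ (Psi Q).ker := by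
      rw [ker_Psi hG]
      exact ⟨_, rfl⟩
    simp only [MonoidHom.mem_ker.1 h2, one_mul]
  refine psg_of_ps hG (M := scal Q (-1) * M) (fun v => ?_) (by rw [h1]; exact hP)
  change (scal Q (-1)).1 (M.1 v) = _
  rw [scal_apply, hgM, hg']
  simp

theorem exists_ns_top (hQ : Nondeg Q) (hG : Good Q) : ∃ v, Q v ≠ 0 := by
  by_contra hcon
  push Not at hcon
  obtain ⟨x, y, hxy⟩ := hG.exists_hyp
  apply hxy.left_ne
  apply hQ
  intro z
  unfold polar
  rw [hcon, hcon, hcon]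
  simp

theorem isom_of_pow {g : V ≃ₗ[F] V} (hF : Fintype.card F = 3) (hQ : Nondeg Q) (hG : Good Q) {c : F} (hc : c ≠ 0)
    (h : ∀ v, Q (g v) = c * Q v) {k : ℕ} (h1 : g ^ (2 * k + 1) = 1) : g ∈ O Q := by
  obtain ⟨v, hv⟩ := exists_ns_top hQ hG
  have h2 := sim_pow h (2 * k + 1) v
  rw [h1] at h2
  have h3 : c ^ (2 * k + 1) = 1 := by
    have h4 : Q v = c ^ (2 * k + 1) * Q v := h2
    have h5 : (c ^ (2 * k + 1) - 1) * Q v = 0 := by linear_combination -h4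
    exact sub_eq_zero.1 ((mul_eq_zero.1 h5).resolve_right hv)
  rw [pow_succ, pow_mul, pow_two, sq_one hF hc, one_pow, one_mul] at h3
  intro w
  rw [h, h3, one_mul]

/-- odd order: the automorphism is induced by an isometry of the same order -/
theorem exists_isom (hF : Fintype.card F = 3) (hQ : Nondeg Q) (hG : Good Q) {M : Gam Q} {k : ℕ}
    (hk : Psi Q M ^ (2 * k + 1) = 1) (hP : PS 2 (Psi Q M)) :
    ∃ g ∈ O Q, g ^ (2 * k + 1) = 1 ∧ PSg Q g ∧ ((∀ v, M.1 v = g v) ∨ ∀ v, M.1 v = -g v) := by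
  obtain ⟨g, c, hc, hg, hsim⟩ := exists_linear hF M
  obtain ⟨μ, hμ, hv⟩ := (psi_pow_iff hG M hg _).1 hk
  rcases eq_or_neg hF hμ (one_mul (1 : F)) with h1 | h1
  · have h2 : g ^ (2 * k + 1) = 1 := LinearEquiv.ext fun v => by rw [hv, h1, one_smul]; rfl
    exact ⟨g, isom_of_pow hF hQ hG hc hsim h2, h2, psg_of_ps hG hg hP, Or.inl hg⟩
  · set g' : V ≃ₗ[F] V := LinearEquiv.neg F * g with hg'
    have e1 : ∀ v, g' v = -g v := fun v => rfl
    have e2 : ∀ n, ∀ v, (g' ^ (2 * n)) v = (g ^ (2 * n)) v := by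
      intro n
      induction n with
      | zero => intro v; rfl
      | succ n ih =>
        intro v
        have e3 : ∀ f : V ≃ₗ[F] V, (f ^ (2 * (n + 1))) v = (f ^ (2 * n)) (f (f v)) := by
          intro f
          rw [show 2 * (n + 1) = 2 * n + 2 by ring, pow_add, pow_two]
          rfl
        rw [e3, e3, ih, e1, e1, map_neg, map_neg, map_neg, neg_neg]
    have h2 : g' ^ (2 * k + 1) = 1 := by
      apply LinearEquiv.ext
      intro v
      have e3 : (g' ^ (2 * k + 1)) v = (g' ^ (2 * k)) (g' v) := by rw [pow_succ]; rfl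
      have e4 : (g ^ (2 * k + 1)) v = (g ^ (2 * k)) (g v) := by rw [pow_succ]; rfl
      rw [e3, e2, e1, map_neg, ← e4, hv, h1, neg_smul, one_smul, neg_neg]
      rfl
    have hsim' : ∀ v, Q (g' v) = c * Q v := fun v => by rw [e1, QuadraticMap.map_neg, hsim]
    exact ⟨g', isom_of_pow hF hQ hG hc hsim' h2, h2, psg_neg hG hg e1 hP, Or.inr fun v => by rw [e1, neg_neg, hg]⟩

/-- **order three: long root elements** -/
theorem lr_of_psi [FiniteDimensional F V] (hF : Fintype.card F = 3) (hQ : Nondeg Q) (h7 : 7 ≤ finrank F V)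
    {M : Gam Q} (h3 : Psi Q M ^ 3 = 1) (hP : PS 2 (Psi Q M)) :
    ∃ g ∈ O Q, g ^ 3 = 1 ∧ LR Q g ∧ ((∀ v, M.1 v = g v) ∨ ∀ v, M.1 v = -g v) := by
  have hG : Good Q := good_of_finite hQ (by omega)
  obtain ⟨g, hg, h1, h2, h4⟩ := exists_isom hF hQ hG (k := 1) h3 hP
  refine ⟨g, hg, h1, lr_of_order_three hF hQ h7 hg (fun v => ?_) h2, h4⟩
  have : g (g (g v)) = (g ^ 3) v := by rw [pow_succ, pow_two]; rfl
  rw [this]
  change (g ^ (2 * 1 + 1)) v = v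
  rw [h1]
  rfl

/-- a long root element is a Siegel transformation -/
theorem LR.exists_siegel (hF : Fintype.card F = 3) (hQ : Nondeg Q) {g : V ≃ₗ[F] V} (h : LR Q g) (hne : g ≠ 1) :
    ∃ (a b : V) (ha : Q a = 0) (hab : polar Q a b = 0), Q b = 0 ∧ (∀ s t : F, s • a + t • b = 0 → s = 0 ∧ t = 0) ∧
      g = siegel Q a b ha hab := by
  have h0 : ∃ p, nn g p ≠ 0 := by
    by_contra hcon
    push Not at hcon
    exact hne (LinearEquiv.ext fun v => sub_eq_zero.1 (hcon v))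
  obtain ⟨p, q, hp, hpq⟩ := exists_pq hQ h0
  have s1 : ∀ x, Q (nn g x) = 0 := fun x => by rw [Q_eq_two_polar, h.sing, mul_zero]
  have q1 := self_zero h.skew q
  have q2 := self_zero h.skew p
  have q3 : polar Q (nn g q) p = -1 := by rw [h.skew, polar_comm, hpq]
  refine ⟨nn g p, nn g q, s1 p, h.sing p q, s1 q, ?_, ?_⟩
  · intro s t hst
    constructor
    · have h1 := congrArg (fun z => polar Q z q) hst
      simp only [polar_add_left, polar_smul_left, hpq, q1, polar_zero_left, smul_eq_mul, mul_one, mul_zero, add_zero] at h1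
      exact h1
    · have h1 := congrArg (fun z => polar Q z p) hst
      simp only [polar_add_left, polar_smul_left, q2, q3, polar_zero_left, smul_eq_mul, mul_zero, zero_add] at h1
      linear_combination -h1
  · apply LinearEquiv.ext
    intro v
    obtain ⟨a, b, hab⟩ := h.image hF (p := p) (q := q) (by rw [hpq]; exact one_ne_zero) v
    have ea : polar Q (nn g v) q = a := by
      rw [hab, polar_add_left, polar_smul_left, polar_smul_left, hpq, q1, smul_zero, add_zero, smul_eq_mul, mul_one]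
    have eb : polar Q (nn g v) p = -b := by
      rw [hab, polar_add_left, polar_smul_left, polar_smul_left, q2, q3, smul_zero, zero_add, smul_eq_mul]
      ring
    have ec : polar Q (nn g p) v = b := by
      rw [h.skew, polar_comm, eb, neg_neg]
    have ed : polar Q (nn g q) v = -a := by
      rw [h.skew, polar_comm, ea]
    rw [siegel_apply, s1, ec, ed, zero_mul, zero_smul, sub_zero, apply_eq g v]
    nth_rewrite 1 [hab]
    module

/-- **orders six and nine** -/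
theorem false_of_psi69 [FiniteDimensional F V] (hF : Fintype.card F = 3) (hQ : Nondeg Q) (h7 : 7 ≤ finrank F V)
    {x : MulAut (↥(E Q) ⧸ Subgroup.center ↥(E Q))} (hx : x ∈ (Psi Q).range) (ho : orderOf x = 6 ∨ orderOf x = 9)
    (hP : PS 2 x) : False := by
  have hG : Good Q := good_of_finite hQ (by omega)
  obtain ⟨M, rfl⟩ := hx
  rcases ho with ho | ho
  · obtain ⟨g, c, hc, hg, hsim⟩ := exists_linear hF M
    obtain ⟨l, hl, h6⟩ := (psi_pow_iff hG M hg 6).1 (by simp only [← ho]; exact pow_orderOf_eq_one _)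
    obtain ⟨v0, hv0⟩ := exists_ns_top hQ hG
    have hv00 : v0 ≠ 0 := by
      rintro rfl
      rw [QuadraticMap.map_zero] at hv0
      exact hv0 rfl
    have hns : ∀ n, (∃ μ : F, ∀ v, (g ^ n) v = μ • v) → Psi Q M ^ n = 1 := by
      rintro n ⟨μ, hμ⟩
      refine (psi_pow_iff hG M hg n).2 ⟨μ, ?_, hμ⟩
      rintro rfl
      have h1 := hμ v0
      rw [zero_smul] at h1
      exact hv00 ((LinearEquiv.map_eq_zero_iff _).1 h1)
    refine no_six hF hQ h7 (g' := LinearEquiv.neg F * g) hc hsim hl h6 (fun h => ?_) (fun h => ?_) (fun v => rfl)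
      (psg_of_ps hG hg hP) (psg_neg hG hg (fun v => rfl) hP)
    · have h1 := orderOf_dvd_of_pow_eq_one (hns 2 h)
      rw [ho] at h1
      exact absurd h1 (by decide)
    · have h1 := orderOf_dvd_of_pow_eq_one (hns 3 h)
      rw [ho] at h1
      exact absurd h1 (by decide)
  · obtain ⟨g, hg, h9, hPg, hM⟩ := exists_isom hF hQ hG (k := 4)
      (orderOf_dvd_iff_pow_eq_one.1 (by rw [ho])) hP
    have h3 := no_nine hF hQ h7 hg h9 hPg
    have h1 : Psi Q M ^ 3 = 1 := by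
      rcases hM with hM | hM
      · exact (psi_pow_iff hG M hM 3).2 ⟨1, one_ne_zero, fun v => by rw [h3, one_smul]; rfl⟩
      · have hob_ : ∃ g' : V ≃ₗ[F] V, ∀ v, g' v = -g v := ⟨LinearEquiv.neg F * g, fun _ => rfl⟩
        obtain ⟨g', hg'⟩ := hob_
        refine (psi_pow_iff hG M (g := g') (fun v => by rw [hM, hg']) 3).2
          ⟨-1, neg_ne_zero.2 one_ne_zero, fun v => ?_⟩
        have e1 : (g' ^ 3) v = -((g ^ 3) v) := by
          rw [pow_succ, pow_two, pow_succ, pow_two]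
          change g' (g' (g' v)) = -g (g (g v))
          rw [hg', hg', hg', map_neg, map_neg, map_neg, neg_neg]
        rw [e1, h3, neg_smul, one_smul]
        rfl
    have h2 := orderOf_dvd_of_pow_eq_one h1
    rw [ho] at h2
    exact absurd h2 (by decide)

/-! ### The rows -/

theorem charP_three {F : Type*} [Field F] [Fintype F] (hF : Fintype.card F = 3) : CharP F 3 := by
  have : Fact (Nat.Prime 3) := ⟨Nat.prime_three⟩
  exact charP_of_card_eq_prime hF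

section Rows

open Cfsg.Agent.LieClassical.OrthForms Cfsg.Agent.ClassicalGeometry.OrthSemiForms Cfsg.Agent.H21.SN

theorem r69_of_surj {F : Type*} [Field F] [Fintype F] {ι : Type} [Fintype ι] [DecidableEq ι]
    {Q : QuadraticForm F (ι → F)} (hF : Fintype.card F = 3) (hQ : Nondeg Q) (h7 : 7 ≤ Fintype.card ι)
    (hs : Function.Surjective (Psi Q)) {K : Type*} [Group K] [Finite K] (e : Nonempty (K ≃* Cfsg.POmega F ⇑Q)) :
    R69 K := by
  obtain ⟨e⟩ := e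
  have := charP_three hF
  have hd : 7 ≤ finrank F (ι → F) := by rwa [Module.finrank_fintype_fun_eq_card]
  have hG : Good Q := good_of_finite hQ (by omega)
  have hfin : Finite (↥(E Q) ⧸ Subgroup.center ↥(E Q)) := Finite.of_equiv _ (e.trans (pomegaEquiv hG)).toEquiv
  refine R69.congr (e.trans (pomegaEquiv hG)) ?_
  intro x ho hP _ _
  exact false_of_psi69 hF hQ hd (hs x) ho hP

/-- **`PΩ_{2m+1}(3)`** -/
theorem r69_odd {K : Type*} [Group K] [Finite K] {F : Type*} [Field F] [Fintype F]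
    (hF : Fintype.card F = 3) {m : ℕ} (hm : 3 ≤ m) (e : Nonempty (K ≃* Cfsg.POmega F (Cfsg.quadFormOdd m F))) :
    R69 K := by
  have := charP_three hF
  have h2 : (2 : F) ≠ 0 := by
    rw [two_eq]
    exact neg_ne_zero.2 one_ne_zero
  rw [← coe_oddForm] at e
  refine r69_of_surj hF (nondeg_oddForm m F h2) ?_ (Cfsg.Agent.AutOrth.Final.surjective_odd hm h2) e
  rw [Fintype.card_sum, Fintype.card_sum, Fintype.card_fin, Fintype.card_unit]
  omega

/-- **`PΩ⁻_{2m}(3)`** -/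
theorem r69_minus {K : Type*} [Group K] [Finite K] {F : Type*} [Field F] [Fintype F]
    (hF : Fintype.card F = 3) {m : ℕ} (hm : 4 ≤ m) {a b : F}
    (hab : ∀ z₁ z₂ : F, z₁ ^ 2 + a * z₁ * z₂ + b * z₂ ^ 2 = 0 → z₁ = 0 ∧ z₂ = 0)
    (e : Nonempty (K ≃* Cfsg.POmega F (Cfsg.quadFormMinus (m - 1) F a b))) : R69 K := by
  rw [← coe_minusForm] at e
  refine r69_of_surj hF (nondeg_minusForm (m - 1) F a b hab) ?_
    (Cfsg.Agent.AutOrth.Final.surjective_minus (by omega) hab) e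
  rw [Fintype.card_sum, Fintype.card_sum, Fintype.card_fin, Fintype.card_fin]
  omega

/-- **`PΩ⁺_{2m}(3)`, `m ≥ 5`** -/
theorem r69_plus {K : Type*} [Group K] [Finite K] {F : Type*} [Field F] [Fintype F]
    (hF : Fintype.card F = 3) {m : ℕ} (hm : 5 ≤ m) (e : Nonempty (K ≃* Cfsg.POmega F (Cfsg.quadFormPlus m F))) :
    R69 K := by
  rw [← coe_plusForm] at e
  refine r69_of_surj hF (nondeg_plusForm m F) ?_ (Cfsg.Agent.AutOrth.Final.surjective_plus hm) e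
  rw [Fintype.card_sum, Fintype.card_fin]
  omega

/-- **`PΩ⁺_8(3)`**: automorphisms conjugate to one induced by a similitude -/
theorem no69_plus_four {F : Type*} [Field F] [Fintype F] (hF : Fintype.card F = 3)
    {x : MulAut (↥(E (plusForm 4 F)) ⧸ Subgroup.center ↥(E (plusForm 4 F)))}
    (hx : ∃ a, a * x * a⁻¹ ∈ (Psi (plusForm 4 F)).range) (ho : orderOf x = 6 ∨ orderOf x = 9) (hP : PS 2 x) :
    False := by
  have := charP_three hF
  obtain ⟨a, ha⟩ := hx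
  have h1 : tr a x = a * x * a⁻¹ := rfl
  refine false_of_psi69 hF (nondeg_plusForm 4 F) ?_ ha ?_ ?_
  · rw [Module.finrank_fintype_fun_eq_card, Fintype.card_sum, Fintype.card_fin]
    norm_num
  · simp only [← h1, orderOf_tr]
    exact ho
  · rw [← h1]
    exact hP.tr a

end Rows

end Cfsg.Agent.H234.SN
end

private theorem dce_2cf700a85097 : _root_.True := by
  try have : _root_.True := by simp only [_root_.Cfsg.Agent.H234.SN.ph.congr_simp]
  try have : _root_.True := by simp only [_root_.Cfsg.Agent.H234.SN.CB.g.eq_1]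
  try have : _root_.True := by simp only [_root_.Cfsg.Agent.H234.SN.CD.g.eq_1]
  try have : _root_.True := by simp only [_root_.Cfsg.Agent.H234.SN.CA.G.eq_1]
  try have : _root_.True := by simp only [_root_.Cfsg.Agent.H234.SN.CH.g.eq_1]
  try have : _root_.True := by simp only [_root_.Cfsg.Agent.H234.SN.CC.g.eq_1]
  try have : _root_.True := by simp only [_root_.Cfsg.Agent.H234.SN.TM.eq_1]
  try have : _root_.True := by simp only [_root_.Cfsg.Agent.H234.SN.CG.g.eq_1]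
  try have : _root_.True := by simp only [_root_.Cfsg.Agent.H234.SN.SM.eq_1]
  try have : _root_.True := by simp only [_root_.Cfsg.Agent.H234.SN.CC.G.eq_1]
  try have : _root_.True := by simp only [_root_.Cfsg.Agent.H234.SN.CH.G.eq_1]
  try have : _root_.True := by simp only [_root_.Cfsg.Agent.H234.SN.CA.g.eq_1]
  try have : _root_.True := by simp only [_root_.Cfsg.Agent.H234.SN.comb.congr_simp]
  try have : _root_.True := by simp only [_root_.Cfsg.Agent.H234.SN.CD.G.eq_1]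
  try have : _root_.True := by simp only [_root_.Cfsg.Agent.H234.SN.CG.G.eq_1]
  try have : _root_.True := by simp only [_root_.Cfsg.Agent.H234.SN.CF.g.eq_1]
  exact _root_.True.intro
end
end
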